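import Mathlib
import Cfsg.Agent.Lib.Perm.StepTransitive

/-!
Symmetric designs with a two-transitive group in which each block carries a group of elations:
elements fixing the block pointwise and nothing outside it. First consequences: the parameters
and the lines of the design.
-/

set_option autoImplicit false
set_option linter.unusedSectionVars false

namespace CfsgLib.BlockElation

open MulAction

/-- A design with a two-transitive group and groups of elations `El x`. -/
structure Geo (G X Ω : Type*) [Group G] [MulAction G X] [MulAction G Ω] where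
  blk : X → Set Ω
  El : X → Subgroup G
  k : ℕ
  l : ℕ
  card_eq : Nat.card Ω = Nat.card X
  card_blk : ∀ x, (blk x).ncard = k
  card_inter : ∀ x y, x ≠ y → (blk x ∩ blk y).ncard = l
  card_through : ∀ p, {x | p ∈ blk x}.ncard = k
  card_pair : ∀ p q, p ≠ q → {x | p ∈ blk x ∧ q ∈ blk x}.ncard = l
  param : k * (k - 1) = l * (Nat.card X - 1)
  two_le : 2 ≤ k
  lt_card : k + 1 < Nat.card X
  fix_eq : ∀ g : G, (fixedBy X g).ncard = (fixedBy Ω g).ncard
  mem_blk : ∀ (g : G) (x : X) (p : Ω), g • p ∈ blk (g • x) ↔ p ∈ blk x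
  two_trans : ∀ x y x' y' : X, x ≠ y → x' ≠ y' → ∃ g : G, g • x = x' ∧ g • y = y'
  el_conj : ∀ (g : G) (x : X), ∀ e ∈ El x, g * e * g⁻¹ ∈ El (g • x)
  el_fix : ∀ x : X, ∀ e ∈ El x, ∀ p ∈ blk x, e • p = p
  el_semi : ∀ x : X, ∀ e ∈ El x, ∀ p ∉ blk x, e • p = p → e = 1
  el_ne : ∀ x : X, El x ≠ ⊥
  el_stab : ∀ x : X, ∀ e ∈ El x, e • x = x

namespace Geo

variable {G X Ω : Type*} [Group G] [MulAction G X] [MulAction G Ω]

/-- The line through two points (blocks) `x`, `y`. -/
def line (d : Geo G X Ω) (x y : X) : Set X := {z | d.blk x ∩ d.blk y ⊆ d.blk z}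

/-- The elations at `x` fixing `y`. -/
def elStab (d : Geo G X Ω) (x y : X) : Subgroup G := d.El x ⊓ stabilizer G y

variable [Finite G] [Finite X] [Finite Ω] (d : Geo G X Ω)

include d in
omit [Finite G] [Finite X] [Finite Ω] in
theorem exists_ne [Finite X] : ∃ x y : X, x ≠ y := by
  have := d.lt_card
  haveI : Nontrivial X := Finite.one_lt_card_iff_nontrivial.mp (by omega)
  exact exists_pair_ne X

/-- A first point. -/
noncomputable def x₀ : X := d.exists_ne.choose

/-- A second point. -/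
noncomputable def y₀ : X := d.exists_ne.choose_spec.choose

theorem x₀_ne_y₀ : d.x₀ ≠ d.y₀ := d.exists_ne.choose_spec.choose_spec

theorem l_pos : 1 ≤ d.l := by
  rcases Nat.eq_zero_or_pos d.l with h | h
  · have := d.param
    have := d.two_le
    rw [h, zero_mul, mul_eq_zero] at *
    omega
  · exact h

theorem inter_le (x y : X) : (d.blk x ∩ d.blk y).ncard ≤ d.k :=
  (Set.ncard_le_ncard Set.inter_subset_left).trans (d.card_blk x).le

theorem l_lt_k : d.l < d.k := by
  have h1 : d.l ≤ d.k := d.card_inter _ _ d.x₀_ne_y₀ ▸ d.inter_le _ _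
  rcases lt_or_eq_of_le h1 with h | h
  · exact h
  · exfalso
    have := d.param
    rw [h] at this
    have := Nat.eq_of_mul_eq_mul_left (by have := d.two_le; omega) this
    have := d.lt_card
    have := d.two_le
    omega

theorem eq_of_blk_subset {x y : X} (h : d.blk x ⊆ d.blk y) : x = y := by
  by_contra hne
  have := d.card_inter x y hne
  rw [Set.inter_eq_left.mpr h, d.card_blk] at this
  exact d.l_lt_k.ne' this

theorem el_map (g : G) (x : X) :
    (d.El x).map (MulAut.conj g).toMonoidHom = d.El (g • x) := by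
  ext e
  constructor
  · rintro ⟨f, hf, rfl⟩
    exact d.el_conj g x f hf
  · intro he
    refine ⟨g⁻¹ * e * g⁻¹⁻¹, ?_, by simp [mul_assoc]⟩
    simpa using d.el_conj g⁻¹ (g • x) e he

theorem el_normal {x : X} {g : G} (hg : g • x = x) {e : G} (he : e ∈ d.El x) :
    g * e * g⁻¹ ∈ d.El x := by
  have := d.el_conj g x e he
  rwa [hg] at this

theorem fixedBy_el {x : X} {e : G} (he : e ∈ d.El x) (h1 : e ≠ 1) :
    fixedBy Ω e = d.blk x := by
  ext p
  constructor
  · intro hp
    by_contra hn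
    exact h1 (d.el_semi x e he p hn hp)
  · exact d.el_fix x e he p

theorem card_fixed_el {x : X} {e : G} (he : e ∈ d.El x) (h1 : e ≠ 1) :
    (fixedBy X e).ncard = d.k := by
  rw [d.fix_eq, d.fixedBy_el he h1, d.card_blk]

theorem el_inf {x y : X} (hxy : x ≠ y) {e : G} (hx : e ∈ d.El x) (hy : e ∈ d.El y) : e = 1 := by
  by_contra h1
  exact hxy (d.eq_of_blk_subset (by rw [← d.fixedBy_el hx h1, d.fixedBy_el hy h1]))

theorem elStab_map (g : G) (x y : X) :
    (d.elStab x y).map (MulAut.conj g).toMonoidHom = d.elStab (g • x) (g • y) := by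
  rw [elStab, elStab, Subgroup.map_inf _ _ _ (MulAut.conj g).injective, d.el_map]
  congr 1
  ext e
  simp only [Subgroup.mem_map, mem_stabilizer_iff, MulEquiv.coe_toMonoidHom, MulAut.conj_apply]
  constructor
  · rintro ⟨f, hf, rfl⟩
    simp [mul_smul, hf]
  · intro he
    exact ⟨g⁻¹ * e * g, by simp [mul_smul, he], by group⟩

/-- The order of the elation groups. -/
noncomputable def s : ℕ := Nat.card (d.El d.x₀)

/-- The order of the stabiliser of a second point in an elation group. -/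
noncomputable def a : ℕ := Nat.card (d.elStab d.x₀ d.y₀)

/-- The length of the orbits of an elation group. -/
noncomputable def t : ℕ := (orbit (d.El d.x₀) d.y₀).ncard

theorem card_el (x : X) : Nat.card (d.El x) = d.s := by
  obtain ⟨g, hg, -⟩ : ∃ g : G, g • d.x₀ = x ∧ True := by
    by_cases h : x = d.x₀
    · exact ⟨1, by rw [one_smul, h], trivial⟩
    · obtain ⟨g, hg, -⟩ := d.two_trans _ _ x d.x₀ d.x₀_ne_y₀ h
      exact ⟨g, hg, trivial⟩
  rw [← hg, ← d.el_map, Subgroup.card_map_of_injective (MulAut.conj g).injective]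
  rfl

theorem card_elStab {x y : X} (h : x ≠ y) : Nat.card (d.elStab x y) = d.a := by
  obtain ⟨g, hg, hg'⟩ := d.two_trans _ _ x y d.x₀_ne_y₀ h
  rw [← hg, ← hg', ← d.elStab_map, Subgroup.card_map_of_injective (MulAut.conj g).injective]
  rfl

theorem card_orbit_mul (x y : X) :
    (orbit (d.El x) y).ncard * Nat.card (d.elStab x y) = Nat.card (d.El x) := by
  have h1 : Nat.card (stabilizer (d.El x) y) = Nat.card (d.elStab x y) := by
    refine Nat.card_congr ⟨fun e => ⟨e.1.1, e.1.2, e.2⟩, fun e => ⟨⟨e.1, e.2.1⟩, e.2.2⟩,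
      fun e => rfl, fun e => rfl⟩
  rw [← h1, ← index_stabilizer, Subgroup.index_mul_card]

theorem a_pos : 0 < d.a := Nat.card_pos

theorem card_orbit {x y : X} (h : x ≠ y) : (orbit (d.El x) y).ncard = d.t := by
  have h1 := d.card_orbit_mul x y
  have h2 := d.card_orbit_mul d.x₀ d.y₀
  rw [d.card_elStab h, d.card_el] at h1
  rw [d.card_elStab d.x₀_ne_y₀, d.card_el, ← h1] at h2
  exact (Nat.eq_of_mul_eq_mul_right d.a_pos h2).symm

theorem s_eq : d.s = d.t * d.a := by
  have h1 := d.card_orbit_mul d.x₀ d.y₀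
  rw [d.card_elStab d.x₀_ne_y₀, d.card_el, d.card_orbit d.x₀_ne_y₀] at h1
  exact h1.symm

theorem two_le_s : 2 ≤ d.s :=
  (Subgroup.one_lt_card_iff_ne_bot _).mpr (d.el_ne _)

theorem t_pos : 0 < d.t := by
  have := d.two_le_s
  rw [d.s_eq] at this
  rcases Nat.eq_zero_or_pos d.t with h | h
  · simp [h] at this
  · exact h

/-- The fixed points of the elations of one group, counted twice. -/
theorem fix_count : (Nat.card X - 1) * (d.a - 1) = (d.s - 1) * (d.k - 1) := by
  classical
  haveI := Fintype.ofFinite G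
  haveI := Fintype.ofFinite X
  let E : Finset G := Finset.univ.filter fun e => e ∈ d.El d.x₀ ∧ e ≠ 1
  let P : Finset X := Finset.univ.erase d.x₀
  have hE : E.card = d.s - 1 := by
    have : E = (Finset.univ.filter fun e => e ∈ d.El d.x₀).erase 1 := by
      ext e
      simp [E, and_comm]
    rw [this, Finset.card_erase_of_mem (by simp)]
    simp [s, Nat.card_eq_fintype_card, Fintype.card_subtype]
  have hP : P.card = Nat.card X - 1 := by
    rw [Finset.card_erase_of_mem (Finset.mem_univ _), Finset.card_univ, Nat.card_eq_fintype_card]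
  have key := Finset.sum_card_bipartiteAbove_eq_sum_card_bipartiteBelow
    (s := E) (t := P) (r := fun e y => e • y = y)
  have h1 : ∀ e ∈ E, (P.bipartiteAbove (fun e y => e • y = y) e).card = d.k - 1 := by
    intro e he
    obtain ⟨he, hne⟩ := (Finset.mem_filter.mp he).2
    have hfix := d.card_fixed_el he hne
    rw [Set.ncard_eq_toFinset_card'] at hfix
    have : P.bipartiteAbove (fun e y => e • y = y) e = (fixedBy X e).toFinset.erase d.x₀ := by
      ext y
      simp [P, Finset.bipartiteAbove]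
    rw [this, Finset.card_erase_of_mem (by simp [d.el_stab _ e he]), hfix]
  have h2 : ∀ y ∈ P, (E.bipartiteBelow (fun e y => e • y = y) y).card = d.a - 1 := by
    intro y hy
    have hne : d.x₀ ≠ y := (Finset.ne_of_mem_erase hy).symm
    have : E.bipartiteBelow (fun e y => e • y = y) y =
        (Finset.univ.filter fun e => e ∈ d.elStab d.x₀ y).erase 1 := by
      ext e
      simp [E, Finset.bipartiteBelow, elStab]; tauto
    rw [this, Finset.card_erase_of_mem (by simp)]
    rw [← d.card_elStab hne, Nat.card_eq_fintype_card, Fintype.card_subtype]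
  rw [Finset.sum_congr rfl h1, Finset.sum_congr rfl h2, Finset.sum_const, Finset.sum_const,
    smul_eq_mul, smul_eq_mul, hE, hP] at key
  exact key.symm

theorem key_eq : d.k * (d.a - 1) = d.l * (d.s - 1) := by
  have h := d.fix_count
  have hp := d.param
  have hk : 0 < d.k - 1 := by have := d.two_le; omega
  refine Nat.eq_of_mul_eq_mul_left hk ?_
  calc (d.k - 1) * (d.k * (d.a - 1)) = (d.k * (d.k - 1)) * (d.a - 1) := by ring
    _ = d.l * ((Nat.card X - 1) * (d.a - 1)) := by rw [hp]; ring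
    _ = (d.k - 1) * (d.l * (d.s - 1)) := by rw [h]; ring

theorem dvd_card_of_invariant {x : X} (S : Set X) (hx : x ∉ S)
    (hS : ∀ e ∈ d.El x, ∀ y ∈ S, e • y ∈ S) : d.t ∣ S.ncard :=
  Cfsg.Agent.Lib.Perm.dvd_ncard_of_orbits (G := d.El x) S S.toFinite (fun e y hy => hS e.1 e.2 y hy)
    fun y hy => (d.card_orbit (fun h : x = y => hx (h ▸ hy))).symm.dvd

theorem smul_mem_blk {x : X} {e : G} (he : e ∈ d.El x) {p : Ω} (hp : p ∈ d.blk x) (y : X) :
    p ∈ d.blk (e • y) ↔ p ∈ d.blk y := by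
  conv_lhs => rw [← d.el_fix x e he p hp]
  exact d.mem_blk e y p

theorem exists_mem_blk (x : X) : ∃ p q, p ∈ d.blk x ∧ q ∈ d.blk x ∧ p ≠ q := by
  obtain ⟨p, q, hp, hq, hne⟩ :=
    (Set.one_lt_ncard_iff (Set.toFinite (d.blk x))).mp (by rw [d.card_blk]; exact d.two_le)
  exact ⟨p, q, hp, hq, hne⟩

theorem t_dvd_k_sub : d.t ∣ d.k - 1 := by
  obtain ⟨p, -, hp, -, -⟩ := d.exists_mem_blk d.x₀
  have h := d.dvd_card_of_invariant (x := d.x₀) ({x | p ∈ d.blk x} \ {d.x₀}) (by simp) ?_
  · rwa [Set.ncard_sdiff_singleton_of_mem (by simpa using hp), d.card_through] at h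
  · intro e he y hy
    refine ⟨(d.smul_mem_blk he hp y).mpr hy.1, fun h => hy.2 ?_⟩
    exact MulAction.injective e (h.trans (d.el_stab _ e he).symm)

theorem t_dvd_l_sub : d.t ∣ d.l - 1 := by
  obtain ⟨p, q, hp, hq, hpq⟩ := d.exists_mem_blk d.x₀
  have h := d.dvd_card_of_invariant (x := d.x₀) ({x | p ∈ d.blk x ∧ q ∈ d.blk x} \ {d.x₀}) (by simp) ?_
  · rwa [Set.ncard_sdiff_singleton_of_mem (by exact ⟨hp, hq⟩), d.card_pair p q hpq] at h
  · intro e he y hy
    refine ⟨⟨(d.smul_mem_blk he hp y).mpr hy.1.1, (d.smul_mem_blk he hq y).mpr hy.1.2⟩, fun h => hy.2 ?_⟩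
    exact MulAction.injective e (h.trans (d.el_stab _ e he).symm)

theorem t_dvd_a : d.t ∣ d.a := by
  have hk : 1 ≤ d.k := by have := d.two_le; omega
  have hs : 1 ≤ d.s := by have := d.two_le_s; omega
  have h1 : ((d.k - 1 : ℕ) : ZMod d.t) = 0 := (ZMod.natCast_eq_zero_iff _ _).mpr d.t_dvd_k_sub
  have h2 : ((d.l - 1 : ℕ) : ZMod d.t) = 0 := (ZMod.natCast_eq_zero_iff _ _).mpr d.t_dvd_l_sub
  rw [Nat.cast_sub hk, Nat.cast_one, sub_eq_zero] at h1
  rw [Nat.cast_sub d.l_pos, Nat.cast_one, sub_eq_zero] at h2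
  have h3 := congrArg (fun n : ℕ => (n : ZMod d.t)) d.key_eq
  have ha : 1 ≤ d.a := d.a_pos
  rw [Nat.cast_mul, Nat.cast_mul, Nat.cast_sub ha, Nat.cast_sub hs, h1, h2, d.s_eq, Nat.cast_mul,
    ZMod.natCast_self] at h3
  simp only [Nat.cast_one, one_mul, zero_mul] at h3
  refine (ZMod.natCast_eq_zero_iff _ _).mp ?_
  linear_combination h3

theorem two_le_t : 2 ≤ d.t := by
  by_contra h
  have ht : d.t = 1 := by have := d.t_pos; omega
  have h1 := d.key_eq
  rw [d.s_eq, ht, one_mul] at h1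
  have h2 := d.two_le_s
  rw [d.s_eq, ht, one_mul] at h2
  exact d.l_lt_k.ne' (Nat.eq_of_mul_eq_mul_right (by omega) h1)

theorem k_le : d.k ≤ d.l * (d.t + 1) := by
  have h1 := d.key_eq
  have h2 : d.t ≤ d.a := Nat.le_of_dvd d.a_pos d.t_dvd_a
  have h3 := d.two_le_t
  rw [d.s_eq] at h1
  have h4 : d.t * d.a - 1 ≤ (d.t + 1) * (d.a - 1) := by
    obtain ⟨b, hb⟩ : ∃ b, d.a = b + 1 := ⟨d.a - 1, by omega⟩
    rw [hb] at h2 ⊢
    simp only [Nat.add_sub_cancel]
    rw [Nat.mul_add, mul_one, Nat.add_mul, one_mul]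
    omega
  refine Nat.le_of_mul_le_mul_right ?_ (show 0 < d.a - 1 by omega)
  calc d.k * (d.a - 1) = d.l * (d.t * d.a - 1) := h1
    _ ≤ d.l * ((d.t + 1) * (d.a - 1)) := Nat.mul_le_mul_left _ h4
    _ = d.l * (d.t + 1) * (d.a - 1) := by ring

/-- The complement of a block: `(v - k) * l = (k - l) * (k - 1)`. -/
theorem compl_mul : (Nat.card X - d.k) * d.l = (d.k - d.l) * (d.k - 1) := by
  have h1 := d.param
  have h2 := d.lt_card
  obtain ⟨j, hj⟩ : ∃ j, d.k = j + 1 := ⟨d.k - 1, by have := d.two_le; omega⟩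
  obtain ⟨i, hi⟩ : ∃ i, d.k = d.l + i := ⟨d.k - d.l, by have := d.l_lt_k; omega⟩
  obtain ⟨w, hw⟩ : ∃ w, Nat.card X = d.k + w := ⟨Nat.card X - d.k, by omega⟩
  rw [hw] at h1 ⊢
  rw [show d.k + w - d.k = w by omega, show d.k - d.l = i by omega]
  rw [show d.k + w - 1 = j + w by omega] at h1
  rw [show d.k - 1 = j by omega] at h1 ⊢
  rw [hi] at h1
  linarith

/-- The points off `x` with the same trace on `x` as `y`. -/
theorem line_bound {x y : X} (hxy : x ≠ y) :
    orbit (d.El x) y ⊆ d.line x y \ {x} ∧ (d.line x y \ {x}).ncard ≤ d.t := by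
  classical
  set T := d.blk x ∩ d.blk y with hT
  set C := d.line x y \ {x} with hC
  have htr : ∀ z ∈ C, d.blk x ∩ d.blk z = T := fun z hz =>
    (Set.eq_of_subset_of_ncard_le (Set.subset_inter Set.inter_subset_left hz.1)
      (by rw [d.card_inter x z (Ne.symm hz.2), d.card_inter x y hxy]) (Set.toFinite _)).symm
  have hsub : ∀ e ∈ d.El x, ∀ z ∈ C, e • z ∈ C := by
    intro e he z hz
    refine ⟨fun p hp => (d.smul_mem_blk he hp.1 z).mpr (hz.1 hp), fun h => hz.2 ?_⟩
    exact MulAction.injective e (h.trans (d.el_stab _ e he).symm)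
  have hy : y ∈ C := ⟨Set.inter_subset_right, hxy.symm⟩
  refine ⟨?_, ?_⟩
  · rintro _ ⟨e, rfl⟩
    exact hsub e.1 e.2 y hy
  haveI := Fintype.ofFinite X
  haveI := Fintype.ofFinite Ω
  have hdisj : (C.toFinset : Set X).PairwiseDisjoint fun z => (d.blk z \ d.blk x).toFinset := by
    intro z hz w hw hzw
    rw [Finset.mem_coe, Set.mem_toFinset] at hz hw
    rw [Function.onFun, Finset.disjoint_left]
    intro p hp hp'
    rw [Set.mem_toFinset] at hp hp'
    have h := d.card_inter z w hzw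
    have h2 : T = d.blk z ∩ d.blk w := Set.eq_of_subset_of_ncard_le
      (Set.subset_inter hz.1 hw.1) (by rw [h, d.card_inter x y hxy]) (Set.toFinite _)
    exact hp.2 (show p ∈ T from h2 ▸ ⟨hp.1, hp'.1⟩).1
  have hcard : ∀ z ∈ C.toFinset, (d.blk z \ d.blk x).toFinset.card = d.k - d.l := by
    intro z hz
    rw [Set.mem_toFinset] at hz
    rw [← Set.ncard_eq_toFinset_card', ← Set.sdiff_inter_self_eq_sdiff,
      Set.ncard_sdiff Set.inter_subset_right, d.card_blk, d.card_inter x z (Ne.symm hz.2)]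
  have h1 : C.ncard * (d.k - d.l) ≤ Nat.card X - d.k := by
    calc C.ncard * (d.k - d.l) = (C.toFinset.biUnion fun z => (d.blk z \ d.blk x).toFinset).card := by
          rw [Finset.card_biUnion hdisj, Finset.sum_congr rfl hcard, Finset.sum_const, smul_eq_mul,
            Set.ncard_eq_toFinset_card']
      _ ≤ ((d.blk x)ᶜ).toFinset.card := Finset.card_le_card fun p hp => by
          simp only [Finset.mem_biUnion, Set.mem_toFinset] at hp ⊢
          obtain ⟨z, -, h⟩ := hp
          exact h.2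
      _ = Nat.card X - d.k := by
          rw [← Set.ncard_eq_toFinset_card', Set.ncard_compl, d.card_blk, d.card_eq]
  have h2 : C.ncard * d.l ≤ d.k - 1 := by
    refine Nat.le_of_mul_le_mul_left ?_ (Nat.sub_pos_of_lt d.l_lt_k)
    calc (d.k - d.l) * (C.ncard * d.l) = C.ncard * (d.k - d.l) * d.l := by ring
      _ ≤ (Nat.card X - d.k) * d.l := Nat.mul_le_mul_right _ h1
      _ = (d.k - d.l) * (d.k - 1) := d.compl_mul
  obtain ⟨j, hj⟩ : d.t ∣ C.ncard := d.dvd_card_of_invariant C (by simp [hC]) hsub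
  by_contra hgt
  have hj2 : 2 ≤ j := by
    by_contra h
    apply hgt
    rw [hj]
    calc d.t * j ≤ d.t * 1 := Nat.mul_le_mul_left _ (by omega)
      _ = d.t := mul_one _
  have h3 : (d.t + 1) * d.l ≤ C.ncard * d.l := by
    refine Nat.mul_le_mul_right _ ?_
    rw [hj]
    calc d.t + 1 ≤ d.t * 2 := by have := d.two_le_t; omega
      _ ≤ d.t * j := Nat.mul_le_mul_left _ hj2
  have h4 := d.k_le
  have h5 := d.two_le
  rw [mul_comm d.l] at h4
  omega

theorem line_sdiff {x y : X} (hxy : x ≠ y) : d.line x y \ {x} = orbit (d.El x) y :=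
  (Set.eq_of_subset_of_ncard_le (d.line_bound hxy).1
    (by rw [d.card_orbit hxy]; exact (d.line_bound hxy).2) (Set.toFinite _)).symm

theorem left_mem_line (x y : X) : x ∈ d.line x y := Set.inter_subset_left

theorem right_mem_line (x y : X) : y ∈ d.line x y := Set.inter_subset_right

theorem line_comm (x y : X) : d.line x y = d.line y x := by
  rw [line, line, Set.inter_comm]

theorem card_line {x y : X} (hxy : x ≠ y) : (d.line x y).ncard = d.t + 1 := by
  rw [← Set.ncard_sdiff_singleton_add_one (d.left_mem_line x y), d.line_sdiff hxy, d.card_orbit hxy]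

theorem line_eq {x y z w : X} (hxy : x ≠ y) (hz : z ∈ d.line x y) (hw : w ∈ d.line x y) (hzw : z ≠ w) :
    d.line z w = d.line x y := by
  have h : d.blk x ∩ d.blk y = d.blk z ∩ d.blk w := Set.eq_of_subset_of_ncard_le
    (Set.subset_inter hz hw) (by rw [d.card_inter z w hzw, d.card_inter x y hxy]) (Set.toFinite _)
  rw [line, line, h]

theorem line_eq_left {x y z : X} (hxy : x ≠ y) (hz : z ∈ d.line x y) (hzx : z ≠ x) :
    d.line x z = d.line x y := d.line_eq hxy (d.left_mem_line x y) hz hzx.symm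

theorem smul_mem_line (g : G) {x y z : X} (hz : z ∈ d.line x y) :
    g • z ∈ d.line (g • x) (g • y) := by
  rintro p ⟨hx, hy⟩
  rw [← smul_inv_smul g p] at hx hy ⊢
  rw [d.mem_blk] at hx hy ⊢
  exact hz ⟨hx, hy⟩

theorem exists_el_of_mem_line {x y z : X} (hxy : x ≠ y) (hz : z ∈ d.line x y) (hzx : z ≠ x) :
    ∃ e ∈ d.El x, e • y = z := by
  obtain ⟨e, rfl⟩ : z ∈ orbit (d.El x) y := d.line_sdiff hxy ▸ ⟨hz, hzx⟩
  exact ⟨e.1, e.2, rfl⟩

theorem smul_el_mem_line {x : X} {e : G} (he : e ∈ d.El x) (y : X) : e • y ∈ d.line x y := by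
  rcases eq_or_ne x y with rfl | h
  · rw [d.el_stab _ e he]
    exact d.left_mem_line _ _
  · exact ((d.line_bound h).1 ⟨⟨e, he⟩, rfl⟩).1

end Geo

end CfsgLib.BlockElation
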