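import Cfsg.Agent.Lib.BlockElation.Linear

/-!
A design with a two-transitive group and elation groups at all blocks: the elations generate a
normal subgroup isomorphic to `PSL` with trivial centraliser.
-/

set_option autoImplicit false
set_option linter.unusedSectionVars false

namespace CfsgLib.BlockElation

open MulAction
open scoped LinearAlgebra.Projectivization

variable {G X Ω : Type*} [Group G] [MulAction G X] [MulAction G Ω] [Finite G] [Finite X] [Finite Ω]
  [FaithfulSMul G X]

/-- The subgroup generated by all elations. -/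
def Geo.elClosure (d : Geo G X Ω) : Subgroup G := Subgroup.closure (⋃ x, (d.El x : Set G))

theorem Geo.elClosure_normal (d : Geo G X Ω) : d.elClosure.Normal := by
  refine Subgroup.normalizer_eq_top_iff.mp (eq_top_iff.mpr fun g _ => ?_)
  have key : ∀ g : G, ∀ n ∈ d.elClosure, g * n * g⁻¹ ∈ d.elClosure := by
    intro g n hn
    induction hn using Subgroup.closure_induction with
    | mem x hx =>
      obtain ⟨y, hy⟩ := Set.mem_iUnion.mp hx
      exact Subgroup.subset_closure (Set.mem_iUnion.mpr ⟨g • y, d.el_conj g y x hy⟩)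
    | one => simp
    | mul a b _ _ ha hb =>
      rw [show g * (a * b) * g⁻¹ = g * a * g⁻¹ * (g * b * g⁻¹) by group]
      exact mul_mem ha hb
    | inv a _ ha =>
      rw [show g * a⁻¹ * g⁻¹ = (g * a * g⁻¹)⁻¹ by group]
      exact inv_mem ha
  refine Subgroup.mem_normalizer_iff.mpr fun n => ⟨key g n, fun h => ?_⟩
  have h2 := key g⁻¹ _ h
  rwa [show g⁻¹ * (g * n * g⁻¹) * g⁻¹⁻¹ = n by group] at h2

namespace Frame.Coord

variable {d : Geo G X Ω} {fr : Frame d} (c : fr.Coord)

/-- The permutations of the points from `PSL`. -/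
noncomputable def projGroup : Subgroup (Equiv.Perm X) := c.phi.range

theorem act_mem (L : c.SL) : c.act L ∈ c.projGroup := ⟨_, rfl⟩

theorem projGroup_le : c.projGroup ≤ d.elClosure.map (MulAction.toPermHom G X) := by
  haveI : Nontrivial (Fin (fr.M + 1)) := Fin.nontrivial_iff_two_le.mpr (by have := fr.two_le_M; omega)
  have h := CfsgLib.Classical.eq_top_of_transvection_mem
    ((d.elClosure.map (MulAction.toPermHom G X)).comap (c.phi.comp (QuotientGroup.mk' _)))
    fun a b hab κ => by
      obtain ⟨g, ⟨x, hx⟩, hg⟩ := c.exists_act_transvection hab κ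
      exact Subgroup.mem_map.mpr ⟨g, Subgroup.subset_closure (Set.mem_iUnion.mpr ⟨x, hx⟩), hg⟩
  rintro _ ⟨p, rfl⟩
  obtain ⟨L, rfl⟩ := QuotientGroup.mk_surjective p
  exact Subgroup.mem_comap.mp (h ▸ Subgroup.mem_top L : L ∈ Subgroup.comap _ _)

theorem S₀_fix {j : Fin fr.M} {e : G} (he : e ∈ c.S₀ j) (hj : e • fr.f j = fr.f j) : e = 1 := by
  obtain ⟨κ, hκ⟩ := c.S₀_act he
  obtain ⟨a, ha⟩ := c.vec_f j
  have ha0 : a ≠ 0 := fun h => c.vec_ne_zero (fr.f j) (by rw [ha, h, Pi.single_zero])
  obtain ⟨b, hb⟩ := c.vec_act (Matrix.SpecialLinearGroup.transvection (Fin.castSucc_lt_last j).ne' κ) (fr.f j)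
  rw [← hκ, MulAction.toPerm_apply, hj, c.transvection_smul, ha] at hb
  have h1 := congrFun hb (Fin.last fr.M)
  simp [(Fin.castSucc_lt_last j).ne'] at h1
  have hb0 : b ≠ 0 := fun h => by
    have h2 := congrFun hb j.castSucc
    simp [h, (Fin.castSucc_lt_last j).ne] at h2
    exact ha0 h2.symm
  have hκ0 : κ = 0 := by
    rcases h1 with h | h | h
    · exact absurd h hb0
    · exact h
    · exact absurd h ha0
  refine MulAction.toPerm_injective (α := G) (β := X) (hκ.trans ?_)
  subst hκ0
  refine Equiv.ext fun x => ?_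
  rw [MulAction.toPerm_apply, one_smul]
  refine c.act_eq (a := 1) ?_
  rw [one_smul, c.transvection_smul, zero_mul, add_zero, Function.update_eq_self]

theorem el_origin_le : d.El fr.o ≤ c.projGroup.comap (MulAction.toPermHom G X) := by
  classical
  have hS : ∀ j, c.S₀ j ≤ d.El fr.o ⊓ c.projGroup.comap (MulAction.toPermHom G X) := fun j e he => by
    obtain ⟨κ, hκ⟩ := c.S₀_act he
    refine ⟨(c.mem_S₀.mp he).1, ?_⟩
    show MulAction.toPermHom G X e ∈ c.projGroup
    rw [show MulAction.toPermHom G X e = MulAction.toPerm e from rfl, hκ]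
    exact c.act_mem _
  have key : ∀ J : Finset (Fin fr.M), d.t ^ J.card ≤ Nat.card (⨆ j ∈ J, c.S₀ j : Subgroup G) := by
    intro J
    induction J using Finset.induction_on with
    | empty => simpa using Nat.card_pos
    | @insert j J hj ih =>
      rw [Finset.card_insert_of_notMem hj, pow_succ]
      set L : Subgroup G := ⨆ i ∈ J, c.S₀ i with hL
      have hdis : Disjoint L (c.S₀ j) := by
        rw [Subgroup.disjoint_def]
        intro e heL he
        refine c.S₀_fix he ?_
        have hle : L ≤ stabilizer G (fr.f j) := iSup₂_le fun i hi g hg =>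
          (c.mem_S₀.mp hg).2 j fun h => hj (h ▸ hi)
        exact hle heL
      have hinj := Subgroup.mul_injective_of_disjoint hdis
      have hle : ∀ p : L × c.S₀ j, (p.1 : G) * p.2 ∈ (⨆ i ∈ insert j J, c.S₀ i : Subgroup G) := fun p =>
        mul_mem ((iSup₂_le fun i hi => le_iSup₂_of_le i (Finset.mem_insert_of_mem hi) le_rfl :
            L ≤ ⨆ i ∈ insert j J, c.S₀ i) p.1.2)
          ((le_iSup₂_of_le j (Finset.mem_insert_self j J) le_rfl :
            c.S₀ j ≤ ⨆ i ∈ insert j J, c.S₀ i) p.2.2)
      refine le_trans ?_ (Nat.card_le_card_of_injective (fun p => (⟨_, hle p⟩ :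
        (⨆ i ∈ insert j J, c.S₀ i : Subgroup G))) fun p q h => hinj (congrArg Subtype.val h))
      rw [Nat.card_prod]
      exact Nat.mul_le_mul ih (c.le_card_S₀ j)
  have h := key Finset.univ
  rw [Finset.card_univ, Fintype.card_fin, ← fr.card_W, ← d.s_eq_card fr.hH, ← d.card_el fr.o] at h
  have hle : (⨆ j ∈ (Finset.univ : Finset (Fin fr.M)), c.S₀ j : Subgroup G) ≤
      d.El fr.o ⊓ c.projGroup.comap (MulAction.toPermHom G X) := iSup₂_le fun j _ => hS j
  have heq := Subgroup.eq_of_le_of_card_ge (inf_le_left : d.El fr.o ⊓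
    c.projGroup.comap (MulAction.toPermHom G X) ≤ d.El fr.o) (h.trans (Subgroup.card_le_of_le hle))
  exact inf_eq_left.mp heq

theorem map_elClosure : d.elClosure.map (MulAction.toPermHom G X) = c.projGroup := by
  refine le_antisymm (Subgroup.map_le_iff_le_comap.mpr ((Subgroup.closure_le _).mpr ?_)) c.projGroup_le
  intro e he
  obtain ⟨x, hx⟩ := Set.mem_iUnion.mp he
  haveI : IsPretransitive c.SL (ℙ c.F c.Vec) :=
    (inferInstance : IsPreprimitive c.SL (ℙ c.F c.Vec)).toIsPretransitive
  obtain ⟨L, hL⟩ := MulAction.exists_smul_eq c.SL (c.toProj fr.o) (c.toProj x)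
  obtain ⟨n, -, hn⟩ := c.projGroup_le (c.act_mem L)
  have hnP : n ∈ c.projGroup.comap (MulAction.toPermHom G X) := by
    show MulAction.toPermHom G X n ∈ c.projGroup
    rw [hn]
    exact c.act_mem L
  have hno : n • fr.o = x := by
    have : c.toProj (c.act L fr.o) = c.toProj x := (c.proj_act L fr.o).trans hL
    rw [← c.toProj_bijective.1 this, ← hn]
    rfl
  rw [← hno] at hx
  have h2 := d.el_conj n⁻¹ _ _ hx
  rw [inv_smul_smul] at h2
  have h3 := mul_mem (mul_mem hnP (c.el_origin_le h2)) (inv_mem hnP)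
  rwa [show n * (n⁻¹ * e * n⁻¹⁻¹) * n⁻¹ = e by group] at h3

end Frame.Coord

/-- The recognition of projective space. -/
theorem Geo.recognition (d : Geo G X Ω) : ∃ (m : ℕ) (F : Type) (_ : Field F) (_ : Fintype F), 2 ≤ m ∧
    Nat.card X = (Fintype.card F ^ (m + 1) - 1) / (Fintype.card F - 1) ∧
    ∃ N : Subgroup G, N.Normal ∧
      Nonempty (N ≃* Matrix.ProjectiveSpecialLinearGroup (Fin (m + 1)) F) ∧
      Subgroup.centralizer (N : Set G) = ⊥ := by
  obtain ⟨fr⟩ := frame_nonempty d
  obtain ⟨c⟩ := fr.exists_coord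
  letI := Fintype.ofFinite c.F
  refine ⟨fr.M, c.F, inferInstance, inferInstance, fr.two_le_M, ?_, d.elClosure,
    d.elClosure_normal, ⟨?_⟩, ?_⟩
  · rw [Nat.card_congr c.projEquiv, Projectivization.card'', Nat.card_fun,
      Nat.card_eq_fintype_card (α := Fin (fr.M + 1)), Fintype.card_fin, ← Nat.card_eq_fintype_card]
  · exact (d.elClosure.equivMapOfInjective (MulAction.toPermHom G X) MulAction.toPerm_injective).trans
      ((MulEquiv.subgroupCongr c.map_elClosure).trans (MonoidHom.ofInjective c.phi_injective).symm)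
  · rw [Subgroup.eq_bot_iff_forall]
    intro g hg
    refine FaithfulSMul.eq_of_smul_eq_smul fun x : X => ?_
    rw [one_smul]
    by_contra hx
    obtain ⟨e, he1, he⟩ : ∃ e, e ≠ 1 ∧ e ∈ d.El x := by
      by_contra h
      simp only [not_exists, not_and] at h
      exact d.el_ne x ((Subgroup.eq_bot_iff_forall _).mpr fun e he => by_contra fun h1 => h e h1 he)
    have h1 : e * g = g * e := Subgroup.mem_centralizer_iff.mp hg e
      (Subgroup.subset_closure (Set.mem_iUnion.mpr ⟨x, he⟩))
    have h2 := d.el_conj g x e he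
    rw [← h1, mul_inv_cancel_right] at h2
    exact he1 (d.el_inf (Ne.symm hx) he h2)

end CfsgLib.BlockElation
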