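import Cfsg.Agent.Lib.BlockElation.Design
import Cfsg.Agent.Lib.BlockElation.Recognition
import Cfsg.Agent.Lib.FrobCompl.Kernel
import Cfsg.Agent.Lib.FrobCompl.Counting

/-!
Elation groups at the blocks: the fixed-point-free elements of the kernel of the action of the
subgroup on its orbit form a group.
-/

set_option autoImplicit false
set_option linter.unusedSectionVars false

namespace CfsgLib.BlockElation.Data

open MulAction
open scoped Pointwise

variable {G Ω : Type*} [Group G] [MulAction G Ω] [Finite G] [Finite Ω] [FaithfulSMul G Ω]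
  {H : Subgroup G} {B : Set Ω} (D : Data H B)
include D

/-- The kernel of the subgroup on its orbit. -/
def ker (_ : Data H B) : Subgroup G := H ⊓ fixingSubgroup G B

theorem mem_ker {g : G} : g ∈ D.ker ↔ g ∈ H ∧ ∀ p ∈ B, g • p = p := by
  simp [ker, mem_fixingSubgroup_iff]

theorem conj_ker {h : G} (hh : h ∈ H) {g : G} (hg : g ∈ D.ker) : h * g * h⁻¹ ∈ D.ker := by
  obtain ⟨hgH, hgB⟩ := D.mem_ker.mp hg
  refine D.mem_ker.mpr ⟨mul_mem (mul_mem hh hgH) (inv_mem hh), fun p hp => ?_⟩
  rw [mul_smul, mul_smul, hgB _ ((D.inv _ (inv_mem hh) p).mpr hp), smul_inv_smul]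

theorem blk_one : D.blk ((1 : G) : G ⧸ H) = B := by
  ext p
  rw [D.mem_blk_mk, inv_one, one_smul]

theorem fix_unique {g : G} (hg : g ∈ D.ker) (h1 : g ≠ 1) {x x' : Ω} (hx : x ∉ B) (hx' : x' ∉ B)
    (hgx : g • x = x) (hgx' : g • x' = x') : x = x' := by
  classical
  by_contra hne
  obtain ⟨-, hgB⟩ := D.mem_ker.mp hg
  have hblk : ∀ z, z ∉ B → g • z = z → ∀ C, z ∈ D.blk C → g • C = C := by
    intro z hz hgz C hzC
    by_contra hC
    have hC1 : C ≠ ((1 : G) : G ⧸ H) := fun h => hz (by rw [h, D.blk_one] at hzC; exact hzC)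
    have hsub : D.blk C ∩ B ⊆ D.blk C ∩ D.blk (g • C) := fun p hp => ⟨hp.1, by
      rw [← hgB p hp.2]
      exact (D.mem_blk_smul g C p).mpr hp.1⟩
    have hCB := D.card_inter hC1
    rw [D.blk_one] at hCB
    have heq : D.blk C ∩ B = D.blk C ∩ D.blk (g • C) := Set.eq_of_subset_of_ncard_le hsub
      (by rw [D.card_inter (Ne.symm hC), hCB]) (Set.toFinite _)
    have : z ∈ D.blk C ∩ B := by
      rw [heq]
      exact ⟨hzC, by rw [← hgz]; exact (D.mem_blk_smul g C z).mpr hzC⟩
    exact hz this.2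
  obtain ⟨y, hy⟩ : ∃ y, g • y ≠ y := by
    by_contra h
    simp only [not_exists, not_not] at h
    exact h1 (FaithfulSMul.eq_of_smul_eq_smul fun p : Ω => (h p).trans (one_smul G p).symm)
  have key : ∀ z, z ∉ B → g • z = z → ∀ y, g • y ≠ y →
      {C | z ∈ D.blk C ∧ y ∈ D.blk C} = {C | y ∈ D.blk C ∧ g • y ∈ D.blk C} := by
    intro z hz hgz y hy
    refine Set.eq_of_subset_of_ncard_le (fun C hC => ⟨hC.2, ?_⟩) ?_ (Set.toFinite _)
    · have h := (D.mem_blk_smul g C y).mpr hC.2
      rwa [hblk z hz hgz C hC.1] at h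
    · rw [D.card_pair (Ne.symm hy), D.card_pair (fun h : z = y => hy (h ▸ hgz))]
  have key2 : ∀ z, z ∉ B → g • z = z → z ≠ x → ∀ y, g • y ≠ y →
      {C | x ∈ D.blk C ∧ y ∈ D.blk C} = {C | x ∈ D.blk C ∧ z ∈ D.blk C} := by
    intro z hz hgz hzx y hy
    refine Set.eq_of_subset_of_ncard_le (fun C hC => ⟨hC.1, ?_⟩) ?_ (Set.toFinite _)
    · have h := hC
      rw [key x hx hgx y hy, ← key z hz hgz y hy] at h
      exact h.1
    · rw [D.card_pair hzx.symm, D.card_pair (fun h : x = y => hy (h ▸ hgx))]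
  obtain ⟨C, hC⟩ : {C | x ∈ D.blk C ∧ x' ∈ D.blk C}.Nonempty := by
    rw [← Set.ncard_pos, D.card_pair hne]
    exact D.lam_pos
  have hCu : D.blk C ∪ B = Set.univ := by
    refine Set.eq_univ_of_forall fun p => ?_
    by_cases hpB : p ∈ B
    · exact Or.inr hpB
    refine Or.inl ?_
    by_cases hp : g • p = p
    · rcases eq_or_ne p x with rfl | hpx
      · exact hC.1
      have h := hC
      rw [← key2 x' hx' hgx' (Ne.symm hne) y hy, key2 p hpB hp hpx y hy] at h
      exact h.2
    · have h := hC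
      rw [← key2 x' hx' hgx' (Ne.symm hne) p hp] at h
      exact h.2
  have hC1 : C ≠ ((1 : G) : G ⧸ H) := fun h => hx (by
    have h2 := hC.1
    rw [h, D.blk_one] at h2
    exact h2)
  have hcard := Set.ncard_union_add_ncard_inter (D.blk C) B
  rw [hCu, Set.ncard_univ, D.card_blk] at hcard
  have hCB := D.card_inter hC1
  rw [D.blk_one] at hCB
  rw [hCB] at hcard
  have hp := D.param
  have hl := D.lam_lt
  have hlt := D.lt
  obtain ⟨e, he⟩ : ∃ e, B.ncard = D.lam + (e + 1) := ⟨B.ncard - D.lam - 1, by omega⟩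
  rw [he, show Nat.card Ω = D.lam + 2 * (e + 1) by omega,
    show D.lam + (e + 1) - 1 = D.lam + e by omega,
    show D.lam + 2 * (e + 1) - 1 = D.lam + 2 * e + 1 by omega] at hp
  have : e * (e + 1) = 0 := by nlinarith
  rcases Nat.mul_eq_zero.mp this with h | h <;> omega

/-- The property defining elations at the base block. -/
def IsEl (g : G) : Prop := g ∈ D.ker ∧ (g = 1 ∨ ∀ p, p ∉ B → g • p ≠ p)

theorem exists_elGroup : ∃ E : Subgroup G, E ≠ ⊥ ∧ ∀ g, g ∈ E ↔ D.IsEl g := by
  classical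
  obtain ⟨g₀, hg₀H, hg₀1, hg₀B⟩ := D.unf
  by_cases hA : ∀ g ∈ D.ker, g ≠ 1 → ∀ p, p ∉ B → g • p ≠ p
  · refine ⟨D.ker, fun h => hg₀1 ?_, fun g => ⟨fun hg => ⟨hg, ?_⟩, fun hg => hg.1⟩⟩
    · exact (Subgroup.eq_bot_iff_forall _).mp h g₀ (D.mem_ker.mpr ⟨hg₀H, hg₀B⟩)
    · exact or_iff_not_imp_left.mpr (hA g hg)
  simp only [not_forall, not_not] at hA
  obtain ⟨g₁, hg₁, hg₁1, x, hxB, hg₁x⟩ := hA
  set K := D.ker with hK
  have hconj : ∀ p, p ∉ B → Nat.card (stabilizer K p) = Nat.card (stabilizer K x) := by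
    intro p hp
    obtain ⟨h, hh, hhp⟩ := D.co_trans x hxB p hp
    subst hhp
    have h1 : ∀ k : stabilizer K x, (⟨h * k.1.1 * h⁻¹, D.conj_ker hh k.1.2⟩ : K) ∈ stabilizer K (h • x) :=
      fun k => by
        show (h * k.1.1 * h⁻¹) • h • x = h • x
        rw [mul_smul, mul_smul, inv_smul_smul, show k.1.1 • x = x from k.2]
    have h2 : ∀ k : stabilizer K (h • x),
        (⟨h⁻¹ * k.1.1 * h⁻¹⁻¹, D.conj_ker (inv_mem hh) k.1.2⟩ : K) ∈ stabilizer K x := fun k => by
      show (h⁻¹ * k.1.1 * h⁻¹⁻¹) • x = x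
      rw [mul_smul, mul_smul, inv_inv, show k.1.1 • h • x = h • x from k.2, inv_smul_smul]
    exact (Nat.card_congr ⟨fun k => ⟨_, h1 k⟩, fun k => ⟨_, h2 k⟩,
      fun k => Subtype.ext (Subtype.ext (by simp [mul_assoc])),
      fun k => Subtype.ext (Subtype.ext (by simp [mul_assoc]))⟩).symm
  set c := Nat.card (stabilizer K x) with hc
  have hc2 : 2 ≤ c := Finite.one_lt_card_iff_nontrivial.mpr
    ⟨⟨⟨⟨g₁, hg₁⟩, hg₁x⟩, 1, fun h => hg₁1 (congrArg (fun w : stabilizer K x => (w.1.1 : G)) h)⟩⟩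
  have horb : ∀ p, p ∉ B → orbit K p ⊆ Bᶜ := by
    rintro p hp _ ⟨k, rfl⟩
    exact fun h => hp ((D.inv _ (D.mem_ker.mp k.2).1 p).mp h)
  have hm : ∀ p, p ∉ B → (orbit K p).ncard * c = Nat.card K := fun p hp => by
    rw [← index_stabilizer, ← hconj p hp, Subgroup.index_mul_card]
  have htrans : orbit K x = Bᶜ := by
    refine Set.Subset.antisymm (horb x hxB) fun z hz => ?_
    by_contra hzO
    have hdis : Disjoint (orbit K x) (orbit K z) := by
      refine Set.disjoint_left.mpr fun p hp hp' => hzO ?_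
      rw [← orbit_eq_iff.mpr hp, orbit_eq_iff.mpr hp']
      exact mem_orbit_self z
    have h2 : (orbit K x).ncard + (orbit K z).ncard ≤ (Bᶜ : Set Ω).ncard := by
      rw [← Set.ncard_union_eq hdis]
      exact Set.ncard_le_ncard (Set.union_subset (horb x hxB) (horb z hz))
    haveI := Fintype.ofFinite (Bᶜ : Set Ω)
    have hcnt : ∀ p : (Bᶜ : Set Ω), Nat.card {k : K // k ≠ 1 ∧ k • (p : Ω) = p} = c - 1 := fun p => by
      rw [show c = ((stabilizer K (p : Ω) : Set K)).ncard from (hconj p.1 p.2).symm,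
        ← Set.ncard_sdiff_singleton_of_mem (one_mem (stabilizer K (p : Ω))), ← Nat.card_coe_set_eq]
      exact Nat.card_congr (Equiv.subtypeEquivRight fun k => ⟨fun h => ⟨h.2, h.1⟩, fun h => ⟨h.2, h.1⟩⟩)
    have hinj := Nat.card_le_card_of_injective
      (fun s : Σ p : (Bᶜ : Set Ω), {k : K // k ≠ 1 ∧ k • (p : Ω) = p} => (⟨s.2.1, s.2.2.1⟩ : {k : K // k ≠ 1}))
      (by
        rintro ⟨p, k, hk1, hkp⟩ ⟨p', k', hk1', hkp'⟩ h
        obtain rfl : k = k' := congrArg Subtype.val h
        obtain rfl : p = p' := Subtype.ext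
          (D.fix_unique k.2 (fun h => hk1 (Subtype.ext h)) p.2 p'.2 hkp hkp')
        rfl)
    rw [Nat.card_sigma, Finset.sum_congr rfl fun p _ => hcnt p, Finset.sum_const, Finset.card_univ,
      smul_eq_mul, ← Nat.card_eq_fintype_card, Nat.card_coe_set_eq] at hinj
    have hne : Nat.card {k : K // k ≠ 1} < Nat.card K :=
      Finite.card_subtype_lt (p := fun k : K => k ≠ 1) (x := 1) (not_not.mpr rfl)
    have e1 := hm x hxB
    have e2 := hm z hz
    have hmm : (orbit K z).ncard = (orbit K x).ncard :=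
      Nat.eq_of_mul_eq_mul_right (by omega) (e2.trans e1.symm)
    have h3 : (2 * (orbit K x).ncard) * (c - 1) ≤ (Bᶜ : Set Ω).ncard * (c - 1) :=
      Nat.mul_le_mul_right _ (by omega)
    have h4 : (orbit K x).ncard * c ≤ (orbit K x).ncard * (2 * (c - 1)) :=
      Nat.mul_le_mul_left _ (by omega)
    have h5 : (2 * (orbit K x).ncard) * (c - 1) = (orbit K x).ncard * (2 * (c - 1)) := by ring
    omega
  have hFC : Cfsg.IsFrobeniusComplement (stabilizer K x) := by
    refine ⟨fun h => ?_, fun h => ?_, fun g hg => ?_⟩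
    · rw [hc, h, Subgroup.card_bot] at hc2
      omega
    · have hsub : orbit K x ⊆ {x} := by
        rintro _ ⟨k, rfl⟩
        exact (show k ∈ stabilizer K x from h ▸ Subgroup.mem_top k)
      rw [htrans] at hsub
      have := Set.ncard_le_ncard hsub
      rw [Set.ncard_singleton, Set.ncard_compl] at this
      have := D.lt
      omega
    · rw [Subgroup.eq_bot_iff_forall]
      rintro k ⟨hk1, hk2⟩
      by_contra hne
      have hk2' : k • g • x = g • x := by
        have h := Subgroup.mem_pointwise_smul_iff_inv_smul_mem.mp hk2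
        rw [← map_inv, MulAut.smul_def, MulAut.conj_apply, inv_inv, mem_stabilizer_iff, mul_smul,
          mul_smul, inv_smul_eq_iff] at h
        exact h
      exact hg (D.fix_unique k.2 (fun h => hne (Subtype.ext h)) hxB (horb x hxB (mem_orbit x g)) hk1 hk2').symm
  obtain ⟨N, hN, -, hcompl⟩ := CfsgLib.FrobCompl.exists_kernel_complement hFC
  have hmem : ∀ k : K, k ∈ N ↔ k = 1 ∨ ∀ p, p ∉ B → (k : G) • p ≠ p := by
    intro k
    rw [← SetLike.mem_coe, hN]
    refine or_congr_right ⟨fun h p hp hkp => ?_, fun h g hk => ?_⟩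
    · obtain ⟨g, rfl⟩ : p ∈ orbit K x := htrans ▸ hp
      refine h g (Subgroup.mem_pointwise_smul_iff_inv_smul_mem.mpr ?_)
      rw [← map_inv, MulAut.smul_def, MulAut.conj_apply, inv_inv, mem_stabilizer_iff, mul_smul,
        mul_smul, inv_smul_eq_iff]
      exact hkp
    · refine h (g • x) (horb x hxB (mem_orbit x g)) ?_
      have h2 := Subgroup.mem_pointwise_smul_iff_inv_smul_mem.mp hk
      rw [← map_inv, MulAut.smul_def, MulAut.conj_apply, inv_inv, mem_stabilizer_iff, mul_smul,
        mul_smul, inv_smul_eq_iff] at h2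
      exact h2
  refine ⟨N.map K.subtype, fun h => ?_, fun g => ⟨?_, fun hg => ⟨⟨g, hg.1⟩, ?_, rfl⟩⟩⟩
  · rw [Subgroup.map_eq_bot_iff_of_injective _ K.subtype_injective] at h
    rw [h, Subgroup.isComplement'_bot_left] at hcompl
    exact hFC.2.1 hcompl
  · rintro ⟨k, hk, rfl⟩
    exact ⟨k.2, ((hmem k).mp hk).imp_left fun h => congrArg Subtype.val h⟩
  · exact (hmem _).mpr (hg.2.imp_left fun h => Subtype.ext h)

/-- The elations at the base block. -/
noncomputable def elGroup : Subgroup G := D.exists_elGroup.choose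

theorem mem_elGroup {g : G} : g ∈ D.elGroup ↔ D.IsEl g := D.exists_elGroup.choose_spec.2 g

theorem elGroup_conj {h : G} (hh : h ∈ H) {g : G} (hg : g ∈ D.elGroup) : h * g * h⁻¹ ∈ D.elGroup := by
  obtain ⟨hgK, hg'⟩ := D.mem_elGroup.mp hg
  refine D.mem_elGroup.mpr ⟨D.conj_ker hh hgK, ?_⟩
  rcases hg' with rfl | hg'
  · exact Or.inl (by group)
  · refine Or.inr fun p hp hfix => hg' (h⁻¹ • p) (fun hq => hp ((D.inv _ (inv_mem hh) p).mp hq)) ?_
    rw [mul_smul, mul_smul, smul_eq_iff_eq_inv_smul] at hfix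
    exact hfix

/-- The elations at a block. -/
noncomputable def El (x : G ⧸ H) : Subgroup G := D.elGroup.map (MulAut.conj x.out).toMonoidHom

theorem mem_El_mk {a e : G} : e ∈ D.El (a : G ⧸ H) ↔ a⁻¹ * e * a ∈ D.elGroup := by
  obtain ⟨h, hh⟩ := QuotientGroup.mk_out_eq_mul H a
  rw [El, Subgroup.mem_map_equiv, MulAut.conj_symm_apply, hh]
  constructor
  · intro hm
    have := D.elGroup_conj h.2 hm
    convert this using 1
    group
  · intro hm
    have := D.elGroup_conj (inv_mem h.2) hm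
    convert this using 1
    group

/-- The geometry of the blocks. -/
noncomputable def geo : Geo G (G ⧸ H) Ω where
  blk := D.blk
  El := D.El
  k := B.ncard
  l := D.lam
  card_eq := D.card_quot.symm
  card_blk := D.card_blk
  card_inter _ _ h := D.card_inter h
  card_through := D.card_through
  card_pair _ _ h := D.card_pair h
  param := by rw [D.card_quot]; exact D.param
  two_le := D.two_le
  lt_card := by rw [D.card_quot]; exact D.lt
  fix_eq := D.fix_eq
  mem_blk := D.mem_blk_smul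
  two_trans := D.two_trans
  el_conj g x e he := by
    induction x using QuotientGroup.induction_on with
    | _ a =>
      rw [D.mem_El_mk] at he
      rw [MulAction.Quotient.smul_coe, smul_eq_mul, D.mem_El_mk]
      convert he using 1
      group
  el_fix x e he p hp := by
    induction x using QuotientGroup.induction_on with
    | _ a =>
      rw [D.mem_El_mk] at he
      rw [D.mem_blk_mk] at hp
      have h := (D.mem_ker.mp (D.mem_elGroup.mp he).1).2 _ hp
      rw [mul_smul, mul_smul, smul_inv_smul, inv_smul_eq_iff, smul_inv_smul] at h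
      exact h
  el_semi x e he p hp hep := by
    induction x using QuotientGroup.induction_on with
    | _ a =>
      rw [D.mem_El_mk] at he
      rw [D.mem_blk_mk] at hp
      rcases (D.mem_elGroup.mp he).2 with h | h
      · rw [mul_assoc, inv_mul_eq_one] at h
        exact (mul_eq_right.mp h.symm)
      · exact absurd (by rw [mul_smul, mul_smul, smul_inv_smul, hep]) (h _ hp)
  el_ne x := by
    intro h
    rw [El, Subgroup.map_eq_bot_iff_of_injective _ (MulAut.conj x.out).injective] at h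
    exact D.exists_elGroup.choose_spec.1 h
  el_stab x e he := by
    induction x using QuotientGroup.induction_on with
    | _ a =>
      rw [D.mem_El_mk] at he
      have h := (D.mem_ker.mp (D.mem_elGroup.mp he).1).1
      rw [MulAction.Quotient.smul_coe, smul_eq_mul, QuotientGroup.eq]
      convert inv_mem h using 1
      group

theorem main : ∃ (m : ℕ) (F : Type) (_ : Field F) (_ : Fintype F), 2 ≤ m ∧
    Nat.card Ω = (Fintype.card F ^ (m + 1) - 1) / (Fintype.card F - 1) ∧
    ∃ N : Subgroup G, N.Normal ∧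
      Nonempty (N ≃* Matrix.ProjectiveSpecialLinearGroup (Fin (m + 1)) F) ∧
      Subgroup.centralizer (N : Set G) = ⊥ := by
  haveI := D.faithful
  rw [← D.card_quot]
  exact D.geo.recognition

end CfsgLib.BlockElation.Data
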