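import Cfsg.Agent.Lib.BlockElation.Spread

/-!
Coordinates over a finite field for the translations of a frame: the frame components are the axes,
the transvection groups act as transvections and all components are one-dimensional subspaces.
-/

set_option autoImplicit false
set_option linter.unusedSectionVars false

namespace CfsgLib.BlockElation.Frame

open MulAction

variable {G X Ω : Type*} [Group G] [MulAction G X] [MulAction G Ω] [Finite G] [Finite X] [Finite Ω]
  {d : Geo G X Ω} (fr : Frame d)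

theorem psi_psi_inv {i : Fin fr.M} (g : fr.S i) (w : fr.W) : fr.psi g (fr.psi g⁻¹ w) = w :=
  Additive.toMul.injective (Subtype.ext (by
    show g.1 * (g.1⁻¹ * (Additive.toMul w).1 * g.1⁻¹⁻¹) * g.1⁻¹ = (Additive.toMul w).1
    group))

theorem psi_inv_psi {i : Fin fr.M} (g : fr.S i) (w : fr.W) : fr.psi g⁻¹ (fr.psi g w) = w := by
  conv_lhs => rw [show fr.psi g = fr.psi g⁻¹⁻¹ from by rw [inv_inv]]
  have := fr.psi_psi_inv g⁻¹ w
  rw [inv_inv] at this ⊢
  exact this

/-- Coordinates for the translations. -/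
structure Coord where
  F : Type
  [field : Field F]
  [fin : Finite F]
  e : fr.W ≃+ (Fin fr.M → F)
  card : Nat.card F = d.t
  C_iff : ∀ i v, v ∈ fr.C i ↔ ∀ l, l ≠ i → e v l = 0
  trans : ∀ i j, i ≠ j → ∀ κ : F, ∃ g : fr.T' i j,
    ∀ v, e (fr.psi g.1 v) = Function.update (e v) i (e v i + κ * e v j)
  comp_iff : ∀ y ∈ fr.H, ∀ v ∈ d.comp fr.hH y, v ≠ 0 →
    ∀ w, w ∈ d.comp fr.hH y ↔ ∃ κ : F, e w = κ • e v

attribute [instance] Coord.field Coord.fin

theorem comp_step {F : Type} [Field F] (e : fr.W ≃+ (Fin fr.M → F))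
    (hC : ∀ i v, v ∈ fr.C i ↔ ∀ l, l ≠ i → e v l = 0)
    (hT : ∀ i j, i ≠ j → ∀ κ : F, ∃ g : fr.T' i j,
      ∀ v, e (fr.psi g.1 v) = Function.update (e v) i (e v i + κ * e v j)) :
    ∀ n : ℕ, ∀ v : fr.W, {l | e v l ≠ 0}.ncard ≤ n → ∀ y ∈ fr.H, v ∈ d.comp fr.hH y → v ≠ 0 →
      ∀ w, w ∈ d.comp fr.hH y ↔ ∃ κ : F, e w = κ • e v := by
  classical
  intro n
  induction n with
  | zero =>
    intro v hn y _ _ hv0
    have h0 : {l | e v l ≠ 0} = ∅ := (Set.ncard_eq_zero (Set.toFinite _)).mp (by omega)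
    refine absurd (e.injective (funext fun l => ?_)) hv0
    rw [map_zero]
    by_contra h
    exact (Set.eq_empty_iff_forall_notMem.mp h0 l) h
  | succ n ih =>
    intro v hn y hy hv hv0 w
    obtain ⟨i, hi⟩ : ∃ i, e v i ≠ 0 := by
      by_contra h
      simp only [not_exists, not_not] at h
      exact hv0 (e.injective (by rw [map_zero]; exact funext h))
    by_cases hall : ∀ j, j ≠ i → e v j = 0
    · have hvi : v ∈ fr.C i := (hC i v).mpr hall
      rw [d.comp_eq fr.hH hv0 hv hvi]
      refine (hC i w).trans ⟨fun h => ⟨e w i / e v i, funext fun l => ?_⟩, ?_⟩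
      · rcases eq_or_ne l i with rfl | hl
        · simp [hi]
        · simp [hall l hl, h l hl]
      · rintro ⟨κ, hκ⟩ l hl
        simp [hκ, hall l hl]
    simp only [not_forall] at hall
    obtain ⟨j, hji, hj⟩ := hall
    obtain ⟨g, hg⟩ := hT j i hji (e v j / e v i)
    set v' := fr.psi g.1⁻¹ v with hv'
    have hback : fr.psi g.1 v' = v := fr.psi_psi_inv g.1 v
    have he : e v = Function.update (e v') j (e v' j + e v j / e v i * e v' i) := by
      rw [← hg, hback]
    have hne : ∀ l, l ≠ j → e v' l = e v l := fun l hl => by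
      rw [he, Function.update_of_ne hl]
    have hj0 : e v' j = 0 := by
      have h := congrFun he j
      rw [Function.update_self, hne i hji.symm, div_mul_cancel₀ _ hi] at h
      linear_combination -h
    have hlt : {l | e v' l ≠ 0}.ncard < {l | e v l ≠ 0}.ncard := by
      refine Set.ncard_lt_ncard ⟨fun l hl => ?_, fun h => ?_⟩ (Set.toFinite _)
      · rcases eq_or_ne l j with rfl | hlj
        · exact absurd hj0 hl
        · show e v l ≠ 0
          rw [← hne l hlj]
          exact hl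
      · exact h hj hj0
    have hy' : (g.1⁻¹ : fr.S j).1 • y ∈ fr.H :=
      d.el_smul_hyp fr.hH (fr.f_mem j) (g.1⁻¹ : fr.S j).2.1 hy
    have hv'y : v' ∈ d.comp fr.hH ((g.1⁻¹ : fr.S j).1 • y) := fr.psi_comp _ hv
    have hv'0 : v' ≠ 0 := fun h => hv0 (by rw [← hback, h, map_zero])
    have key := ih v' (by omega) _ hy' hv'y hv'0 (fr.psi g.1⁻¹ w)
    have hiff : fr.psi g.1⁻¹ w ∈ d.comp fr.hH ((g.1⁻¹ : fr.S j).1 • y) ↔ w ∈ d.comp fr.hH y := by
      refine ⟨fun h => ?_, fun h => fr.psi_comp _ h⟩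
      have h2 := fr.psi_comp g.1 h
      rwa [fr.psi_psi_inv, show ((g.1⁻¹ : fr.S j) : G) = g.1.1⁻¹ from rfl, smul_inv_smul] at h2
    rw [hiff] at key
    generalize e v j / e v i = a at he hg
    refine key.trans ⟨fun ⟨κ, hκ⟩ => ⟨κ, ?_⟩, fun ⟨κ, hκ⟩ => ⟨κ, ?_⟩⟩
    · rw [← fr.psi_psi_inv g.1 w, hg, hκ, he]
      funext l
      rcases eq_or_ne l j with rfl | hl
      · simp only [Function.update_self, Pi.smul_apply, smul_eq_mul]
        ring
      · simp [Function.update_of_ne hl]
    · have h2 : e (fr.psi g.1 (fr.psi g.1⁻¹ w)) = e (fr.psi g.1 (e.symm (κ • e v'))) := by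
        rw [fr.psi_psi_inv, hg, e.apply_symm_apply, hκ, he]
        funext l
        rcases eq_or_ne l j with rfl | hl
        · simp only [Function.update_self, Pi.smul_apply, smul_eq_mul]
          ring
        · simp [Function.update_of_ne hl]
      have h3 := congrArg (fr.psi g.1⁻¹) (e.injective h2)
      rw [fr.psi_inv_psi, fr.psi_inv_psi] at h3
      rw [h3, e.apply_symm_apply]

theorem exists_coord_of {F : Type} [Field F] [Finite F] (ι : F →+* AddMonoid.End fr.A)
    (hι : ∀ i j, ∀ hij : i ≠ j, ∀ σ, σ ∈ fr.sig hij ↔ ∃ a, ι a = σ) : Nonempty fr.Coord := by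
  classical
  obtain ⟨x, hx⟩ := fr.exists_base
  have hM := fr.two_le_M
  have h10 : (⟨1, by omega⟩ : Fin fr.M) ≠ fr.i₀ := fun h => by simp [Fin.ext_iff] at h
  let ev : F →+ fr.A :=
    { toFun := fun k => ι k x
      map_zero' := by rw [map_zero]; rfl
      map_add' := fun a b => by rw [map_add]; rfl }
  have hev : Function.Bijective ev := by
    refine ⟨(injective_iff_map_eq_zero _).mpr fun a ha => ?_, fun b => ?_⟩
    · by_contra ha0
      have h1 : ι a⁻¹ * ι a = 1 := by rw [← map_mul, inv_mul_cancel₀ ha0, map_one]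
      have h2 := DFunLike.congr_fun h1 x
      change ι a⁻¹ (ι a x) = x at h2
      rw [show ι a x = 0 from ha, map_zero] at h2
      exact hx h2.symm
    · obtain ⟨σ, hσ, he⟩ := fr.sig_surj h10 hx b
      obtain ⟨a, rfl⟩ := (hι _ _ h10 σ).mp hσ
      exact ⟨a, he⟩
  let b : ∀ i, F ≃+ fr.C i := fun i => (AddEquiv.ofBijective ev hev).trans (fr.phi i)
  have hb : ∀ i a, (b i a : fr.W) = fr.phi i (ι a x) := fun i a => rfl
  let e : fr.W ≃+ (Fin fr.M → F) :=
    ((AddEquiv.piCongrRight b).trans (AddEquiv.ofBijective (d.frameSum fr.hH fr.f) fr.f_bij)).symm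
  have hsymm : ∀ c, e.symm c = ∑ i, (b i (c i) : fr.W) := fun c => rfl
  clear_value e b
  have hsingle : ∀ i z, e.symm (Pi.single i z) = (b i z : fr.W) := fun i z => by
    rw [hsymm, Finset.sum_eq_single i]
    · rw [Pi.single_eq_same]
    · intro m _ hm
      rw [Pi.single_eq_of_ne hm, map_zero]
      rfl
    · exact fun h => absurd (Finset.mem_univ i) h
  have hC : ∀ i v, v ∈ fr.C i ↔ ∀ l, l ≠ i → e v l = 0 := by
    intro i v
    constructor
    · intro hv l hl
      have h1 : e.symm (Pi.single i ((b i).symm ⟨v, hv⟩)) = v := by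
        rw [hsingle, AddEquiv.apply_symm_apply]
      rw [← h1, e.apply_symm_apply, Pi.single_eq_of_ne hl]
    · intro h
      have h1 : e v = Pi.single i (e v i) := by
        funext l
        rcases eq_or_ne l i with rfl | hl
        · rw [Pi.single_eq_same]
        · rw [Pi.single_eq_of_ne hl, h l hl]
      rw [← e.symm_apply_apply v, h1, hsingle]
      exact (b i _).2
  have hT : ∀ i j, i ≠ j → ∀ κ, ∃ g : fr.T' i j,
      ∀ v, e (fr.psi g.1 v) = Function.update (e v) i (e v i + κ * e v j) := by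
    intro i j hij κ
    obtain ⟨g, hg⟩ := (hι i j hij (ι κ)).mpr ⟨κ, rfl⟩
    refine ⟨g, fun v => ?_⟩
    obtain ⟨c, rfl⟩ := e.symm.surjective v
    have hupd : Function.update c i (c i + κ * c j) = c + Pi.single i (κ * c j) := by
      funext l
      rcases eq_or_ne l i with rfl | hl
      · simp
      · simp [hl]
    rw [e.apply_symm_apply, ← e.eq_symm_apply, fr.psi_eq_add, hupd, map_add, hsingle]
    congr 1
    rw [hsymm, map_sum, Finset.sum_eq_single j (fun m _ hm => fr.tau_kills g.1 g.2 hm (b m _).2)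
      (fun h => absurd (Finset.mem_univ j) h), hb, hg, hb, map_mul]
    rfl
  refine ⟨{ F := F, e := e, card := ?_, C_iff := hC, trans := hT, comp_iff := ?_ }⟩
  · rw [Nat.card_congr (Equiv.ofBijective ev hev), fr.card_C]
  · intro y hy v hv hv0
    exact fr.comp_step e hC hT _ v le_rfl y hy hv hv0

theorem exists_coord : Nonempty fr.Coord := by
  classical
  obtain ⟨K, hK⟩ := fr.exists_field
  obtain ⟨x, hx⟩ := fr.exists_base
  have hM := fr.two_le_M
  have h10 : (⟨1, by omega⟩ : Fin fr.M) ≠ fr.i₀ := fun h => by simp [Fin.ext_iff] at h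
  haveI : Nontrivial K := ⟨⟨0, 1, fun h => hx (DFunLike.congr_fun (congrArg Subtype.val h) x).symm⟩⟩
  haveI : NoZeroDivisors K := ⟨fun {a b} h => by
    by_cases ha : a = 0
    · exact Or.inl ha
    · refine Or.inr (Subtype.ext ?_)
      exact ((fr.sig_isUnit ((hK _ _ h10 _).mpr a.2) (fun h' => ha (Subtype.ext h'))).mul_right_eq_zero).mp
        (congrArg Subtype.val h)⟩
  haveI : IsDomain K := NoZeroDivisors.to_isDomain K
  letI : Field K := (Finite.isDomain_to_isField K).toField
  haveI : Small.{0} K := Countable.toSmall _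
  refine fr.exists_coord_of (K.subtype.comp (Shrink.ringEquiv K).toRingHom : Shrink.{0} K →+* _)
    fun i j hij σ => ?_
  rw [hK i j hij σ]
  exact ⟨fun h => ⟨(Shrink.ringEquiv K).symm ⟨σ, h⟩, by
      show ((Shrink.ringEquiv K) ((Shrink.ringEquiv K).symm ⟨σ, h⟩)).1 = σ
      rw [RingEquiv.apply_symm_apply]⟩,
    fun ⟨a, ha⟩ => ha ▸ (Shrink.ringEquiv K a).2⟩

end CfsgLib.BlockElation.Frame
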