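import Cfsg.Agent.Lib.BlockElation.Incidence
import Mathlib

/-!
The symmetric design of a subgroup of index `n` with two orbits in a two-transitive group of
degree `n`.
-/

set_option autoImplicit false
set_option linter.unusedSectionVars false

namespace CfsgLib.BlockElation

open MulAction
open scoped Matrix

/-- A subgroup of index `n` with an orbit `B` and its complement in a two-transitive group. -/
structure Data {G Ω : Type*} [Group G] [MulAction G Ω] (H : Subgroup G) (B : Set Ω) : Prop where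
  two : ∀ p q p' q' : Ω, p ≠ q → p' ≠ q' → ∃ g : G, g • p = p' ∧ g • q = q'
  idx : H.index = Nat.card Ω
  inv : ∀ h ∈ H, ∀ p, h • p ∈ B ↔ p ∈ B
  two_le : 2 ≤ B.ncard
  lt : B.ncard + 1 < Nat.card Ω
  co_trans : ∀ p, p ∉ B → ∀ q, q ∉ B → ∃ h ∈ H, h • p = q
  unf : ∃ g ∈ H, g ≠ 1 ∧ ∀ p ∈ B, g • p = p

namespace Data

variable {G Ω : Type*} [Group G] [MulAction G Ω] [Finite G] [Finite Ω] {H : Subgroup G} {B : Set Ω}
  (D : Data H B)
include D

/-- The block of a coset. -/
noncomputable def blk (_ : Data H B) (x : G ⧸ H) : Set Ω := {p | x.out⁻¹ • p ∈ B}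

theorem mem_blk_mk (g : G) (p : Ω) : p ∈ D.blk (g : G ⧸ H) ↔ g⁻¹ • p ∈ B := by
  obtain ⟨h, hh⟩ := QuotientGroup.mk_out_eq_mul H g
  show (Quotient.out (g : G ⧸ H))⁻¹ • p ∈ B ↔ _
  rw [hh, mul_inv_rev, mul_smul, D.inv _ (inv_mem h.2)]

theorem mem_blk_smul (g : G) (x : G ⧸ H) (p : Ω) : g • p ∈ D.blk (g • x) ↔ p ∈ D.blk x := by
  induction x using QuotientGroup.induction_on with
  | _ a =>
    rw [MulAction.Quotient.smul_coe, smul_eq_mul, D.mem_blk_mk, D.mem_blk_mk, mul_inv_rev, mul_smul,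
      inv_smul_smul]

theorem card_blk (x : G ⧸ H) : (D.blk x).ncard = B.ncard := by
  have : D.blk x = (fun p => x.out • p) '' B := by
    ext p
    constructor
    · intro hp
      exact ⟨_, hp, smul_inv_smul _ _⟩
    · rintro ⟨q, hq, rfl⟩
      show x.out⁻¹ • x.out • q ∈ B
      rwa [inv_smul_smul]
  rw [this, Set.ncard_image_of_injective _ (MulAction.injective x.out)]

theorem card_quot : Nat.card (G ⧸ H) = Nat.card Ω := D.idx

theorem exists_pair : ∃ p q : Ω, p ≠ q := by
  haveI : Nontrivial Ω := Finite.one_lt_card_iff_nontrivial.mp (by have := D.lt; omega)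
  exact exists_pair_ne Ω

theorem pretrans (p q : Ω) : ∃ g : G, g • p = q := by
  haveI : Nontrivial Ω := Finite.one_lt_card_iff_nontrivial.mp (by have := D.lt; omega)
  obtain ⟨r, hr⟩ := exists_ne p
  obtain ⟨r', hr'⟩ := exists_ne q
  obtain ⟨g, hg, -⟩ := D.two p r q r' hr.symm hr'.symm
  exact ⟨g, hg⟩

theorem card_through_eq (p : Ω) (g : G) :
    {x | g • p ∈ D.blk x}.ncard = {x | p ∈ D.blk x}.ncard := by
  rw [← Set.ncard_image_of_injective {x | p ∈ D.blk x} (MulAction.injective g)]
  congr 1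
  ext x
  constructor
  · intro hx
    refine ⟨g⁻¹ • x, ?_, smul_inv_smul g x⟩
    show p ∈ D.blk (g⁻¹ • x)
    rw [← D.mem_blk_smul g, smul_inv_smul]
    exact hx
  · rintro ⟨y, hy, rfl⟩
    exact (D.mem_blk_smul g y p).mpr hy

theorem card_through (p : Ω) : {x | p ∈ D.blk x}.ncard = B.ncard := by
  classical
  haveI := Fintype.ofFinite Ω
  haveI := Fintype.ofFinite (G ⧸ H)
  have key := Finset.sum_card_bipartiteAbove_eq_sum_card_bipartiteBelow
    (s := (Finset.univ : Finset (G ⧸ H))) (t := (Finset.univ : Finset Ω)) (r := fun x q => q ∈ D.blk x)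
  have h1 : ∀ x : G ⧸ H, ((Finset.univ : Finset Ω).bipartiteAbove (fun x q => q ∈ D.blk x) x).card =
      B.ncard := fun x => by
    rw [← D.card_blk x, Set.ncard_eq_toFinset_card']
    congr 1
    ext q
    simp [Finset.bipartiteAbove]
  have h2 : ∀ q : Ω, ((Finset.univ : Finset (G ⧸ H)).bipartiteBelow (fun x q => q ∈ D.blk x) q).card =
      {x | p ∈ D.blk x}.ncard := fun q => by
    obtain ⟨g, rfl⟩ := D.pretrans p q
    rw [← D.card_through_eq p g, Set.ncard_eq_toFinset_card']
    congr 1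
    ext x
    simp [Finset.bipartiteBelow]
  rw [Finset.sum_congr rfl fun x _ => h1 x, Finset.sum_congr rfl fun q _ => h2 q, Finset.sum_const,
    Finset.sum_const, Finset.card_univ, Finset.card_univ, smul_eq_mul, smul_eq_mul,
    ← Nat.card_eq_fintype_card, ← Nat.card_eq_fintype_card, D.card_quot] at key
  exact (Nat.eq_of_mul_eq_mul_left (by have := D.lt; omega) key).symm

/-- The number of blocks through two points. -/
noncomputable def lam : ℕ :=
  {x | D.exists_pair.choose ∈ D.blk x ∧ D.exists_pair.choose_spec.choose ∈ D.blk x}.ncard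

theorem card_pair {p q : Ω} (hpq : p ≠ q) : {x | p ∈ D.blk x ∧ q ∈ D.blk x}.ncard = D.lam := by
  obtain ⟨g, hg1, hg2⟩ := D.two _ _ p q D.exists_pair.choose_spec.choose_spec hpq
  subst hg1 hg2
  rw [lam]
  refine Eq.trans ?_ (Set.ncard_image_of_injective _ (MulAction.injective g))
  congr 1
  ext x
  constructor
  · intro hx
    refine ⟨g⁻¹ • x, ⟨?_, ?_⟩, smul_inv_smul g x⟩ <;> rw [← D.mem_blk_smul g, smul_inv_smul]
    exacts [hx.1, hx.2]
  · rintro ⟨y, hy, rfl⟩
    exact ⟨(D.mem_blk_smul g y _).mpr hy.1, (D.mem_blk_smul g y _).mpr hy.2⟩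

theorem param : B.ncard * (B.ncard - 1) = D.lam * (Nat.card Ω - 1) := by
  classical
  haveI := Fintype.ofFinite Ω
  haveI := Fintype.ofFinite (G ⧸ H)
  obtain ⟨p, -, -⟩ := D.exists_pair
  let s : Finset (G ⧸ H) := Finset.univ.filter fun x => p ∈ D.blk x
  have hs : s.card = B.ncard := by
    rw [← D.card_through p, Set.ncard_eq_toFinset_card']
    congr 1
    ext x
    simp [s]
  have key := Finset.sum_card_bipartiteAbove_eq_sum_card_bipartiteBelow
    (s := s) (t := (Finset.univ : Finset Ω).erase p) (r := fun x q => q ∈ D.blk x)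
  have h1 : ∀ x ∈ s, (((Finset.univ : Finset Ω).erase p).bipartiteAbove (fun x q => q ∈ D.blk x) x).card =
      B.ncard - 1 := fun x hx => by
    rw [← D.card_blk x, Set.ncard_eq_toFinset_card',
      show ((Finset.univ : Finset Ω).erase p).bipartiteAbove (fun x q => q ∈ D.blk x) x =
        (D.blk x).toFinset.erase p from by ext q; simp [Finset.bipartiteAbove],
      Finset.card_erase_of_mem (by simpa [s] using hx)]
  have h2 : ∀ q ∈ (Finset.univ : Finset Ω).erase p,
      (s.bipartiteBelow (fun x q => q ∈ D.blk x) q).card = D.lam := fun q hq => by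
    rw [← D.card_pair (Finset.ne_of_mem_erase hq).symm, Set.ncard_eq_toFinset_card']
    congr 1
    ext x
    simp [Finset.bipartiteBelow, s]
  rw [Finset.sum_congr rfl h1, Finset.sum_congr rfl h2, Finset.sum_const, Finset.sum_const,
    Finset.card_erase_of_mem (Finset.mem_univ p), Finset.card_univ, hs, smul_eq_mul, smul_eq_mul,
    ← Nat.card_eq_fintype_card] at key
  rw [key, mul_comm]

theorem lam_lt : D.lam < B.ncard := by
  by_contra h
  have := D.param
  have := D.lt
  have := D.two_le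
  have h1 : B.ncard * (Nat.card Ω - 1) ≤ D.lam * (Nat.card Ω - 1) := Nat.mul_le_mul_right _ (not_lt.mp h)
  have h2 : B.ncard * (B.ncard - 1) < B.ncard * (Nat.card Ω - 1) :=
    Nat.mul_lt_mul_of_pos_left (by omega) (by omega)
  omega

theorem lam_pos : 0 < D.lam := by
  rcases Nat.eq_zero_or_pos D.lam with h | h
  · have := D.param
    have := D.two_le
    rw [h, zero_mul, mul_eq_zero] at *
    omega
  · exact h

theorem card_inter_and_fix :
    (∀ x y : G ⧸ H, x ≠ y → (D.blk x ∩ D.blk y).ncard = D.lam) ∧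
      ∀ g : G, (fixedBy (G ⧸ H) g).ncard = (fixedBy Ω g).ncard := by
  classical
  haveI := Fintype.ofFinite Ω
  obtain ⟨e⟩ : Nonempty (Ω ≃ G ⧸ H) := Finite.card_eq.mp D.card_quot.symm
  set A : Matrix Ω Ω ℚ := Matrix.of fun p q => if q ∈ D.blk (e p) then 1 else 0 with hA
  have hbool : ∀ (P Q : Prop) [Decidable P] [Decidable Q],
      (if P then (1 : ℚ) else 0) * (if Q then 1 else 0) = if P ∧ Q then 1 else 0 := fun P Q _ _ => by
    split_ifs <;> simp_all
  have hcnt : ∀ S : Set Ω, ∑ q : Ω, (if q ∈ S then (1 : ℚ) else 0) = S.ncard := fun S => by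
    rw [Finset.sum_boole, Set.ncard_eq_toFinset_card']
    congr 2
    ext q
    simp
  have hcol : ∀ S : Set (G ⧸ H), (∑ p : Ω, if e p ∈ S then (1 : ℚ) else 0) = S.ncard := fun S => by
    rw [← Set.ncard_preimage_of_injective_subset_range e.injective (s := S) (by simp), ← hcnt]
    rfl
  have hrowA : ∀ p, ∑ q, A p q = B.ncard := fun p => by
    rw [← D.card_blk (e p), ← hcnt]
    rfl
  have hcolA : ∀ q, ∑ p, A p q = B.ncard := fun q => by
    rw [← D.card_through q, ← hcol]
    rfl
  have hATA : Aᵀ * A = ((B.ncard : ℚ) - D.lam) • 1 + (D.lam : ℚ) • ones := by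
    ext q r
    rw [Matrix.mul_apply]
    simp only [Matrix.transpose_apply, hA, Matrix.of_apply, hbool, Matrix.add_apply, Matrix.smul_apply,
      ones, smul_eq_mul, mul_one]
    rw [show (∑ p : Ω, if q ∈ D.blk (e p) ∧ r ∈ D.blk (e p) then (1 : ℚ) else 0) =
      ({x | q ∈ D.blk x ∧ r ∈ D.blk x}.ncard : ℚ) from by
        rw [← hcol {x | q ∈ D.blk x ∧ r ∈ D.blk x}]
        refine Finset.sum_congr rfl fun p _ => ?_
        split_ifs with h1 h2 h2 <;> first | rfl | exact absurd h1 h2 | exact absurd h2 h1]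
    rcases eq_or_ne q r with rfl | hqr
    · rw [Matrix.one_apply_eq]
      simp [D.card_through q]
    · rw [D.card_pair hqr, Matrix.one_apply_ne hqr]
      ring
  have hc : (0 : ℚ) < (B.ncard : ℚ) - D.lam := sub_pos.mpr (Nat.cast_lt.mpr D.lam_lt)
  have hAAT := mul_transpose_eq A (B.ncard : ℚ) _ _ hc (Nat.cast_nonneg _) hATA hrowA hcolA
  refine ⟨fun x y hxy => ?_, fun g => ?_⟩
  · have h := congrFun (congrFun hAAT (e.symm x)) (e.symm y)
    rw [Matrix.mul_apply] at h
    simp only [Matrix.transpose_apply, hA, Matrix.of_apply, hbool, Matrix.add_apply, Matrix.smul_apply,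
      ones, smul_eq_mul, mul_one, e.apply_symm_apply] at h
    rw [show (∑ q : Ω, if q ∈ D.blk x ∧ q ∈ D.blk y then (1 : ℚ) else 0) =
      ((D.blk x ∩ D.blk y).ncard : ℚ) from by
        rw [← hcnt (D.blk x ∩ D.blk y)]
        refine Finset.sum_congr rfl fun q _ => ?_
        split_ifs with h1 h2 h2 <;> first | rfl | exact absurd h1 h2 | exact absurd h2 h1,
      Matrix.one_apply_ne (fun h => hxy (e.symm.injective h))] at h
    simpa using h
  · let σ : Equiv.Perm Ω := (e.trans (MulAction.toPerm g)).trans e.symm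
    have h := card_fixed_eq A (isUnit_of_transpose_mul A _ _ hc (Nat.cast_nonneg _) hATA) σ
      (MulAction.toPerm g) fun p q => by
        simp only [hA, Matrix.of_apply, σ, Equiv.trans_apply, Equiv.apply_symm_apply,
          MulAction.toPerm_apply, D.mem_blk_smul]
    rw [show fixedBy Ω g = {q | MulAction.toPerm g q = q} from rfl, ← h,
      ← Set.ncard_image_of_injective _ e.injective]
    congr 1
    ext x
    constructor
    · intro hx
      refine ⟨e.symm x, ?_, e.apply_symm_apply x⟩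
      show e.symm (g • e (e.symm x)) = e.symm x
      rw [e.apply_symm_apply, hx]
    · rintro ⟨p, hp, rfl⟩
      have hp' : e.symm (g • e p) = p := hp
      show g • e p = e p
      rw [← e.symm_apply_eq, hp']

theorem card_inter {x y : G ⧸ H} (h : x ≠ y) : (D.blk x ∩ D.blk y).ncard = D.lam :=
  D.card_inter_and_fix.1 x y h

theorem fix_eq (g : G) : (fixedBy (G ⧸ H) g).ncard = (fixedBy Ω g).ncard := D.card_inter_and_fix.2 g

theorem blk_injective {x y : G ⧸ H} (h : D.blk x = D.blk y) : x = y := by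
  by_contra hne
  have h1 := D.card_inter hne
  rw [h, Set.inter_self, D.card_blk] at h1
  exact D.lam_lt.ne' h1

theorem mem_iff (g : G) : g ∈ H ↔ ∀ p, g • p ∈ B ↔ p ∈ B := by
  refine ⟨fun h p => D.inv g h p, fun h => ?_⟩
  have : (g : G ⧸ H) = ((1 : G) : G ⧸ H) := D.blk_injective (Set.ext fun p => by
    rw [D.mem_blk_mk, D.mem_blk_mk, inv_one, one_smul]
    have := h (g⁻¹ • p)
    rw [smul_inv_smul] at this
    exact this.symm)
  simpa [QuotientGroup.eq] using this

theorem faithful [FaithfulSMul G Ω] : FaithfulSMul G (G ⧸ H) := by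
  refine faithfulSMul_iff.mpr fun g hg => FaithfulSMul.eq_of_smul_eq_smul fun p : Ω => ?_
  rw [one_smul]
  have h := D.fix_eq g
  rw [show fixedBy (G ⧸ H) g = Set.univ from Set.eq_univ_of_forall hg, Set.ncard_univ, D.card_quot,
    ← Set.ncard_univ] at h
  exact (Set.eq_of_subset_of_ncard_le (Set.subset_univ _) h.le (Set.toFinite _) ▸ Set.mem_univ p :
    p ∈ fixedBy Ω g)

theorem two_trans (x y x' y' : G ⧸ H) (hxy : x ≠ y) (hxy' : x' ≠ y') :
    ∃ g : G, g • x = x' ∧ g • y = y' := by
  classical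
  haveI := Fintype.ofFinite G
  haveI := Fintype.ofFinite (G ⧸ H)
  haveI := Fintype.ofFinite Ω
  haveI := Fintype.ofFinite (orbitRel.Quotient G ((G ⧸ H) × (G ⧸ H)))
  haveI := Fintype.ofFinite (orbitRel.Quotient G (Ω × Ω))
  have hX : ∀ g : G, fixedBy ((G ⧸ H) × (G ⧸ H)) g = fixedBy (G ⧸ H) g ×ˢ fixedBy (G ⧸ H) g :=
    fun g => by ext ⟨a, b⟩; simp [mem_fixedBy, Prod.smul_mk]
  have hO : ∀ g : G, fixedBy (Ω × Ω) g = fixedBy Ω g ×ˢ fixedBy Ω g :=
    fun g => by ext ⟨a, b⟩; simp [mem_fixedBy, Prod.smul_mk]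
  have h1 := sum_card_fixedBy_eq_card_orbits_mul_card_group G ((G ⧸ H) × (G ⧸ H))
  have h2 := sum_card_fixedBy_eq_card_orbits_mul_card_group G (Ω × Ω)
  have hfg : ∀ g : G, Fintype.card (fixedBy ((G ⧸ H) × (G ⧸ H)) g) = Fintype.card (fixedBy (Ω × Ω) g) :=
    fun g => by
      rw [← Nat.card_eq_fintype_card, ← Nat.card_eq_fintype_card, Nat.card_coe_set_eq, Nat.card_coe_set_eq,
        hX, hO, Set.ncard_prod, Set.ncard_prod, D.fix_eq]
  rw [Finset.sum_congr rfl fun g _ => hfg g, h2] at h1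
  have heq : Fintype.card (orbitRel.Quotient G (Ω × Ω)) =
      Fintype.card (orbitRel.Quotient G ((G ⧸ H) × (G ⧸ H))) := by
    refine Eq.trans ?_ ((Nat.eq_of_mul_eq_mul_right Fintype.card_pos h1).trans ?_) <;>
      exact Fintype.card_congr (Equiv.refl _)
  have hΩ : Fintype.card (orbitRel.Quotient G (Ω × Ω)) ≤ 2 := by
    obtain ⟨p, q, hpq⟩ := D.exists_pair
    let f : Bool → orbitRel.Quotient G (Ω × Ω) := fun b =>
      if b then Quotient.mk'' (p, p) else Quotient.mk'' (p, q)
    refine (Fintype.card_le_of_surjective f fun o => ?_).trans Fintype.card_bool.le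
    induction o using Quotient.inductionOn' with
    | h z =>
      obtain ⟨a, b⟩ := z
      rcases eq_or_ne a b with rfl | hab
      · obtain ⟨g, rfl⟩ := D.pretrans p a
        exact ⟨true, (Quotient.sound' (mem_orbit (p, p) g)).symm⟩
      · obtain ⟨g, rfl, rfl⟩ := D.two p q a b hpq hab
        exact ⟨false, (Quotient.sound' (mem_orbit (p, q) g)).symm⟩
  by_contra hcon
  have h3 : 3 ≤ Fintype.card (orbitRel.Quotient G ((G ⧸ H) × (G ⧸ H))) := by
    let f : Fin 3 → orbitRel.Quotient G ((G ⧸ H) × (G ⧸ H)) :=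
      ![Quotient.mk'' (x, x), Quotient.mk'' (x, y), Quotient.mk'' (x', y')]
    have key : ∀ a b c' d' : G ⧸ H,
        (Quotient.mk'' (a, b) : orbitRel.Quotient G ((G ⧸ H) × (G ⧸ H))) = Quotient.mk'' (c', d') →
        ∃ g : G, g • a = c' ∧ g • b = d' := fun a b c' d' h => by
      obtain ⟨g, hg⟩ := Quotient.exact' h
      simp only [Prod.smul_mk, Prod.mk.injEq] at hg
      exact ⟨g⁻¹, by rw [← hg.1, inv_smul_smul], by rw [← hg.2, inv_smul_smul]⟩
    refine le_trans (le_of_eq (Fintype.card_fin 3).symm) (Fintype.card_le_of_injective f ?_)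
    have e01 : f 0 ≠ f 1 := fun h => by
      obtain ⟨g, hg, hg'⟩ := key _ _ _ _ h
      exact hxy (hg.symm.trans hg')
    have e02 : f 0 ≠ f 2 := fun h => by
      obtain ⟨g, hg, hg'⟩ := key _ _ _ _ h
      exact hxy' (hg.symm.trans hg')
    have e12 : f 1 ≠ f 2 := fun h => hcon (key _ _ _ _ h)
    intro i j hij
    fin_cases i <;> fin_cases j <;>
      first
        | rfl
        | exact absurd hij e01
        | exact absurd hij e02
        | exact absurd hij e12
        | exact absurd hij.symm e01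
        | exact absurd hij.symm e02
        | exact absurd hij.symm e12
  omega

end Data

end CfsgLib.BlockElation
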