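import Cfsg.Agent.Lib.BlockElation.Basic

/-!
The fixed set of an elation is a hyperplane of the linear space of lines, the elations fixing a
hyperplane pointwise form a group regular outside it, and so the parameters are those of a
projective space.
-/

set_option autoImplicit false
set_option linter.unusedSectionVars false

namespace CfsgLib.BlockElation.Geo

open MulAction

variable {G X Ω : Type*} [Group G] [MulAction G X] [MulAction G Ω] [Finite G] [Finite X] [Finite Ω]
  (d : Geo G X Ω)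

theorem smul_mem_line_of_el {x y z : X} (hxy : x ≠ y) {e : G} (he : e ∈ d.El x)
    (hz : z ∈ d.line x y) : e • z ∈ d.line x y := by
  have h := d.smul_mem_line e hz
  rw [d.el_stab _ e he] at h
  have hne : e • y ≠ x := fun h' => hxy (MulAction.injective e (h'.trans (d.el_stab _ e he).symm)).symm
  rwa [d.line_eq_left hxy (d.smul_el_mem_line he y) hne] at h

theorem fixed_of_off_line {x : X} {e : G} (he : e ∈ d.El x) {u w z : X} (huw : u ≠ w)
    (hu : e • u = u) (hw : e • w = w) (hx : x ∉ d.line u w) (hz : z ∈ d.line u w) : e • z = z := by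
  by_contra hne
  have h1 : e • z ∈ d.line u w := by
    have := d.smul_mem_line e hz
    rwa [hu, hw] at this
  have hxz : x ≠ z := fun h => hx (h ▸ hz)
  have h2 : d.line z (e • z) = d.line u w := d.line_eq huw hz h1 (Ne.symm hne)
  have h3 : d.line z (e • z) = d.line x z :=
    d.line_eq hxz (d.right_mem_line x z) (d.smul_el_mem_line he z) (Ne.symm hne)
  exact hx (h2 ▸ h3 ▸ d.left_mem_line x z)

theorem fixed_line_through_centre {x : X} {e : G} (he : e ∈ d.El x) (h1 : e ≠ 1) {y : X}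
    (hxy : x ≠ y) (hy : e • y = y) {z : X} (hz : z ∈ d.line x y) : e • z = z := by
  classical
  haveI := Fintype.ofFinite X
  set S : Finset X := Finset.univ.filter fun u => e • u = u ∧ u ∉ d.line x y with hS
  set f : X → Set X := fun u => d.line y u with hf
  have hfib : ∀ b ∈ S.image f, (S.filter fun u => f u = b).card = d.t := by
    intro b hb
    obtain ⟨u, hu, rfl⟩ := Finset.mem_image.mp hb
    rw [hS, Finset.mem_filter] at hu
    obtain ⟨-, hfu, hul⟩ := hu
    have hyu : y ≠ u := fun h => hul (h ▸ d.right_mem_line x y)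
    have hxl : x ∉ d.line y u := fun h => hul (by
      have := d.line_eq hyu (d.left_mem_line y u) h hxy.symm
      rw [d.line_comm x y, this]
      exact d.right_mem_line y u)
    have hset : ((S.filter fun w => f w = f u : Finset X) : Set X) = d.line y u \ {y} := by
      ext w
      simp only [hS, hf, Finset.coe_filter, Finset.mem_filter, Finset.mem_univ, true_and,
        Set.mem_setOf_eq, Set.mem_sdiff, Set.mem_singleton_iff]
      constructor
      · rintro ⟨⟨-, hwl⟩, heq⟩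
        exact ⟨heq ▸ d.right_mem_line y w, fun h => hwl (h ▸ d.right_mem_line x y)⟩
      · rintro ⟨hw, hwy⟩
        refine ⟨⟨d.fixed_of_off_line he hyu hy hfu hxl hw, fun hwl => hul ?_⟩,
          d.line_eq_left hyu hw hwy⟩
        have h := d.line_eq hxy (d.right_mem_line x y) hwl (Ne.symm hwy)
        rw [d.line_eq_left hyu hw hwy] at h
        exact h ▸ d.right_mem_line y u
    rw [← Set.ncard_coe_finset, hset, d.line_sdiff hyu, d.card_orbit hyu]
  have hdvd : d.t ∣ S.card := by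
    rw [Finset.card_eq_sum_card_image f S, Finset.sum_congr rfl hfib, Finset.sum_const, smul_eq_mul]
    exact dvd_mul_left _ _
  set L := fixedBy X e ∩ d.line x y with hL
  have hsum : L.ncard + S.card = d.k := by
    rw [← d.card_fixed_el he h1, hL,
      ← Set.ncard_inter_add_ncard_sdiff_eq_ncard (fixedBy X e) (d.line x y) (Set.toFinite _),
      ← Set.ncard_coe_finset S]
    congr 2
    ext u
    simp [hS]
  have hle : L.ncard ≤ d.t + 1 := (Set.ncard_le_ncard Set.inter_subset_right).trans (d.card_line hxy).le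
  have h2le : 2 ≤ L.ncard := by
    rw [← Set.ncard_pair hxy]
    exact Set.ncard_le_ncard (Set.insert_subset ⟨d.el_stab _ e he, d.left_mem_line x y⟩
      (Set.singleton_subset_iff.mpr ⟨hy, d.right_mem_line x y⟩))
  have hdvd2 : d.t ∣ L.ncard - 1 := by
    have := Nat.dvd_sub d.t_dvd_k_sub hdvd
    rwa [show d.k - 1 - S.card = L.ncard - 1 by omega] at this
  have hfull : L.ncard = d.t + 1 := by
    have := Nat.le_of_dvd (by omega) hdvd2
    omega
  have : L = d.line x y := Set.eq_of_subset_of_ncard_le Set.inter_subset_right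
    (by rw [hfull, d.card_line hxy]) (Set.toFinite _)
  exact (this ▸ hz : z ∈ L).1

/-- The fixed set of an elation is a subspace. -/
theorem fixed_line {x : X} {e : G} (he : e ∈ d.El x) (h1 : e ≠ 1) {u w z : X} (huw : u ≠ w)
    (hu : e • u = u) (hw : e • w = w) (hz : z ∈ d.line u w) : e • z = z := by
  by_cases hx : x ∈ d.line u w
  · rcases eq_or_ne x u with rfl | hxu
    · exact d.fixed_line_through_centre he h1 huw hw hz
    · refine d.fixed_line_through_centre he h1 hxu hu ?_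
      rwa [d.line_eq huw hx (d.left_mem_line u w) hxu]
  · exact d.fixed_of_off_line he huw hu hw hx hz

theorem el_commutator {x y : X} {e : G} (he : e ∈ d.El x) (h1 : e ≠ 1) (hy : e • y = y)
    {f : G} (hf : f ∈ d.El y) :
    e * f * e⁻¹ * f⁻¹ ∈ d.El y ∧ f * e⁻¹ * f⁻¹ ∈ d.El (f • x) ∧
      (∀ u : X, e • u = u → (f * e⁻¹ * f⁻¹) • u = u) ∧
      (∀ u : X, e • u = u → (e * f * e⁻¹ * f⁻¹) • u = u) := by
  have key : ∀ u : X, e • u = u → (f * e⁻¹ * f⁻¹) • u = u := by
    intro u hu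
    have : e • (f⁻¹ • u) = f⁻¹ • u := by
      rcases eq_or_ne y u with rfl | hne
      · rw [d.el_stab _ _ (inv_mem hf), hy]
      · exact d.fixed_line he h1 hne hy hu (d.smul_el_mem_line (inv_mem hf) u)
    rw [mul_smul, mul_smul, (inv_smul_eq_iff.mpr this.symm : e⁻¹ • f⁻¹ • u = f⁻¹ • u), smul_inv_smul]
  refine ⟨mul_mem (d.el_normal hy hf) (inv_mem hf), d.el_conj f x _ (inv_mem he), key, fun u hu => ?_⟩
  rw [show e * f * e⁻¹ * f⁻¹ = e * (f * e⁻¹ * f⁻¹) by group, mul_smul, key u hu, hu]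

/-- The fixed set of a nontrivial elation. -/
def IsHyp (d : Geo G X Ω) (H : Set X) : Prop :=
  ∃ x, ∃ e ∈ d.El x, e ≠ 1 ∧ H = fixedBy X e

/-- The elations at `y` fixing `H` pointwise. -/
def hypEl (d : Geo G X Ω) (H : Set X) (y : X) : Subgroup G := d.El y ⊓ fixingSubgroup G H

theorem mem_hypEl {H : Set X} {y : X} {g : G} :
    g ∈ d.hypEl H y ↔ g ∈ d.El y ∧ ∀ u ∈ H, g • u = u := by
  simp [hypEl, mem_fixingSubgroup_iff]

variable {H : Set X} (hH : d.IsHyp H)
include hH

theorem hyp_card : H.ncard = d.k := by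
  obtain ⟨x, e, he, h1, rfl⟩ := hH
  exact d.card_fixed_el he h1

theorem hyp_line {u w z : X} (hu : u ∈ H) (hw : w ∈ H) (huw : u ≠ w) (hz : z ∈ d.line u w) : z ∈ H := by
  obtain ⟨x, e, he, h1, rfl⟩ := hH
  exact d.fixed_line he h1 huw hu hw hz

theorem hyp_exists_ne (y : X) : ∃ u ∈ H, u ≠ y :=
  Set.exists_ne_of_one_lt_ncard (by rw [d.hyp_card hH]; exact d.two_le) y

theorem hyp_exists_notMem : ∃ u, u ∉ H := by
  by_contra h
  push Not at h
  have := d.hyp_card hH
  rw [Set.eq_univ_of_forall h, Set.ncard_univ] at this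
  have := d.lt_card
  omega

theorem hypEl_fixed {y : X} {g : G} (hg : g ∈ d.hypEl H y) (h1 : g ≠ 1) : fixedBy X g = H :=
  (Set.eq_of_subset_of_ncard_le (t := fixedBy X g) (fun u hu => (d.mem_hypEl.mp hg).2 u hu)
    (by rw [d.card_fixed_el (d.mem_hypEl.mp hg).1 h1, d.hyp_card hH]) (Set.toFinite _)).symm

theorem hypEl_step {x y z : X} (hx : x ∈ H) (hy : y ∈ H) (hxy : x ≠ y)
    (hz : z ∈ d.line x y) (hzy : z ≠ y) (hzx : z ≠ x) {a : G} (ha : a ∈ d.hypEl H x) (ha1 : a ≠ 1) :
    ∃ b ∈ d.hypEl H y, b ≠ 1 ∧ a * b ∈ d.hypEl H z := by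
  obtain ⟨f, hf, rfl⟩ := d.exists_el_of_mem_line hxy.symm (d.line_comm x y ▸ hz) hzy
  obtain ⟨ha, hfix⟩ := d.mem_hypEl.mp ha
  have hfix' : ∀ u ∈ H, a⁻¹ • u = u := fun u hu => inv_smul_eq_iff.mpr (hfix u hu).symm
  obtain ⟨hd1, hd2, hk2, hk1⟩ := d.el_commutator (inv_mem ha) (inv_ne_one.mpr ha1) (hfix' y hy) hf
  rw [inv_inv] at hd1 hd2 hk1 hk2
  refine ⟨a⁻¹ * f * a * f⁻¹, d.mem_hypEl.mpr ⟨hd1, fun u hu => hk1 u (hfix' u hu)⟩, ?_, ?_⟩
  · intro h
    have h' : f * a * f⁻¹ = a := by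
      have := congrArg (a * ·) h
      simpa [mul_assoc] using this
    exact ha1 (d.el_inf (Ne.symm hzx) ha (h' ▸ hd2))
  · rw [show a * (a⁻¹ * f * a * f⁻¹) = f * a * f⁻¹ by group]
    exact d.mem_hypEl.mpr ⟨hd2, fun u hu => hk2 u (hfix' u hu)⟩

theorem exists_third {x y : X} (hxy : x ≠ y) : ∃ z ∈ d.line x y, z ≠ x ∧ z ≠ y := by
  by_contra h
  push Not at h
  have hsub : d.line x y ⊆ {x, y} := fun z hz => by
    rcases eq_or_ne z x with h1 | h1
    · exact Or.inl h1
    · exact Or.inr (h z hz h1)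
  have := Set.ncard_le_ncard hsub
  rw [d.card_line hxy, Set.ncard_pair hxy] at this
  have := d.two_le_t
  omega

theorem hypEl_ne {y : X} (hy : y ∈ H) : ∃ g ∈ d.hypEl H y, g ≠ 1 := by
  obtain ⟨x, e, he, h1, heq⟩ := hH
  have hH' : d.IsHyp H := ⟨x, e, he, h1, heq⟩
  have hxH : x ∈ H := heq ▸ d.el_stab x e he
  have hmem : e ∈ d.hypEl H x := d.mem_hypEl.mpr ⟨he, fun u hu => (heq ▸ hu : u ∈ fixedBy X e)⟩
  rcases eq_or_ne x y with rfl | hxy
  · exact ⟨e, hmem, h1⟩
  · obtain ⟨z, hz, hzx, hzy⟩ := d.exists_third hH' hxy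
    obtain ⟨b, hb, hb1, -⟩ := d.hypEl_step hH' hxH hy hxy hz hzy hzx hmem h1
    exact ⟨b, hb, hb1⟩

theorem hypEl_commute {x y : X} (hx : x ∈ H) (hy : y ∈ H) (hxy : x ≠ y) {a b : G}
    (ha : a ∈ d.hypEl H x) (hb : b ∈ d.hypEl H y) : a * b = b * a := by
  obtain ⟨ha, ha'⟩ := d.mem_hypEl.mp ha
  obtain ⟨hb, hb'⟩ := d.mem_hypEl.mp hb
  have h1 : a * b * a⁻¹ * b⁻¹ = 1 := d.el_inf hxy
    (by
      rw [show a * b * a⁻¹ * b⁻¹ = a * (b * a⁻¹ * b⁻¹) by group]
      exact mul_mem ha (d.el_normal (hb' x hx) (inv_mem ha)))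
    (mul_mem (d.el_normal (ha' y hy) hb) (inv_mem hb))
  calc a * b = (a * b * a⁻¹ * b⁻¹) * (b * a) := by group
    _ = b * a := by rw [h1, one_mul]

theorem product_fixed {x y : X} (hx : x ∈ H) (hy : y ∈ H) (hxy : x ≠ y) {a b : G}
    (ha : a ∈ d.hypEl H x) (ha1 : a ≠ 1) (hb : b ∈ d.hypEl H y) (hb1 : b ≠ 1) :
    fixedBy X (a * b) = H := by
  refine Set.Subset.antisymm (fun c hc => ?_) fun c hc => ?_
  · by_contra hcH
    have hcx : x ≠ c := fun h => hcH (h ▸ hx)
    have hcy : y ≠ c := fun h => hcH (h ▸ hy)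
    have h1 : b • c ≠ c := fun h => hcH (d.hypEl_fixed hH hb hb1 ▸ h)
    have hc' : b • c = a⁻¹ • c := by
      rw [eq_inv_smul_iff, ← mul_smul]
      exact hc
    have h2 : b • c ∈ d.line x c := hc' ▸ d.smul_el_mem_line (inv_mem (d.mem_hypEl.mp ha).1) c
    have h3 : b • c ∈ d.line y c := d.smul_el_mem_line (d.mem_hypEl.mp hb).1 c
    have e1 := d.line_eq hcx (d.right_mem_line x c) h2 (Ne.symm h1)
    have e2 := d.line_eq hcy (d.right_mem_line y c) h3 (Ne.symm h1)
    have hyl : y ∈ d.line x c := by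
      rw [← e1, e2]
      exact d.left_mem_line y c
    exact hcH (d.hyp_line hH hx hy hxy (by
      rw [d.line_eq_left hcx hyl hxy.symm]; exact d.right_mem_line x c))
  · show (a * b) • c = c
    rw [mul_smul, (d.mem_hypEl.mp hb).2 c hc, (d.mem_hypEl.mp ha).2 c hc]

theorem outside_lt : Nat.card X - d.k < (d.k - d.l) * (d.t + 1) := by
  refine Nat.lt_of_mul_lt_mul_right (a := d.l) ?_
  rw [d.compl_mul, mul_assoc]
  refine Nat.mul_lt_mul_of_pos_left ?_ (Nat.sub_pos_of_lt d.l_lt_k)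
  have := d.k_le
  have := d.two_le
  rw [mul_comm d.l] at *
  omega

/-- A product of two elations of a hyperplane is an elation of that hyperplane. -/
theorem product_mem {x y : X} (hx : x ∈ H) (hy : y ∈ H) (hxy : x ≠ y) {a b : G}
    (ha : a ∈ d.hypEl H x) (ha1 : a ≠ 1) (hb : b ∈ d.hypEl H y) (hb1 : b ≠ 1) :
    ∃ z ∈ d.line x y, z ≠ x ∧ z ≠ y ∧ a * b ∈ d.hypEl H z := by
  classical
  haveI := Fintype.ofFinite X
  haveI := Fintype.ofFinite Ω
  have hcard : (fixedBy Ω (a * b)).ncard = d.k := by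
    rw [← d.fix_eq, d.product_fixed hH hx hy hxy ha ha1 hb hb1, d.hyp_card hH]
  set T := d.blk x ∩ d.blk y with hT
  obtain ⟨p, hp, w, hw, hpw, hpT⟩ : ∃ p, (a * b) • p = p ∧ ∃ w ∈ d.line x y, p ∈ d.blk w ∧ p ∉ T := by
    by_contra h
    push Not at h
    set U := (d.line x y).toFinset.biUnion fun w => (d.blk w \ T).toFinset with hU
    have hsub : fixedBy Ω (a * b) ⊆ (U : Set Ω)ᶜ := by
      intro p hp hpU
      simp only [hU, Finset.coe_biUnion, Set.mem_iUnion, Finset.mem_coe, Set.mem_toFinset] at hpU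
      obtain ⟨w, hw, hpw, hpT⟩ := hpU
      exact hpT (h p hp w hw hpw)
    have hUcard : U.card = (d.t + 1) * (d.k - d.l) := by
      rw [hU, Finset.card_biUnion, Finset.sum_congr rfl (g := fun _ => d.k - d.l), Finset.sum_const,
        smul_eq_mul, ← Set.ncard_eq_toFinset_card', d.card_line hxy]
      · intro w hw
        rw [Set.mem_toFinset] at hw
        rw [← Set.ncard_eq_toFinset_card', Set.ncard_sdiff (show T ⊆ d.blk w from hw),
          d.card_blk, d.card_inter x y hxy]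
      · intro w hw w' hw' hne
        rw [Finset.mem_coe, Set.mem_toFinset] at hw hw'
        rw [Function.onFun, Finset.disjoint_left]
        intro p hp hp'
        rw [Set.mem_toFinset] at hp hp'
        have h2 : T = d.blk w ∩ d.blk w' := Set.eq_of_subset_of_ncard_le
          (Set.subset_inter hw hw') (by rw [hT, d.card_inter x y hxy, d.card_inter w w' hne])
          (Set.toFinite _)
        exact hp.2 (h2 ▸ ⟨hp.1, hp'.1⟩)
    have hle := Set.ncard_le_ncard hsub
    rw [hcard, Set.ncard_compl, Set.ncard_coe_finset, hUcard, d.card_eq, mul_comm] at hle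
    have := d.outside_lt hH
    have := d.two_le
    omega
  have hcomm := d.hypEl_commute hH hx hy hxy ha hb
  obtain ⟨hae, hafix⟩ := d.mem_hypEl.mp ha
  obtain ⟨hbe, hbfix⟩ := d.mem_hypEl.mp hb
  have hTw : ∀ w' ∈ d.line x y, w' ≠ w → p ∉ d.blk w' := fun w' hw' hne hpw' => hpT (by
    have h2 : T = d.blk w' ∩ d.blk w := Set.eq_of_subset_of_ncard_le
      (Set.subset_inter hw' hw) (by rw [hT, d.card_inter x y hxy, d.card_inter w' w hne]) (Set.toFinite _)
    exact h2 ▸ ⟨hpw', hpw⟩)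
  have hwx : w ≠ x := by
    rintro rfl
    have : b • p = p := by
      rw [hcomm, mul_smul, d.el_fix _ a hae p hpw] at hp
      exact hp
    exact hb1 (d.el_semi y b hbe p (hTw y (d.right_mem_line _ _) hxy.symm) this)
  have hwy : w ≠ y := by
    rintro rfl
    have : a • p = p := by
      rw [mul_smul, d.el_fix _ b hbe p hpw] at hp
      exact hp
    exact ha1 (d.el_semi x a hae p (hTw x (d.left_mem_line _ _) hxy) this)
  refine ⟨w, hw, hwx, hwy, ?_⟩
  obtain ⟨c, hc, hc1, hac⟩ := d.hypEl_step hH hx hy hxy hw hwy hwx ha ha1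
  have hfixc : (a * c) • p = p := d.el_fix w _ (d.mem_hypEl.mp hac).1 p hpw
  have hbc : c⁻¹ * b = 1 := by
    refine d.el_semi y _ (mul_mem (inv_mem (d.mem_hypEl.mp hc).1) hbe) p
      (hTw y (d.right_mem_line _ _) hwy.symm) ?_
    have h1 : (a * c)⁻¹ • p = p := by rw [inv_smul_eq_iff, hfixc]
    rw [show c⁻¹ * b = (a * c)⁻¹ * (a * b) by group, mul_smul, hp, h1]
  rw [inv_mul_eq_one] at hbc
  exact hbc ▸ hac

theorem card_hypEl {y : X} (hy : y ∈ H) : Nat.card (d.hypEl H y) = d.t := by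
  obtain ⟨x, hx, hxy⟩ := d.hyp_exists_ne hH y
  obtain ⟨a, ha, ha1⟩ := d.hypEl_ne hH hx
  have h1 : ((d.hypEl H y : Set G) \ {1}).ncard = (d.line x y \ {x, y}).ncard := by
    refine Set.ncard_congr (fun b hb => (d.product_mem hH hx hy hxy ha ha1 hb.1 hb.2).choose) ?_ ?_ ?_
    · intro b hb
      obtain ⟨h, h', h'', -⟩ := (d.product_mem hH hx hy hxy ha ha1 hb.1 hb.2).choose_spec
      exact ⟨h, fun hm => hm.elim h' h''⟩
    · intro b c hb hc heq
      obtain ⟨-, -, hne, hmb⟩ := (d.product_mem hH hx hy hxy ha ha1 hb.1 hb.2).choose_spec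
      obtain ⟨-, -, -, hmc⟩ := (d.product_mem hH hx hy hxy ha ha1 hc.1 hc.2).choose_spec
      rw [← heq] at hmc
      have := d.el_inf hne (mul_mem (inv_mem (d.mem_hypEl.mp hmb).1) (d.mem_hypEl.mp hmc).1)
        (by
          rw [show (a * b)⁻¹ * (a * c) = b⁻¹ * c by group]
          exact mul_mem (inv_mem (d.mem_hypEl.mp hb.1).1) (d.mem_hypEl.mp hc.1).1)
      rw [show (a * b)⁻¹ * (a * c) = b⁻¹ * c by group, inv_mul_eq_one] at this
      exact this
    · intro z hz
      simp only [Set.mem_sdiff, Set.mem_insert_iff, Set.mem_singleton_iff, not_or] at hz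
      obtain ⟨b, hb, hb1, hab⟩ := d.hypEl_step hH hx hy hxy hz.1 hz.2.2 hz.2.1 ha ha1
      refine ⟨b, ⟨hb, hb1⟩, ?_⟩
      obtain ⟨-, -, -, hm⟩ := (d.product_mem hH hx hy hxy ha ha1 hb hb1).choose_spec
      by_contra hne
      have h1' := d.el_inf hne (d.mem_hypEl.mp hm).1 (d.mem_hypEl.mp hab).1
      have := d.el_inf hxy (d.mem_hypEl.mp ha).1
        (by rw [eq_inv_of_mul_eq_one_left h1']; exact inv_mem (d.mem_hypEl.mp hb).1)
      exact ha1 this
  rw [Set.ncard_sdiff_singleton_of_mem (one_mem _),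
    Set.ncard_sdiff (Set.insert_subset (d.left_mem_line x y)
      (Set.singleton_subset_iff.mpr (d.right_mem_line x y))), d.card_line hxy, Set.ncard_pair hxy,
    ← Nat.card_coe_set_eq] at h1
  have h2 : 1 ≤ Nat.card (d.hypEl H y) := Nat.card_pos
  have := d.two_le_t
  have h3 : Nat.card ((d.hypEl H y : Set G)) = Nat.card (d.hypEl H y) := rfl
  omega

/-- The group of all elations with axis `H`. -/
def hypGroup : Subgroup G where
  carrier := {g | ∃ y ∈ H, g ∈ d.hypEl H y}
  one_mem' := by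
    obtain ⟨u, hu, -⟩ := d.hyp_exists_ne hH d.x₀
    exact ⟨u, hu, one_mem _⟩
  mul_mem' := by
    rintro a b ⟨x, hx, ha⟩ ⟨y, hy, hb⟩
    rcases eq_or_ne x y with rfl | hxy
    · exact ⟨x, hx, mul_mem ha hb⟩
    by_cases ha1 : a = 1
    · exact ⟨y, hy, by rw [ha1, one_mul]; exact hb⟩
    by_cases hb1 : b = 1
    · exact ⟨x, hx, by rw [hb1, mul_one]; exact ha⟩
    obtain ⟨z, hz, -, -, h⟩ := d.product_mem hH hx hy hxy ha ha1 hb hb1
    exact ⟨z, d.hyp_line hH hx hy hxy hz, h⟩
  inv_mem' := fun ⟨y, hy, h⟩ => ⟨y, hy, inv_mem h⟩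

theorem hypGroup_fix {g : G} (hg : g ∈ d.hypGroup hH) {u : X} (hu : u ∈ H) : g • u = u := by
  obtain ⟨y, -, h⟩ := hg
  exact (d.mem_hypEl.mp h).2 u hu

theorem hypGroup_semi {g : G} (hg : g ∈ d.hypGroup hH) {u : X} (hu : u ∉ H) (h : g • u = u) :
    g = 1 := by
  obtain ⟨y, -, hy⟩ := hg
  by_contra h1
  exact hu (d.hypEl_fixed hH hy h1 ▸ h)

theorem card_hypGroup : Nat.card (d.hypGroup hH) = 1 + d.k * (d.t - 1) := by
  classical
  haveI := Fintype.ofFinite X
  haveI := Fintype.ofFinite G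
  set U := H.toFinset.biUnion fun y => ((d.hypEl H y : Set G) \ {1}).toFinset with hU
  have hset : (Finset.univ.filter fun g => g ∈ d.hypGroup hH) = insert 1 U := by
    ext g
    simp only [Finset.mem_filter, Finset.mem_univ, true_and, Finset.mem_insert, hU,
      Finset.mem_biUnion, Set.mem_toFinset, Set.mem_sdiff, SetLike.mem_coe, Set.mem_singleton_iff]
    constructor
    · rintro ⟨y, hy, h⟩
      by_cases h1 : g = 1
      · exact Or.inl h1
      · exact Or.inr ⟨y, hy, h, h1⟩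
    · rintro (rfl | ⟨y, hy, h, -⟩)
      · exact one_mem _
      · exact ⟨y, hy, h⟩
  have hUcard : U.card = d.k * (d.t - 1) := by
    rw [hU, Finset.card_biUnion, Finset.sum_congr rfl (g := fun _ => d.t - 1), Finset.sum_const,
      smul_eq_mul, ← Set.ncard_eq_toFinset_card', d.hyp_card hH]
    · intro y hy
      rw [Set.mem_toFinset] at hy
      rw [← Set.ncard_eq_toFinset_card', Set.ncard_sdiff_singleton_of_mem (one_mem _),
        ← Nat.card_coe_set_eq, ← d.card_hypEl hH hy]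
      rfl
    · intro y _ y' _ hne
      rw [Function.onFun, Finset.disjoint_left]
      intro g hg hg'
      simp only [Set.mem_toFinset, Set.mem_sdiff, SetLike.mem_coe, Set.mem_singleton_iff] at hg hg'
      exact hg.2 (d.el_inf hne (d.mem_hypEl.mp hg.1).1 (d.mem_hypEl.mp hg'.1).1)
  rw [Nat.card_eq_fintype_card, Fintype.card_subtype, hset, Finset.card_insert_of_notMem, hUcard,
    add_comm]
  simp [hU]

theorem card_orbit_hypGroup {u : X} (hu : u ∉ H) :
    (orbit (d.hypGroup hH) u).ncard = Nat.card (d.hypGroup hH) := by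
  rw [← index_stabilizer, (Subgroup.eq_bot_iff_forall (stabilizer (d.hypGroup hH) u)).mpr fun g hg =>
    Subtype.ext (d.hypGroup_semi hH g.2 hu hg), Subgroup.index_bot]

theorem hypGroup_maps {g : G} (hg : g ∈ d.hypGroup hH) {u : X} (hu : u ∉ H) : g • u ∉ H := fun h =>
  hu (by
    have := d.hypGroup_fix hH (inv_mem hg) h
    rw [inv_smul_smul] at this
    exact this ▸ h)

theorem card_compl : Nat.card X - d.k = Nat.card (d.hypGroup hH) := by
  have hdvd : Nat.card (d.hypGroup hH) ∣ Hᶜ.ncard :=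
    Cfsg.Agent.Lib.Perm.dvd_ncard_of_orbits (G := d.hypGroup hH) _ (Set.toFinite _)
      (fun g u hu => d.hypGroup_maps hH g.2 hu) fun u hu => (d.card_orbit_hypGroup hH hu).symm.dvd
  rw [Set.ncard_compl, d.hyp_card hH] at hdvd
  have h2 : Nat.card X - d.k < 2 * Nat.card (d.hypGroup hH) := by
    refine (d.outside_lt hH).trans_le ?_
    rw [d.card_hypGroup hH]
    have := d.two_le_t
    have hk := d.k_le
    rcases Nat.lt_or_ge d.t 3 with h | h
    · rw [show d.t = 2 by omega] at hk ⊢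
      omega
    · calc (d.k - d.l) * (d.t + 1) ≤ d.k * (d.t + 1) := Nat.mul_le_mul_right _ (Nat.sub_le _ _)
        _ ≤ d.k * (2 * (d.t - 1)) := Nat.mul_le_mul_left _ (by omega)
        _ ≤ 2 * (1 + d.k * (d.t - 1)) := by rw [mul_add, mul_left_comm]; omega
  obtain ⟨c, hc⟩ := hdvd
  have := d.lt_card
  have hc1 : c = 1 := by
    by_contra hne
    have : c ≠ 0 := by rintro rfl; omega
    have : Nat.card (d.hypGroup hH) * 2 ≤ Nat.card (d.hypGroup hH) * c := Nat.mul_le_mul_left _ (by omega)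
    omega
  rw [hc, hc1, mul_one]

theorem card_compl' : Hᶜ.ncard = Nat.card (d.hypGroup hH) := by
  rw [Set.ncard_compl, d.hyp_card hH, d.card_compl hH]

theorem k_eq : d.k = d.l * d.t + 1 := by
  have h1 := d.compl_mul
  rw [d.card_compl hH, d.card_hypGroup hH] at h1
  obtain ⟨j, hj⟩ : ∃ j, d.k = j + 1 := ⟨d.k - 1, by have := d.two_le; omega⟩
  obtain ⟨i, hi⟩ : ∃ i, d.k = d.l + i := ⟨d.k - d.l, by have := d.l_lt_k; omega⟩
  obtain ⟨w, hw⟩ : ∃ w, d.t = w + 1 := ⟨d.t - 1, by have := d.t_pos; omega⟩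
  rw [show d.k - d.l = i by omega, show d.k - 1 = j by omega, show d.t - 1 = w by omega] at h1
  have h2 : (j + 1) * j = (j + 1) * (d.l * (w + 1)) := by
    have e1 : d.l + i = j + 1 := hi.symm.trans hj
    rw [hj] at h1
    calc (j + 1) * j = (d.l + i) * j := by rw [e1]
      _ = d.l * j + i * j := by ring
      _ = d.l * j + (1 + (j + 1) * w) * d.l := by rw [h1]
      _ = (j + 1) * (d.l * (w + 1)) := by ring
  have h3 := Nat.eq_of_mul_eq_mul_left (Nat.succ_pos j) h2
  rw [hw]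
  omega

theorem exists_translation {u w : X} (hu : u ∉ H) (hw : w ∉ H) :
    ∃ g ∈ d.hypGroup hH, g • u = w := by
  have h : orbit (d.hypGroup hH) u = Hᶜ := Set.eq_of_subset_of_ncard_le
    (by rintro _ ⟨g, rfl⟩; exact d.hypGroup_maps hH g.2 hu)
    (by rw [d.card_compl' hH, d.card_orbit_hypGroup hH hu]) (Set.toFinite _)
  obtain ⟨g, hg⟩ : w ∈ orbit (d.hypGroup hH) u := h ▸ hw
  exact ⟨g.1, g.2, hg⟩

/-- Every line meets every hyperplane. -/
theorem line_meets_hyp {u w : X} (huw : u ≠ w) : ∃ y ∈ d.line u w, y ∈ H := by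
  by_cases hu : u ∈ H
  · exact ⟨u, d.left_mem_line u w, hu⟩
  by_cases hw : w ∈ H
  · exact ⟨w, d.right_mem_line u w, hw⟩
  obtain ⟨g, ⟨y, hy, hg⟩, rfl⟩ := d.exists_translation hH hu hw
  refine ⟨y, ?_, hy⟩
  have hyu : y ≠ u := fun h => hu (h ▸ hy)
  have h := d.smul_el_mem_line (d.mem_hypEl.mp hg).1 u
  rw [d.line_eq hyu (d.right_mem_line y u) h huw]
  exact d.left_mem_line y u

end CfsgLib.BlockElation.Geo
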