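import Cfsg.Agent.Lib.BlockElation.Translations

/-!
The transvection groups of a frame: elations at a frame point fixing the base point and the other
frame points, and the endomorphisms they induce on the translations.
-/

set_option autoImplicit false
set_option linter.unusedSectionVars false

namespace CfsgLib.BlockElation

open MulAction

variable {G X Ω : Type*} [Group G] [MulAction G X] [MulAction G Ω] [Finite G] [Finite X] [Finite Ω]
  (d : Geo G X Ω)

/-- A hyperplane, a point off it and a frame of the translations. -/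
structure Frame where
  H : Set X
  hH : d.IsHyp H
  o : X
  ho : o ∉ H
  M : ℕ
  f : Fin M → X
  f_mem : ∀ i, f i ∈ H
  f_bij : Function.Bijective (d.frameSum hH f)

theorem frame_nonempty : Nonempty (Frame d) := by
  obtain ⟨e, he, h1⟩ := (Subgroup.ne_bot_iff_exists_ne_one.mp (d.el_ne d.x₀) :
    ∃ e : d.El d.x₀, e ≠ 1) |> fun ⟨e, he⟩ => (⟨e.1, e.2, fun h => he (Subtype.ext h)⟩ : ∃ e, e ∈ d.El d.x₀ ∧ e ≠ 1)
  have hH : d.IsHyp (fixedBy X e) := ⟨d.x₀, e, he, h1, rfl⟩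
  obtain ⟨o, ho⟩ := d.hyp_exists_notMem hH
  obtain ⟨M, f, hf, hb⟩ := d.exists_frame hH
  exact ⟨⟨_, hH, o, ho, M, f, hf, hb⟩⟩

namespace Frame

variable {d} (fr : Frame d)

/-- The translations of the frame. -/
abbrev W := d.V fr.hH

/-- The component of the `i`-th frame point. -/
noncomputable abbrev C (i : Fin fr.M) : AddSubgroup fr.W := d.comp fr.hH (fr.f i)

theorem card_W : Nat.card fr.W = d.t ^ fr.M := by
  rw [← Nat.card_congr (Equiv.ofBijective _ fr.f_bij), Nat.card_pi,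
    Finset.prod_congr rfl (fun i _ => d.card_comp fr.hH (fr.f_mem i)), Finset.prod_const,
    Finset.card_univ, Fintype.card_fin]

theorem two_le_M : 2 ≤ fr.M := by
  by_contra h
  have h1 := fr.card_W
  rw [d.card_V fr.hH] at h1
  have h2 := d.two_le
  have h3 := d.two_le_t
  rcases Nat.lt_or_ge fr.M 1 with h0 | h0
  · rw [show fr.M = 0 by omega, pow_zero] at h1
    have : 0 < d.k * (d.t - 1) := Nat.mul_pos (by omega) (by omega)
    omega
  · rw [show fr.M = 1 by omega, pow_one] at h1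
    have : 2 * (d.t - 1) ≤ d.k * (d.t - 1) := Nat.mul_le_mul_right _ h2
    omega

theorem frame_inj : Function.Injective fr.f := by
  intro i j hij
  by_contra hne
  obtain ⟨v, hv, hv0⟩ := d.exists_ne_zero fr.hH (fr.f_mem i)
  classical
  have key : ∀ (l : Fin fr.M) (x : d.comp fr.hH (fr.f l)),
      d.frameSum fr.hH fr.f (Pi.single l x) = (x : fr.W) := fun l x => by
    show ∑ m, ((Pi.single l x : ∀ m, d.comp fr.hH (fr.f m)) m : fr.W) = _
    rw [Finset.sum_eq_single l (fun m _ hm => by simp [hm]) (by simp), Pi.single_eq_same]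
  have h := congrFun (fr.f_bij.1 ((key i ⟨v, hv⟩).trans (key j ⟨v, hij ▸ hv⟩).symm)) i
  rw [Pi.single_eq_same, Pi.single_eq_of_ne hne] at h
  exact hv0 (congrArg Subtype.val h)

theorem hom_ext {N : Type*} [AddCommMonoid N] {g g' : fr.W →+ N}
    (h : ∀ i, ∀ v ∈ fr.C i, g v = g' v) : g = g' := by
  ext v
  obtain ⟨c, rfl⟩ := fr.f_bij.2 v
  show g (∑ i, (c i : fr.W)) = g' (∑ i, (c i : fr.W))
  rw [map_sum, map_sum]
  exact Finset.sum_congr rfl fun i _ => h i _ (c i).2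

theorem smul_off {v : fr.W} : (Additive.toMul v).1 • fr.o ∉ fr.H :=
  d.hypGroup_maps fr.hH (Additive.toMul v).2 fr.ho

/-- The elations at `f i` fixing the base point and the frame points other than `f j`. -/
def T (i j : Fin fr.M) : Subgroup G :=
  d.El (fr.f i) ⊓ fixingSubgroup G (insert fr.o (fr.f '' {l | l ≠ j}))

theorem mem_T {i j : Fin fr.M} {e : G} :
    e ∈ fr.T i j ↔ e ∈ d.El (fr.f i) ∧ e • fr.o = fr.o ∧ ∀ l, l ≠ j → e • fr.f l = fr.f l := by
  simp [T, mem_fixingSubgroup_iff]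

/-- The elations at `f i` fixing the base point. -/
def S (i : Fin fr.M) : Subgroup G := d.El (fr.f i) ⊓ stabilizer G fr.o

theorem T_le_S (i j : Fin fr.M) : fr.T i j ≤ fr.S i :=
  fun _ he => ⟨(fr.mem_T.mp he).1, (fr.mem_T.mp he).2.1⟩

theorem conj_mem {i : Fin fr.M} (e : fr.S i) {g : G} (hg : g ∈ d.hypGroup fr.hH) :
    e.1 * g * e.1⁻¹ ∈ d.hypGroup fr.hH := by
  obtain ⟨y, hy, hgy⟩ := hg
  exact ⟨e.1 • y, d.el_smul_hyp fr.hH (fr.f_mem i) e.2.1 hy,
    d.conj_hypEl fr.hH (fun u hu => d.el_smul_hyp fr.hH (fr.f_mem i) (inv_mem e.2.1) hu) hgy⟩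

/-- Conjugation on the translations. -/
noncomputable def psi {i : Fin fr.M} (e : fr.S i) : fr.W →+ fr.W where
  toFun v := Additive.ofMul ⟨_, fr.conj_mem e (Additive.toMul v).2⟩
  map_zero' := Additive.toMul.injective (Subtype.ext (by
    show e.1 * 1 * e.1⁻¹ = 1
    rw [mul_one, mul_inv_cancel]))
  map_add' a b := Additive.toMul.injective (Subtype.ext (by
    show e.1 * ((Additive.toMul a).1 * (Additive.toMul b).1) * e.1⁻¹ =
      e.1 * (Additive.toMul a).1 * e.1⁻¹ * (e.1 * (Additive.toMul b).1 * e.1⁻¹)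
    group))

theorem psi_smul {i : Fin fr.M} (e : fr.S i) (v : fr.W) :
    (Additive.toMul (fr.psi e v)).1 • fr.o = e.1 • (Additive.toMul v).1 • fr.o := by
  show (e.1 * (Additive.toMul v).1 * e.1⁻¹) • fr.o = _
  rw [mul_smul, mul_smul, (inv_smul_eq_iff.mpr e.2.2.symm : e.1⁻¹ • fr.o = fr.o)]

theorem psi_comp {i : Fin fr.M} (e : fr.S i) {y : X} {v : fr.W} (hv : v ∈ d.comp fr.hH y) :
    fr.psi e v ∈ d.comp fr.hH (e.1 • y) :=
  d.conj_hypEl fr.hH (fun u hu => d.el_smul_hyp fr.hH (fr.f_mem i) (inv_mem e.2.1) hu) hv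

/-- The endomorphism `v ↦ ψ v - v`. -/
noncomputable def tau {i : Fin fr.M} (e : fr.S i) : AddMonoid.End fr.W :=
  fr.psi e - AddMonoidHom.id fr.W

theorem tau_apply {i : Fin fr.M} (e : fr.S i) (v : fr.W) : fr.tau e v = fr.psi e v - v := rfl

theorem tau_mem {i : Fin fr.M} (e : fr.S i) (v : fr.W) : fr.tau e v ∈ fr.C i := by
  have hu : (Additive.toMul v).1 • fr.o ∉ fr.H := fr.smul_off
  have hne : e.1 • (Additive.toMul v).1 • fr.o ≠ fr.f i := fun h => by
    apply hu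
    rw [MulAction.injective e.1 (h.trans (d.el_stab _ e.1 e.2.1).symm)]
    exact fr.f_mem i
  obtain ⟨q, hq, hqe⟩ := d.line_off fr.hH (fr.f_mem i) hu (d.smul_el_mem_line e.2.1 _) hne
  have hqv : q * (Additive.toMul v).1 ∈ d.hypGroup fr.hH :=
    mul_mem ⟨_, fr.f_mem i, hq⟩ (Additive.toMul v).2
  have h1 : (Additive.toMul (fr.psi e v)).1 = q * (Additive.toMul v).1 := by
    have h2 := d.hypGroup_semi fr.hH (mul_mem (inv_mem hqv) (Additive.toMul (fr.psi e v)).2) fr.ho (by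
      rw [mul_smul, fr.psi_smul, ← hqe, inv_smul_eq_iff, mul_smul])
    exact (inv_mul_eq_one.mp h2).symm
  have : fr.psi e v = Additive.ofMul (⟨q, _, fr.f_mem i, hq⟩ : d.hypGroup fr.hH) + v :=
    Additive.toMul.injective (Subtype.ext h1)
  rw [tau_apply, this, add_sub_cancel_right]
  exact hq

theorem tau_zero {i : Fin fr.M} (e : fr.S i) {y : X} (hy : y ∈ fr.H) (hey : e.1 • y = y) {v : fr.W}
    (hv : v ∈ d.comp fr.hH y) : fr.tau e v = 0 := by
  rw [tau_apply, sub_eq_zero]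
  have hfix : e.1 • (Additive.toMul v).1 • fr.o = (Additive.toMul v).1 • fr.o := by
    by_cases h1 : e.1 = 1
    · rw [h1, one_smul]
    · refine d.fixed_line e.2.1 h1 (fun h : y = fr.o => fr.ho (h ▸ hy)) hey e.2.2 ?_
      exact d.smul_el_mem_line (d.mem_hypEl.mp hv).1 fr.o
  have h2 := d.hypGroup_semi fr.hH
    (mul_mem (inv_mem (Additive.toMul v).2) (Additive.toMul (fr.psi e v)).2) fr.ho
    (by rw [mul_smul, fr.psi_smul, hfix, inv_smul_smul])
  exact Additive.toMul.injective (Subtype.ext (inv_mul_eq_one.mp h2).symm)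

theorem eq_one_of_tau {i : Fin fr.M} (e : fr.S i) (h : fr.tau e = 0) : e = 1 := by
  by_contra h1
  have h1' : e.1 ≠ 1 := fun h' => h1 (Subtype.ext h')
  have hfix : ∀ u, u ∉ fr.H → e.1 • u = u := by
    intro u hu
    obtain ⟨g, hg, rfl⟩ := d.exists_translation fr.hH fr.ho hu
    have := fr.psi_smul e (Additive.ofMul ⟨g, hg⟩)
    rw [show fr.psi e (Additive.ofMul ⟨g, hg⟩) = Additive.ofMul (⟨g, hg⟩ : d.hypGroup fr.hH) from
      sub_eq_zero.mp (DFunLike.congr_fun h _)] at this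
    exact this.symm
  have hsub : insert (fr.f i) fr.Hᶜ ⊆ fixedBy X e.1 := Set.insert_subset (d.el_stab _ e.1 e.2.1) hfix
  have := Set.ncard_le_ncard hsub
  rw [d.card_fixed_el e.2.1 h1', Set.ncard_insert_of_notMem (show fr.f i ∉ fr.Hᶜ from fun hm => hm (fr.f_mem i)),
    d.card_compl' fr.hH, d.card_hypGroup fr.hH] at this
  have : d.k * 1 ≤ d.k * (d.t - 1) := Nat.mul_le_mul_left _ (by have := d.two_le_t; omega)
  omega

theorem tau_kills {i j : Fin fr.M} (e : fr.S i) (he : e.1 ∈ fr.T i j) {l : Fin fr.M} (hl : l ≠ j)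
    {v : fr.W} (hv : v ∈ fr.C l) : fr.tau e v = 0 :=
  fr.tau_zero e (fr.f_mem l) ((fr.mem_T.mp he).2.2 l hl) hv

theorem tau_mul {i : Fin fr.M} (e e' : fr.S i) :
    fr.tau (e * e') = fr.tau e + fr.tau e' + fr.tau e * fr.tau e' := by
  refine AddMonoidHom.ext fun v => ?_
  show fr.tau (e * e') v = fr.tau e v + fr.tau e' v + fr.tau e (fr.tau e' v)
  have : fr.psi (e * e') v = fr.psi e (fr.psi e' v) := Additive.toMul.injective (Subtype.ext (by
    show e.1 * e'.1 * (Additive.toMul v).1 * (e.1 * e'.1)⁻¹ =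
      e.1 * (e'.1 * (Additive.toMul v).1 * e'.1⁻¹) * e.1⁻¹
    group))
  simp only [tau_apply, this, map_sub]
  abel

/-- `T i j` inside `S i`. -/
def T' (i j : Fin fr.M) : Subgroup (fr.S i) := (fr.T i j).subgroupOf (fr.S i)

theorem tau_mul_T {i j : Fin fr.M} (hij : i ≠ j) (e e' : fr.T' i j) :
    fr.tau (e.1 * e'.1) = fr.tau e.1 + fr.tau e'.1 := by
  rw [fr.tau_mul, add_eq_left]
  exact AddMonoidHom.ext fun v => fr.tau_kills e.1 e.2 hij (fr.tau_mem e'.1 v)

theorem fixes_of_kill {i : Fin fr.M} (e : fr.S i) (h1 : e.1 ≠ 1) {y : X} (hy : y ∈ fr.H) {c : fr.W}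
    (hc : c ∈ d.comp fr.hH y) (hc0 : c ≠ 0) (h : fr.tau e c = 0) : e.1 • y = y := by
  have h2 := fr.psi_smul e c
  rw [show fr.psi e c = c from sub_eq_zero.mp h] at h2
  have hne : fr.o ≠ (Additive.toMul c).1 • fr.o := fun hh => hc0 (Additive.toMul.injective (Subtype.ext
    (d.hypGroup_semi fr.hH (Additive.toMul c).2 fr.ho hh.symm)))
  refine d.fixed_line e.2.1 h1 hne e.2.2 h2.symm ?_
  have hyo : y ≠ fr.o := fun hh => fr.ho (hh ▸ hy)
  have hmem : (Additive.toMul c).1 • fr.o ∈ d.line y fr.o :=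
    d.smul_el_mem_line (d.mem_hypEl.mp hc).1 fr.o
  rw [d.line_eq hyo (d.right_mem_line y fr.o) hmem hne]
  exact d.left_mem_line y fr.o

theorem eq_one_of_kill {i j : Fin fr.M} (e : fr.T' i j) {c : fr.W} (hc : c ∈ fr.C j) (hc0 : c ≠ 0)
    (h : fr.tau e.1 c = 0) : e = 1 := by
  by_cases h1 : e.1.1 = 1
  · exact Subtype.ext (Subtype.ext h1)
  refine Subtype.ext (fr.eq_one_of_tau e.1 (fr.hom_ext fun l v hv => ?_))
  by_cases hl : l = j
  · subst hl
    exact fr.tau_zero e.1 (fr.f_mem l) (fr.fixes_of_kill e.1 h1 (fr.f_mem l) hc hc0 h) hv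
  · exact fr.tau_kills e.1 e.2 hl hv

theorem le_card_T (i j : Fin fr.M) (hij : i ≠ j) : d.t ≤ Nat.card (fr.T' i j) := by
  classical
  set Y := insert fr.o ((Finset.univ \ {i, j}).image fr.f) with hY
  have hYc : Y.card ≤ fr.M - 1 := by
    refine (Finset.card_insert_le _ _).trans ?_
    have h1 := Finset.card_image_le (s := Finset.univ \ {i, j}) (f := fr.f)
    rw [Finset.card_univ_sdiff, Fintype.card_fin, Finset.card_pair hij] at h1
    have := fr.two_le_M
    omega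
  have h := d.card_el_fixing fr.hH (fr.f i) Y
  have heq : d.El (fr.f i) ⊓ fixingSubgroup G (Y : Set X) = fr.T i j := by
    ext e
    simp only [Subgroup.mem_inf, mem_T, mem_fixingSubgroup_iff, hY, Finset.coe_insert, Finset.coe_image,
      Set.mem_insert_iff, Set.mem_image, forall_eq_or_imp, forall_exists_index, and_imp,
      forall_apply_eq_imp_iff₂]
    refine and_congr_right fun he => and_congr_right fun _ => ⟨fun h l hl => ?_, fun h l hl => ?_⟩
    · by_cases hli : l = i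
      · subst hli; exact d.el_stab _ e he
      · exact h l (by simp [hli, hl])
    · exact h l (by simp at hl; exact hl.2)
  rw [heq, d.s_eq_card fr.hH, fr.card_W] at h
  rw [show Nat.card (fr.T' i j) = Nat.card (fr.T i j) from
    Nat.card_congr (Subgroup.subgroupOfEquivOfLe (fr.T_le_S i j)).toEquiv]
  have ht := d.two_le_t
  have h2 : d.t * d.t ^ Y.card ≤ Nat.card (fr.T i j) * d.t ^ Y.card := by
    refine le_trans ?_ h
    rw [← pow_succ']
    exact Nat.pow_le_pow_right (by omega) (by have := fr.two_le_M; omega)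
  exact Nat.le_of_mul_le_mul_right h2 (pow_pos (by omega) _)

theorem exists_tau {i j : Fin fr.M} (hij : i ≠ j) {c : fr.W} (hc : c ∈ fr.C j) (hc0 : c ≠ 0)
    {b : fr.W} (hb : b ∈ fr.C i) : ∃ e : fr.T' i j, fr.tau e.1 c = b := by
  let m : fr.T' i j → fr.C i := fun e => ⟨fr.tau e.1 c, fr.tau_mem e.1 c⟩
  have hinj : Function.Injective m := by
    intro e e' hee
    have h1 : fr.tau (e'⁻¹ * e).1 c = 0 := by
      have h2 := DFunLike.congr_fun (fr.tau_mul_T hij e' (e'⁻¹ * e)) c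
      rw [show e'.1 * (e'⁻¹ * e).1 = e.1 from congrArg Subtype.val (mul_inv_cancel_left e' e)] at h2
      have h3 : fr.tau e.1 c = fr.tau e'.1 c := congrArg Subtype.val hee
      rw [h3] at h2
      exact left_eq_add.mp h2
    exact (inv_mul_eq_one.mp (fr.eq_one_of_kill (e'⁻¹ * e) hc hc0 h1)).symm
  have hb2 : Function.Bijective m := hinj.bijective_of_nat_card_le (by
    rw [d.card_comp fr.hH (fr.f_mem i)]
    exact fr.le_card_T i j hij)
  obtain ⟨e, he⟩ := hb2.2 ⟨b, hb⟩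
  exact ⟨e, congrArg Subtype.val he⟩

theorem exists_product {i j l : Fin fr.M} (hij : i ≠ j) (hjl : j ≠ l) (hil : i ≠ l)
    (e : fr.T' i j) (f : fr.T' j l) :
    ∃ g : fr.T' i l, fr.tau g.1 = fr.tau e.1 * fr.tau f.1 := by
  have hem : e.1.1 ∈ fr.T i j := e.2
  have hfm : f.1.1 ∈ fr.T j l := f.2
  obtain ⟨heE, heo, hefix⟩ := fr.mem_T.mp hem
  obtain ⟨hfE, hfo, hffix⟩ := fr.mem_T.mp hfm
  set c := e.1.1 * f.1.1 * e.1.1⁻¹ * f.1.1⁻¹ with hc
  have hcE : c ∈ d.El (fr.f i) := by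
    rw [hc, show e.1.1 * f.1.1 * e.1.1⁻¹ * f.1.1⁻¹ = e.1.1 * (f.1.1 * e.1.1⁻¹ * f.1.1⁻¹) by group]
    exact mul_mem heE (d.el_normal (hffix i hil) (inv_mem heE))
  have hco : c • fr.o = fr.o := by
    rw [hc, mul_smul, mul_smul, mul_smul, (inv_smul_eq_iff.mpr hfo.symm : f.1.1⁻¹ • fr.o = fr.o),
      (inv_smul_eq_iff.mpr heo.symm : e.1.1⁻¹ • fr.o = fr.o), hfo, heo]
  let cS : fr.S i := ⟨c, hcE, hco⟩
  have htau : fr.tau cS = fr.tau e.1 * fr.tau f.1 := by
    refine AddMonoidHom.ext fun v => ?_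
    have h1 : fr.psi e.1 (fr.psi f.1 v) = fr.psi cS (fr.psi f.1 (fr.psi e.1 v)) :=
      Additive.toMul.injective (Subtype.ext (by
        show e.1.1 * (f.1.1 * (Additive.toMul v).1 * f.1.1⁻¹) * e.1.1⁻¹ =
          c * (f.1.1 * (e.1.1 * (Additive.toMul v).1 * e.1.1⁻¹) * f.1.1⁻¹) * c⁻¹
        rw [hc]
        group))
    have e1 : ∀ {i : Fin fr.M} (g : fr.S i) (w : fr.W), fr.psi g w = w + fr.tau g w := fun g w => by
      rw [tau_apply]; abel
    rw [e1, e1 f.1 v, map_add, e1 cS, e1 f.1 (fr.psi e.1 v), e1 e.1 v] at h1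
    have h2 : fr.tau f.1 (fr.tau e.1 v) = 0 := fr.tau_kills f.1 f.2 hil (fr.tau_mem e.1 v)
    have h3 : fr.tau cS (fr.tau e.1 v) = 0 := by
      refine fr.tau_zero cS (fr.f_mem i) (d.el_stab _ c hcE) (fr.tau_mem e.1 v)
    have h4 : fr.tau cS (fr.tau f.1 v) = 0 := by
      refine fr.tau_zero cS (fr.f_mem j) ?_ (fr.tau_mem f.1 v)
      rw [show cS.1 = c from rfl, hc, mul_smul, mul_smul, mul_smul,
        (inv_smul_eq_iff.mpr (d.el_stab _ _ hfE).symm : f.1.1⁻¹ • fr.f j = fr.f j)]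
      have hmem : e.1.1⁻¹ • fr.f j ∈ d.line (fr.f i) (fr.f j) := d.smul_el_mem_line (inv_mem heE) _
      have hne : fr.f j ≠ fr.f i := fun h => hij (fr.frame_inj h).symm
      have hfline : f.1.1 • (e.1.1⁻¹ • fr.f j) = e.1.1⁻¹ • fr.f j := by
        by_cases hf1 : f.1.1 = 1
        · rw [hf1, one_smul]
        · exact d.fixed_line hfE hf1 hne.symm (hffix i hil) (d.el_stab _ _ hfE) hmem
      rw [hfline, smul_inv_smul]
    simp only [map_add, h2, h3, h4, add_zero] at h1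
    show fr.tau cS v = fr.tau e.1 (fr.tau f.1 v)
    symm
    rw [← sub_eq_zero] at h1 ⊢
    rw [← h1]
    abel
  refine ⟨⟨cS, fr.mem_T.mpr ⟨hcE, hco, fun m hm => ?_⟩⟩, htau⟩
  by_cases hc1 : c = 1
  · show c • _ = _
    rw [hc1, one_smul]
  obtain ⟨v, hv, hv0⟩ := d.exists_ne_zero fr.hH (fr.f_mem m)
  refine fr.fixes_of_kill cS hc1 (fr.f_mem m) hv hv0 ?_
  rw [htau]
  show fr.tau e.1 (fr.tau f.1 v) = 0
  rw [fr.tau_kills f.1 f.2 hm hv, map_zero]

end Frame

end CfsgLib.BlockElation
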