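import Mathlib

/-!
Square incidence matrices: with constant line sums and constant pair counts on one side, the other
side has the same pair counts, and corresponding permutations have equally many fixed points.
-/

set_option autoImplicit false
set_option linter.unusedSectionVars false

namespace CfsgLib.BlockElation

open Matrix

variable {α : Type*} [Fintype α] [DecidableEq α]

/-- The matrix with all entries `1`. -/
def ones : Matrix α α ℚ := Matrix.of fun _ _ => 1

theorem isUnit_smul_one_add (c l : ℚ) (hc : 0 < c) (hl : 0 ≤ l) :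
    IsUnit (c • (1 : Matrix α α ℚ) + l • ones) := by
  have hn : (0 : ℚ) ≤ Fintype.card α := Nat.cast_nonneg _
  have h0 : c + l * Fintype.card α ≠ 0 := by positivity
  have hJ : (ones : Matrix α α ℚ) * ones = (Fintype.card α : ℚ) • ones := by
    ext a b
    simp [ones, Matrix.mul_apply]
  have key : (c • (1 : Matrix α α ℚ) + l • ones) *
      (c⁻¹ • 1 + (-(l / (c * (c + l * Fintype.card α)))) • ones) = 1 := by
    simp only [mul_add, add_mul, smul_mul_assoc, mul_smul_comm, one_mul, mul_one, smul_smul, hJ]
    ext a b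
    simp only [Matrix.add_apply, Matrix.smul_apply, ones, Matrix.of_apply, smul_eq_mul]
    rw [Matrix.one_apply]
    split_ifs <;> (field_simp; ring)
  exact (Matrix.isUnit_iff_isUnit_det _).mpr
    (Matrix.isUnit_det_of_right_inverse key)

variable (A : Matrix α α ℚ) (k c l : ℚ)

theorem isUnit_of_transpose_mul (hc : 0 < c) (hl : 0 ≤ l) (h : Aᵀ * A = c • 1 + l • ones) :
    IsUnit A := by
  have h1 := (Matrix.isUnit_iff_isUnit_det _).mp (isUnit_smul_one_add (α := α) c l hc hl)
  rw [← h, Matrix.det_mul] at h1
  exact (Matrix.isUnit_iff_isUnit_det _).mpr (isUnit_of_mul_isUnit_right h1)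

theorem mul_transpose_eq (hc : 0 < c) (hl : 0 ≤ l) (h : Aᵀ * A = c • 1 + l • ones)
    (hrow : ∀ a, ∑ b, A a b = k) (hcol : ∀ b, ∑ a, A a b = k) :
    A * Aᵀ = c • 1 + l • ones := by
  refine (isUnit_of_transpose_mul A c l hc hl h).mul_right_cancel ?_
  have h1 : A * (ones : Matrix α α ℚ) = k • ones := by
    ext a b
    simp [ones, Matrix.mul_apply, hrow]
  have h2 : (ones : Matrix α α ℚ) * A = k • ones := by
    ext a b
    simp [ones, Matrix.mul_apply, hcol]
  rw [Matrix.mul_assoc, h, mul_add, add_mul, mul_smul_comm, mul_smul_comm, smul_mul_assoc,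
    smul_mul_assoc, mul_one, one_mul, h1, h2]

/-- The matrix of a permutation. -/
def permMat (σ : Equiv.Perm α) : Matrix α α ℚ := Matrix.of fun p q => if σ p = q then 1 else 0

theorem trace_permMat (σ : Equiv.Perm α) : (permMat σ).trace = {p | σ p = p}.ncard := by
  rw [Set.ncard_eq_toFinset_card', Matrix.trace]
  simp [permMat, Finset.sum_boole, Finset.filter_eq', Set.toFinset_ofFinset]

theorem card_fixed_eq (hA : IsUnit A) (σ τ : Equiv.Perm α) (h : ∀ p q, A (σ p) (τ q) = A p q) :
    {p | σ p = p}.ncard = {p | τ p = p}.ncard := by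
  have h1 : permMat σ * A = A * permMat τ := by
    ext p q
    simp only [permMat, Matrix.mul_apply, Matrix.of_apply, ite_mul, one_mul, zero_mul, mul_ite,
      mul_one, mul_zero]
    rw [Finset.sum_ite_eq, if_pos (Finset.mem_univ _), Finset.sum_eq_single (τ.symm q)
      (fun b _ hb => if_neg fun e => hb (by rw [← e, τ.symm_apply_apply]))
      (fun hb => absurd (Finset.mem_univ _) hb), if_pos (τ.apply_symm_apply q)]
    conv_lhs => rw [← τ.apply_symm_apply q, h]
  obtain ⟨u, rfl⟩ := hA
  have h2 : permMat σ = (u : Matrix α α ℚ) * permMat τ * (↑u⁻¹ : Matrix α α ℚ) := by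
    rw [← h1, Matrix.mul_assoc, Units.mul_inv, Matrix.mul_one]
  have h3 : (permMat σ).trace = (permMat τ).trace := by rw [h2, Matrix.trace_units_conj]
  rw [trace_permMat, trace_permMat] at h3
  exact_mod_cast h3

end CfsgLib.BlockElation
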