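import Mathlib

/-!
Additive subgroups of a finite ring containing `1`, closed under `(a, b) ↦ a * b * a` and with all
nonzero elements units: basic facts, and commutativity in odd characteristic.
-/

set_option autoImplicit false
set_option linter.unusedSectionVars false

namespace CfsgLib.BlockElation

/-- A set of the kind of a finite special Jordan division algebra. -/
structure IsJDiv (p : ℕ) {R : Type*} [Ring R] (S : AddSubgroup R) : Prop where
  prime : p.Prime
  char : (p : R) = 0
  nt : (0 : R) ≠ 1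
  one_mem : (1 : R) ∈ S
  isUnit : ∀ a ∈ S, a ≠ 0 → IsUnit a
  quad : ∀ a ∈ S, ∀ b ∈ S, a * b * a ∈ S

namespace IsJDiv

variable {p : ℕ} {R : Type*} [Ring R] [Finite R] {S : AddSubgroup R} (h : IsJDiv p S)
include h

theorem triple {a b c : R} (ha : a ∈ S) (hb : b ∈ S) (hc : c ∈ S) : a * b * c + c * b * a ∈ S := by
  have := S.sub_mem (S.sub_mem (h.quad (a + c) (S.add_mem ha hc) b hb) (h.quad a ha b hb))
    (h.quad c hc b hb)
  convert this using 1
  noncomm_ring

theorem sym {a b : R} (ha : a ∈ S) (hb : b ∈ S) : a * b + b * a ∈ S := by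
  simpa using h.triple ha hb h.one_mem

theorem pow_mem {a : R} (ha : a ∈ S) (n : ℕ) : a ^ n ∈ S := by
  induction n using Nat.twoStepInduction with
  | zero => simpa using h.one_mem
  | one => simpa using ha
  | more n ih _ =>
    have := h.quad a ha _ ih
    rwa [← pow_succ', ← pow_succ] at this

theorem mul_self_mem {a : R} (ha : a ∈ S) : a * a ∈ S := by
  simpa [sq] using h.pow_mem ha 2

theorem mul_eq_zero_iff {a : R} (ha : a ∈ S) {b : R} : a * b = 0 ↔ a = 0 ∨ b = 0 := by
  constructor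
  · intro hab
    by_cases ha0 : a = 0
    · exact Or.inl ha0
    · exact Or.inr ((h.isUnit a ha ha0).mul_right_eq_zero.mp hab)
  · rintro (rfl | rfl) <;> simp

theorem exists_inv {a : R} (ha : a ∈ S) (h0 : a ≠ 0) :
    ∃ b ∈ S, a * b = 1 ∧ b * a = 1 ∧ ∀ y : R, a * y = y * a → b * y = y * b := by
  obtain ⟨u, rfl⟩ := h.isUnit a ha h0
  obtain ⟨n, hn, hn'⟩ := (isOfFinOrder_of_finite u).exists_pow_eq_one
  obtain ⟨m, rfl⟩ : ∃ m, n = m + 1 := ⟨n - 1, by omega⟩
  refine ⟨(u : R) ^ m, h.pow_mem ha m, ?_, ?_, fun y hy => (Commute.pow_left hy m).eq⟩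
  · rw [← pow_succ', ← Units.val_pow_eq_pow_val, hn', Units.val_one]
  · rw [← pow_succ, ← Units.val_pow_eq_pow_val, hn', Units.val_one]

theorem natCast_mul_mem (n : ℕ) {a : R} (ha : a ∈ S) : (n : R) * a ∈ S := by
  rw [← nsmul_eq_mul]
  exact S.nsmul_mem ha n

theorem half_exists (hp : p ≠ 2) : ∃ m : ℕ, (m : R) + (m : R) = 1 := by
  obtain ⟨j, hj⟩ := h.prime.odd_of_ne_two hp
  refine ⟨j + 1, ?_⟩
  have : ((j + 1 : ℕ) : R) + ((j + 1 : ℕ) : R) = (p : R) + 1 := by
    rw [hj]; push_cast; noncomm_ring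
  rw [this, h.char, zero_add]

theorem mem_of_add_self (hp : p ≠ 2) {x : R} (hx : x + x ∈ S) : x ∈ S := by
  obtain ⟨m, hm⟩ := h.half_exists hp
  have := h.natCast_mul_mem m hx
  rwa [mul_add, ← add_mul, hm, one_mul] at this

theorem eq_zero_of_add_self (hp : p ≠ 2) {x : R} (hx : x + x = 0) : x = 0 := by
  obtain ⟨m, hm⟩ := h.half_exists hp
  calc x = ((m : R) + m) * x := by rw [hm, one_mul]
    _ = (m : R) * (x + x) := by rw [add_mul, mul_add]
    _ = 0 := by rw [hx, mul_zero]

theorem exists_sqrt (hp : p = 2) {a : R} (ha : a ∈ S) :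
    ∃ s ∈ S, s * s = a ∧ ∀ y : R, a * y = y * a → s * y = y * s := by
  by_cases h0 : a = 0
  · exact ⟨0, S.zero_mem, by simp [h0], by simp⟩
  obtain ⟨u, rfl⟩ := h.isUnit a ha h0
  obtain ⟨i, m, hm, hord⟩ := Nat.exists_eq_two_pow_mul_odd (orderOf_pos u).ne'
  have hz : (u : R) ^ m = 1 := by
    have hpm : ((u : R) ^ m) ^ (2 ^ i) = 1 := by
      rw [← pow_mul, mul_comm, ← hord]
      rw [← Units.val_pow_eq_pow_val, pow_orderOf_eq_one, Units.val_one]
    haveI : Nontrivial R := ⟨⟨0, 1, h.nt⟩⟩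
    haveI : ExpChar R 2 := by
      haveI : CharP R 2 := CharTwo.of_one_ne_zero_of_two_eq_zero h.nt.symm
        (by have e := h.char; rw [hp] at e; simpa using e)
      exact ExpChar.prime Nat.prime_two
    have hsub : ((u : R) ^ m - 1) ^ (2 ^ i) = 0 := by
      rw [sub_pow_expChar_pow_of_commute 2 i (Commute.one_right _), hpm, one_pow, sub_self]
    by_contra hne
    exact ((h.isUnit _ (S.sub_mem (h.pow_mem ha m) h.one_mem) (sub_ne_zero.mpr hne)).pow (2 ^ i)).ne_zero
      hsub
  obtain ⟨j, rfl⟩ := hm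
  refine ⟨(u : R) ^ (j + 1), h.pow_mem ha _, ?_, fun y hy => (Commute.pow_left hy _).eq⟩
  rw [← pow_add, show j + 1 + (j + 1) = (2 * j + 1) + 1 by ring, pow_succ, hz, one_mul]

theorem mul_mem {a b : R} (ha : a ∈ S) (hb : b ∈ S) (hab : a * b = b * a) : a * b ∈ S := by
  by_cases hp : p = 2
  · obtain ⟨s, hs, hss, hcomm⟩ := h.exists_sqrt hp ha
    have hsb : s * b = b * s := hcomm b hab
    have : s * b * s = a * b := by
      rw [mul_assoc, ← hsb, ← mul_assoc, hss]
    exact this ▸ h.quad s hs b hb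
  · refine h.mem_of_add_self hp ?_
    have := h.sym ha hb
    rwa [← hab] at this

/-- The double centraliser in `S` of a set of commuting elements of `S`. -/
def ring (T : Set R) : Subring R where
  carrier := {x | x ∈ S ∧ (∀ y : R, (∀ s ∈ T, y * s = s * y) → x * y = y * x) ∧
    ∀ x' ∈ S, (∀ y : R, (∀ s ∈ T, y * s = s * y) → x' * y = y * x') → x * x' = x' * x}
  mul_mem' := fun {a b} ha hb =>
    ⟨h.mul_mem ha.1 hb.1 (ha.2.2 b hb.1 hb.2.1),
      fun y hy => (Commute.mul_left (ha.2.1 y hy) (hb.2.1 y hy)).eq,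
      fun x' hx' hx'' => (Commute.mul_left (ha.2.2 x' hx' hx'') (hb.2.2 x' hx' hx'')).eq⟩
  one_mem' := ⟨h.one_mem, fun y _ => by simp, fun x' _ _ => by simp⟩
  add_mem' := fun {a b} ha hb =>
    ⟨S.add_mem ha.1 hb.1, fun y hy => by rw [add_mul, mul_add, ha.2.1 y hy, hb.2.1 y hy],
      fun x' hx' hx'' => by rw [add_mul, mul_add, ha.2.2 x' hx' hx'', hb.2.2 x' hx' hx'']⟩
  zero_mem' := ⟨S.zero_mem, fun y _ => by simp, fun x' _ _ => by simp⟩
  neg_mem' := fun {a} ha => ⟨S.neg_mem ha.1, fun y hy => by rw [neg_mul, mul_neg, ha.2.1 y hy],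
    fun x' hx' hx'' => by rw [neg_mul, mul_neg, ha.2.2 x' hx' hx'']⟩

theorem ring_le {T : Set R} {x : R} (hx : x ∈ h.ring T) : x ∈ S := hx.1

theorem ring_commute {T : Set R} {x y : R} (hx : x ∈ h.ring T) (hy : ∀ s ∈ T, y * s = s * y) :
    x * y = y * x := hx.2.1 y hy

theorem subset_ring {T : Set R} (hT : ∀ s ∈ T, s ∈ S) (hcomm : ∀ s ∈ T, ∀ s' ∈ T, s * s' = s' * s)
    {x : R} (hx : x ∈ T) : x ∈ h.ring T :=
  ⟨hT x hx, fun y hy => (hy x hx).symm, fun x' _ hx'' => (hx'' x fun s hs => hcomm x hx s hs).symm⟩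

theorem ring_comm {T : Set R} {x y : R} (hx : x ∈ h.ring T) (hy : y ∈ h.ring T) : x * y = y * x :=
  hx.2.2 y hy.1 hy.2.1

theorem ring_isDomain (T : Set R) : IsDomain (h.ring T) := by
  haveI : Nontrivial (h.ring T) := ⟨⟨0, 1, fun e => h.nt (congrArg Subtype.val e)⟩⟩
  haveI : NoZeroDivisors (h.ring T) := ⟨fun {a b} hab => by
    rcases (h.mul_eq_zero_iff (h.ring_le a.2)).mp (congrArg Subtype.val hab) with e | e
    · exact Or.inl (Subtype.ext e)
    · exact Or.inr (Subtype.ext e)⟩
  exact NoZeroDivisors.to_isDomain _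

/-- The ring of a set of commuting elements is a field. -/
@[reducible] noncomputable def field (T : Set R) : Field (h.ring T) :=
  haveI := h.ring_isDomain T
  letI : CommRing (h.ring T) :=
    { (inferInstance : Ring (h.ring T)) with
      mul_comm := fun a b => Subtype.ext (h.ring_comm a.2 b.2) }
  (Finite.isDomain_to_isField (h.ring T)).toField

theorem ringChar_ring (T : Set R) : ringChar (h.ring T) = p := by
  haveI := h.ring_isDomain T
  have hpz : ((p : ℕ) : h.ring T) = 0 := Subtype.ext (by push_cast; exact h.char)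
  haveI := ringChar.charP (h.ring T)
  rcases (Nat.dvd_prime h.prime).mp ((CharP.cast_eq_zero_iff _ (ringChar (h.ring T)) p).mp hpz)
    with e | e
  · exact absurd e (CharP.ringChar_ne_one)
  · exact e

section odd

variable (hp : p ≠ 2)
include hp

theorem two_nonsquares (T : Set R) {a b : R} (ha : a ∈ h.ring T) (hb : b ∈ h.ring T)
    (ha' : ¬ ∃ f ∈ h.ring T, f * f = a) (hb' : ¬ ∃ f ∈ h.ring T, f * f = b) :
    ∃ f ∈ h.ring T, f * f = a * b := by
  classical
  letI := h.field T
  haveI := Fintype.ofFinite (h.ring T)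
  have hchar : ringChar (h.ring T) ≠ 2 := by rw [h.ringChar_ring T]; exact hp
  have h0 : ∀ (x : R) (hx : x ∈ h.ring T), (¬ ∃ f ∈ h.ring T, f * f = x) →
      (⟨x, hx⟩ : h.ring T) ≠ 0 ∧ ¬ IsSquare (⟨x, hx⟩ : h.ring T) := by
    intro x hx hn
    refine ⟨fun e => hn ⟨0, Subring.zero_mem _, ?_⟩, fun ⟨f, hf⟩ => hn ⟨f.1, f.2, ?_⟩⟩
    · rw [mul_zero]; exact (congrArg Subtype.val e).symm
    · exact (congrArg Subtype.val hf).symm
  obtain ⟨ha0, haq⟩ := h0 a ha ha'
  obtain ⟨hb0, hbq⟩ := h0 b hb hb'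
  rw [FiniteField.isSquare_iff hchar ha0] at haq
  rw [FiniteField.isSquare_iff hchar hb0] at hbq
  have hab : IsSquare ((⟨a, ha⟩ : h.ring T) * ⟨b, hb⟩) := by
    rw [FiniteField.isSquare_iff hchar (mul_ne_zero ha0 hb0), mul_pow,
      (FiniteField.pow_dichotomy hchar ha0).resolve_left haq,
      (FiniteField.pow_dichotomy hchar hb0).resolve_left hbq]
    simp
  obtain ⟨f, hf⟩ := hab
  exact ⟨f.1, f.2, (congrArg Subtype.val hf).symm⟩

/-- A noncentral element of `S` has noncentral square. -/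
theorem central_of_square_central {i : R} (hi : i ∈ S) (hc : ∀ y ∈ S, i * i * y = y * (i * i)) :
    ∀ y ∈ S, i * y = y * i := by
  classical
  intro z hz
  by_contra hne
  have hi0 : i ≠ 0 := by rintro rfl; simp at hne
  set n := i * i with hn
  have hnS : n ∈ S := h.mul_self_mem hi
  have hn0 : n ≠ 0 := fun e => hi0 (by
    rcases (h.mul_eq_zero_iff hi).mp e with e | e <;> exact e)
  set z' := i * z * i - n * z with hz'
  have hz'S : z' ∈ S := S.sub_mem (h.quad i hi z hz) (h.mul_mem hnS hz (hc z hz))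
  have hni : n * i = i * n := by rw [hn, mul_assoc]
  have hanti : i * z' = -(z' * i) := by
    rw [hz', mul_sub, sub_mul, neg_sub]
    have e1 : i * (i * z * i) = n * z * i := by rw [hn]; noncomm_ring
    have e2 : i * z * i * i = i * (n * z) := by
      rw [mul_assoc (i * z), ← hn, mul_assoc, hc z hz]
    rw [e1, e2]
  have hz'0 : z' ≠ 0 := by
    intro e
    apply hne
    have e1 : i * z * i = n * z := sub_eq_zero.mp e
    have e2 : n * (i * z - z * i) = 0 := by
      have e3 : n * z * i = n * (i * z) := by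
        calc n * z * i = i * z * i * i := by rw [e1]
          _ = i * z * n := by rw [hn, mul_assoc (i * z)]
          _ = i * (n * z) := by rw [mul_assoc, hc z hz]
          _ = n * (i * z) := by rw [← mul_assoc, ← hni, mul_assoc]
      rw [mul_sub, ← mul_assoc n z i, e3, sub_self]
    rcases (h.mul_eq_zero_iff hnS).mp e2 with e3 | e3
    · exact absurd e3 hn0
    · exact sub_eq_zero.mp e3
  set w := z' * z' with hw
  have hwi : w * i = i * w := by
    rw [hw, mul_assoc, show z' * i = -(i * z') by rw [hanti, neg_neg], mul_neg, ← mul_assoc,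
      show z' * i = -(i * z') by rw [hanti, neg_neg], neg_mul, neg_neg, mul_assoc]
  set T : Set R := {w, n} with hT
  have hTS : ∀ s ∈ T, s ∈ S := by
    rintro s (rfl | rfl)
    · exact h.mul_self_mem hz'S
    · exact hnS
  have hwn : w * n = n * w := (hc w (h.mul_self_mem hz'S)).symm
  have hTc : ∀ s ∈ T, ∀ s' ∈ T, s * s' = s' * s := by
    rintro s (rfl | rfl) s' (rfl | rfl) <;> first | rfl | exact hwn | exact hwn.symm
  have hiT : ∀ s ∈ T, i * s = s * i := by
    rintro s (rfl | rfl)
    · exact hwi.symm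
    · exact hni.symm
  have hzT : ∀ s ∈ T, z' * s = s * z' := by
    rintro s (rfl | rfl)
    · rw [hw, mul_assoc]
    · exact (hc z' hz'S).symm
  letI := h.field T
  haveI := Fintype.ofFinite (h.ring T)
  have hchar : ringChar (h.ring T) ≠ 2 := by rw [h.ringChar_ring T]; exact hp
  set wf : h.ring T := ⟨w, h.subset_ring hTS hTc (Or.inl rfl)⟩ with hwf
  set nf : h.ring T := ⟨n, h.subset_ring hTS hTc (Or.inr rfl)⟩ with hnf
  have hnf0 : -nf ≠ 0 := neg_ne_zero.mpr fun e => hn0 (congrArg Subtype.val e)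
  obtain ⟨a, b, hab⟩ := FiniteField.exists_root_sum_quadratic
    (f := Polynomial.X ^ 2 - Polynomial.C wf) (g := Polynomial.C (-nf) * Polynomial.X ^ 2)
    (Polynomial.degree_X_pow_sub_C (by decide) _) (Polynomial.degree_C_mul_X_pow 2 hnf0)
    (FiniteField.odd_card_of_char_ne_two hchar)
  simp only [Polynomial.eval_sub, Polynomial.eval_pow, Polynomial.eval_X, Polynomial.eval_C,
    Polynomial.eval_mul] at hab
  have habR : (a : R) * a - w - n * ((b : R) * b) = 0 := by
    have := congrArg Subtype.val hab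
    push_cast [hwf, hnf] at this
    rw [sq, sq, neg_mul, ← sub_eq_add_neg] at this
    exact this
  have hai := h.ring_commute a.2 hiT
  have hbi := h.ring_commute b.2 hiT
  have haz := h.ring_commute a.2 hzT
  have hbz := h.ring_commute b.2 hzT
  have hab' : (a : R) * b = b * a := h.ring_comm a.2 b.2
  have hbiS : (b : R) * i ∈ S := h.mul_mem (h.ring_le b.2) hi hbi
  have hprod : (z' + ((a : R) + b * i)) * (z' - ((a : R) - b * i)) = 0 := by
    have e1 : (b : R) * i * a = a * (b * i) := by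
      rw [mul_assoc, ← hai, ← mul_assoc, ← hab', mul_assoc]
    have e2 : z' * ((b : R) * i) + b * i * z' = 0 := by
      rw [← mul_assoc, ← hbz, mul_assoc, mul_assoc, hanti, mul_neg, add_neg_cancel]
    have e3 : (b : R) * i * (b * i) = n * (b * b) := by
      have hbn : n * (b : R) = b * n := hc b (h.ring_le b.2)
      rw [mul_assoc (b : R) i, ← mul_assoc i, ← hbi, mul_assoc (b : R) i i, ← hn, ← hbn,
        ← mul_assoc, ← hbn, mul_assoc]
    have e4 : (z' + ((a : R) + b * i)) * (z' - ((a : R) - b * i)) =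
        (w - ((a : R) * a - b * i * (b * i))) + ((a : R) * z' - z' * a) +
          (z' * (b * i) + b * i * z') + ((a : R) * (b * i) - b * i * a) := by
      rw [hw]; noncomm_ring
    rw [e4, haz, sub_self, add_zero, e2, add_zero, e1, sub_self, add_zero, e3]
    rw [show w - ((a : R) * a - n * (b * b)) = -((a : R) * a - w - n * (b * b)) by abel, habR, neg_zero]
  have hcontra : i * z' = z' * i := by
    rcases (h.mul_eq_zero_iff (S.add_mem hz'S (S.add_mem (h.ring_le a.2) hbiS))).mp hprod with e | e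
    · rw [eq_neg_of_add_eq_zero_left e, mul_neg, neg_mul, mul_add, add_mul, hai, ← mul_assoc i, ← hbi]
    · rw [sub_eq_zero.mp e, mul_sub, sub_mul, hai, ← mul_assoc i, ← hbi]
  have : i * z' + i * z' = 0 := by
    nth_rw 1 [hanti]
    rw [hcontra, neg_add_cancel]
  rcases (h.mul_eq_zero_iff hi).mp (h.eq_zero_of_add_self hp this) with e | e
  · exact hi0 e
  · exact hz'0 e

theorem commutator_sq_mem {a b : R} (ha : a ∈ S) (hb : b ∈ S) :
    (a * b - b * a) * (a * b - b * a) ∈ S := by
  have := S.sub_mem (S.sub_mem (h.sym ha (h.quad b hb a ha)) (h.quad a ha _ (h.mul_self_mem hb)))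
    (h.quad b hb _ (h.mul_self_mem ha))
  convert this using 1
  noncomm_ring

theorem commutator_conj_mem {a b z : R} (ha : a ∈ S) (hb : b ∈ S) (hz : z ∈ S) :
    (a * b - b * a) * z * (a * b - b * a) ∈ S := by
  have hM := h.triple hb hz ha
  have hA : a * (b * z * a + a * z * b) * b + b * (b * z * a + a * z * b) * a -
      (a * a * z * (b * b) + b * b * z * (a * a)) ∈ S :=
    S.sub_mem (h.triple ha hM hb) (h.triple (h.mul_self_mem ha) hz (h.mul_self_mem hb))
  have := S.sub_mem (S.sub_mem hA (h.quad a ha _ (h.quad b hb z hz))) (h.quad b hb _ (h.quad a ha z hz))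
  convert this using 1
  noncomm_ring

theorem commutator_derivation_mem {a b z : R} (ha : a ∈ S) (hb : b ∈ S) (hz : z ∈ S) :
    (a * b - b * a) * z - z * (a * b - b * a) ∈ S := by
  have := S.sub_mem (h.triple ha hb hz) (h.triple hb ha hz)
  convert this using 1
  noncomm_ring

theorem commutator_eq_zero {a b : R} (ha : a ∈ S) (hb : b ∈ S)
    (hsq : (a * b - b * a) * (a * b - b * a) = 0) : a * b - b * a = 0 := by
  haveI : Nontrivial R := ⟨⟨0, 1, h.nt⟩⟩
  set c := a * b - b * a with hc
  by_contra hc0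
  have hnu : ¬ IsUnit c := fun hu => hc0 (hu.mul_right_eq_zero.mp hsq)
  have hczc : ∀ z ∈ S, c * z * c = 0 := by
    intro z hz
    by_contra hne
    obtain ⟨u, hu⟩ := h.isUnit _ (h.commutator_conj_mem hp ha hb hz) hne
    exact hnu (IsUnit.of_mul_eq_one (z * c * ↑u⁻¹) (by rw [← mul_assoc, ← mul_assoc, ← hu]; simp))
  have hcz : ∀ z ∈ S, c * z = z * c := by
    intro z hz
    have hm := h.commutator_derivation_mem hp ha hb hz
    rw [← hc] at hm
    have hsq' : (c * z - z * c) * (c * z - z * c) = 0 := by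
      calc (c * z - z * c) * (c * z - z * c) = (c * z * c) * z - c * (z * z) * c - z * (c * c) * z
            + z * (c * z * c) := by noncomm_ring
        _ = 0 := by rw [hczc z hz, hczc _ (h.mul_self_mem hz), hsq]; simp
    rcases (h.mul_eq_zero_iff hm).mp hsq' with e | e <;> exact sub_eq_zero.mp e
  have hpow : ∀ n : ℕ, a ^ (n + 1) * b = b * a ^ (n + 1) + ((n + 1 : ℕ) : R) * (a ^ n * c) := by
    intro n
    induction n with
    | zero => simp [hc]
    | succ n ih =>
      have e1 : a * b = b * a + c := by rw [hc]; abel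
      calc a ^ (n + 1 + 1) * b = a * (a ^ (n + 1) * b) := by rw [pow_succ' a (n + 1), mul_assoc]
        _ = a * b * a ^ (n + 1) + a * (((n + 1 : ℕ) : R) * (a ^ n * c)) := by
            rw [ih, mul_add, mul_assoc]
        _ = b * a ^ (n + 1 + 1) + c * a ^ (n + 1) + ((n + 1 : ℕ) : R) * (a * (a ^ n * c)) := by
            rw [e1, add_mul, mul_assoc b, ← pow_succ', ← mul_assoc a, ← Nat.cast_comm, mul_assoc]
        _ = _ := by
            rw [hcz _ (h.pow_mem ha _), ← mul_assoc a, ← pow_succ', Nat.cast_add (n + 1) 1,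
              Nat.cast_one, add_mul, one_mul]
            abel
  set T : Set R := {a}
  have haT : a ∈ h.ring T := h.subset_ring (fun s hs => by rw [Set.mem_singleton_iff.mp hs]; exact ha)
    (fun s hs s' hs' => by rw [Set.mem_singleton_iff.mp hs, Set.mem_singleton_iff.mp hs']) rfl
  letI := h.field T
  haveI := Fintype.ofFinite (h.ring T)
  set q := Fintype.card (h.ring T) with hq
  obtain ⟨n, hn⟩ : ∃ n, q = n + 1 := ⟨q - 1, by have := Fintype.card_pos (α := h.ring T); omega⟩
  have hqa : a ^ q = a := by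
    have := congrArg Subtype.val (FiniteField.pow_card (⟨a, haT⟩ : h.ring T))
    simpa using this
  have hq0 : (q : R) = 0 := by
    have := congrArg (h.ring T).subtype (FiniteField.cast_card_eq_zero (h.ring T))
    rw [← hq, map_natCast, map_zero] at this
    exact this
  have := hpow n
  rw [← hn, hqa, hq0, zero_mul, add_zero] at this
  exact hc0 (sub_eq_zero.mpr this)

end odd

end IsJDiv

end CfsgLib.BlockElation
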