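import Cfsg.Agent.Lib.BlockElation.Jordan

/-!
In odd characteristic the elements of such a set commute.
-/

set_option autoImplicit false
set_option linter.unusedSectionVars false

namespace CfsgLib.BlockElation.IsJDiv

universe u

variable {p : ℕ} {R : Type u} [Ring R] [Finite R] {S : AddSubgroup R} (h : IsJDiv p S)

/-- The elements of `S` commuting with all of `S`. -/
def cen (S : AddSubgroup R) : Set R := {z | z ∈ S ∧ ∀ y ∈ S, z * y = y * z}

include h

theorem one_mem_cen : (1 : R) ∈ cen S := ⟨h.one_mem, fun y _ => by simp⟩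

theorem cen_comm : ∀ s ∈ cen S, ∀ s' ∈ cen S, s * s' = s' * s := fun _ hs s' hs' => hs.2 s' hs'.1

theorem mem_ring_cen {x : R} (hx : x ∈ cen S) : x ∈ h.ring (cen S) :=
  h.subset_ring (fun _ hs => hs.1) h.cen_comm hx

theorem ring_cen_central {x : R} (hx : x ∈ h.ring (cen S)) : x ∈ cen S :=
  ⟨h.ring_le hx, fun y hy => h.ring_commute hx fun s hs => (hs.2 y hy).symm⟩

section odd

variable (hp : p ≠ 2)
include hp

/-- A central nonsquare of the centre stays a nonsquare in every field inside `S`. -/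
theorem exists_nonsquare : ∃ n ∈ cen S, n ≠ 0 ∧ ∀ f ∈ S, f * f ≠ n := by
  classical
  letI := h.field (cen S)
  haveI := Fintype.ofFinite (h.ring (cen S))
  obtain ⟨n, hn⟩ := FiniteField.exists_nonsquare (F := h.ring (cen S))
    (by rw [h.ringChar_ring]; exact hp)
  refine ⟨n.1, h.ring_cen_central n.2, fun e => hn ⟨0, Subtype.ext (by simpa using e)⟩, fun f hf e => hn ?_⟩
  have hfc : ∀ y ∈ S, f * y = y * f :=
    h.central_of_square_central hp hf fun y hy => by
      rw [e]
      exact (h.ring_cen_central n.2).2 y hy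
  exact ⟨⟨f, h.mem_ring_cen ⟨hf, hfc⟩⟩, Subtype.ext e.symm⟩

theorem cen_inv {x : R} (hx : x ∈ cen S) (h0 : x ≠ 0) : ∃ y ∈ cen S, x * y = 1 ∧ y * x = 1 := by
  obtain ⟨y, hy, e1, e2, hcomm⟩ := h.exists_inv hx.1 h0
  exact ⟨y, ⟨hy, fun z hz => hcomm z (hx.2 z hz)⟩, e1, e2⟩

theorem cen_central (hgen : Subring.closure (S : Set R) = ⊤) {z : R} (hz : ∀ y ∈ S, z * y = y * z) (r : R) :
    z * r = r * z := by
  have : r ∈ Subring.centralizer ({z} : Set R) := by
    have hle : Subring.closure (S : Set R) ≤ Subring.centralizer ({z} : Set R) :=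
      Subring.closure_le.mpr fun y hy => Subring.mem_centralizer_iff.mpr fun w hw => by
        rw [Set.mem_singleton_iff.mp hw]; exact hz y hy
    exact hle (hgen ▸ Subring.mem_top r)
  exact Subring.mem_centralizer_iff.mp this z rfl

theorem commutator_shape (hgen : Subring.closure (S : Set R) = ⊤)
    (hsign : ∀ z : R, (∀ r, z * r = r * z) → z * z = 1 → z = 1 ∨ z = -1)
    {n : R} (hn : n ∈ cen S) (hn0 : n ≠ 0) (hns : ∀ f ∈ S, f * f ≠ n) {a b : R} (ha : a ∈ S) (hb : b ∈ S) :
    a * b - b * a ∈ S ∨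
      ∃ k : R, (∀ r, k * r = r * k) ∧ k * k = n ∧ ∃ s ∈ S, a * b - b * a = k * s := by
  set c := a * b - b * a with hc
  by_cases hu0 : c * c = 0
  · left
    rw [h.commutator_eq_zero hp ha hb hu0 |> (fun e => (hc.trans e : c = 0))]
    exact S.zero_mem
  have huS : c * c ∈ S := h.commutator_sq_mem hp ha hb
  set T : Set R := insert (c * c) (cen S) with hT
  have hTS : ∀ s ∈ T, s ∈ S := by
    rintro s (rfl | hs)
    · exact huS
    · exact hs.1
  have hTc : ∀ s ∈ T, ∀ s' ∈ T, s * s' = s' * s := by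
    rintro s (rfl | hs) s' (rfl | hs')
    · rfl
    · exact (hs'.2 _ huS).symm
    · exact hs.2 _ huS
    · exact hs.2 s' hs'.1
  have hcT : ∀ s ∈ T, c * s = s * c := by
    rintro s (rfl | hs)
    · rw [mul_assoc]
    · rw [hc, sub_mul, mul_sub, mul_assoc, ← hs.2 b hb, ← mul_assoc a, ← hs.2 a ha, mul_assoc b,
        ← hs.2 a ha, ← mul_assoc b, ← hs.2 b hb, mul_assoc s, mul_assoc s]
  obtain ⟨v, hv, hvu, huv, hvcomm⟩ := h.exists_inv huS hu0
  have hvmem : v ∈ h.ring T := by
    refine ⟨hv, fun y hy => hvcomm y ((hy _ (Or.inl rfl)).symm), fun x' hx' hx'' => ?_⟩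
    exact hvcomm x' ((hx'' _ fun s hs => hTc _ (Or.inl rfl) s hs).symm)
  obtain ⟨r, hr, m, hm, hm0, hmcase, hrm⟩ : ∃ r ∈ h.ring T, ∃ m ∈ cen S, m ≠ 0 ∧ (m = 1 ∨ m = n) ∧
      r * r = m * v := by
    by_cases hvs : ∃ f ∈ h.ring T, f * f = v
    · obtain ⟨f, hf, e⟩ := hvs
      exact ⟨f, hf, 1, h.one_mem_cen, h.nt.symm, Or.inl rfl, by rw [e, one_mul]⟩
    · obtain ⟨f, hf, e⟩ := h.two_nonsquares hp T (h.subset_ring hTS hTc (Or.inr hn)) hvmem
        (fun ⟨f, hf, e⟩ => hns f (h.ring_le hf) e) hvs
      exact ⟨f, hf, n, hn, hn0, Or.inr rfl, e⟩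
  have hrS := h.ring_le hr
  have hrc : r * c = c * r := h.ring_commute hr hcT
  obtain ⟨k, hk⟩ : ∃ k, k = r * c := ⟨_, rfl⟩
  have hkk : k * k = m := by
    calc k * k = r * (c * r) * c := by rw [hk]; noncomm_ring
      _ = r * r * (c * c) := by rw [← hrc]; noncomm_ring
      _ = m := by rw [hrm, mul_assoc, huv, mul_one]
  obtain ⟨mi, hmi, hmmi, hmim⟩ := h.cen_inv hp hm hm0
  have hmc : ∀ x : R, m * x = x * m := h.cen_central hp hgen hm.2
  have hkcomm : ∀ z ∈ S, k * z = z * k := by
    intro z hz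
    by_contra hne
    have hkzk : k * z * k ∈ S := by
      have e : k * z * k = r * (c * z * c) * r := by
        calc k * z * k = r * c * z * (r * c) := by rw [hk]
          _ = r * c * z * (c * r) := by rw [hrc]
          _ = _ := by noncomm_ring
      rw [e]
      exact h.quad r hrS _ (h.commutator_conj_mem hp ha hb hz)
    set th := mi * (k * z * k) with hth
    have hthS : th ∈ S := h.mul_mem hmi.1 hkzk (hmi.2 _ hkzk)
    set ρ := z - th with hρ
    have hρS : ρ ∈ S := S.sub_mem hz hthS
    have hρ0 : ρ ≠ 0 := by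
      intro e
      apply hne
      have e1 : z = th := sub_eq_zero.mp e
      have e2 : m * z = k * z * k := (congrArg (m * ·) e1).trans (by simp only [hth]; rw [← mul_assoc, hmmi, one_mul])
      have e3 : m * (k * z - z * k) = 0 := by
        have e4 : m * z * k = m * (k * z) := by
          calc m * z * k = k * z * k * k := by rw [e2]
            _ = k * z * m := by rw [mul_assoc (k * z), hkk]
            _ = m * (k * z) := (hmc (k * z)).symm
        rw [mul_sub, sub_eq_zero, ← mul_assoc m z k, e4]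
      rcases (h.mul_eq_zero_iff hm.1).mp e3 with e4 | e4
      · exact absurd e4 hm0
      · exact sub_eq_zero.mp e4
    have hkρk : k * ρ * k = -(m * ρ) := by
      have e1 : k * th * k = z * m := by
        calc k * th * k = k * mi * (k * z * k) * k := by rw [hth]; noncomm_ring
          _ = mi * k * (k * z * k) * k := by rw [← h.cen_central hp hgen hmi.2 k]
          _ = mi * (k * k) * z * (k * k) := by noncomm_ring
          _ = z * m := by rw [hkk, hmim, one_mul]
      have e2 : m * th = k * z * k := by rw [hth, ← mul_assoc, hmmi, one_mul]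
      rw [hρ, mul_sub, sub_mul, e1, mul_sub, e2, ← hmc z, neg_sub]
    have hanti : k * ρ + ρ * k = 0 := by
      have e : m * (k * ρ + ρ * k) = 0 := by
        rw [mul_add, ← mul_assoc m ρ k, show m * ρ * k = -(k * ρ * k) * k by rw [hkρk, neg_neg],
          neg_mul, mul_assoc (k * ρ), hkk, ← hmc (k * ρ), add_neg_cancel]
      rcases (h.mul_eq_zero_iff hm.1).mp e with e1 | e1
      · exact absurd e1 hm0
      · exact e1
    set W : Set R := insert (ρ * ρ) (cen S) with hW
    have hWS : ∀ s ∈ W, s ∈ S := by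
      rintro s (rfl | hs)
      · exact h.mul_self_mem hρS
      · exact hs.1
    have hWc : ∀ s ∈ W, ∀ s' ∈ W, s * s' = s' * s := by
      rintro s (rfl | hs) s' (rfl | hs')
      · rfl
      · exact (hs'.2 _ (h.mul_self_mem hρS)).symm
      · exact hs.2 _ (h.mul_self_mem hρS)
      · exact hs.2 s' hs'.1
    have hkW : ∀ s ∈ W, k * s = s * k := by
      rintro s (rfl | hs)
      · have e1 : k * ρ = -(ρ * k) := eq_neg_of_add_eq_zero_left hanti
        rw [← mul_assoc, e1, neg_mul, mul_assoc, e1, mul_neg, neg_neg, mul_assoc]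
      · exact (h.cen_central hp hgen hs.2 k).symm
    have hρW : ∀ s ∈ W, ρ * s = s * ρ := by
      rintro s (rfl | hs)
      · rw [mul_assoc]
      · exact (hs.2 ρ hρS).symm
    have hwn : ¬ ∃ f ∈ h.ring W, f * f = ρ * ρ := by
      rintro ⟨f, hf, e⟩
      have hfρ := h.ring_commute hf hρW
      have e1 : (ρ - f) * (ρ + f) = 0 := by
        rw [show (ρ - f) * (ρ + f) = ρ * ρ - f * f + (ρ * f - f * ρ) by noncomm_ring, hfρ, e, sub_self,
          sub_self, add_zero]
      have hkρ : k * ρ = ρ * k := by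
        rcases (h.mul_eq_zero_iff (S.sub_mem hρS (h.ring_le hf))).mp e1 with e2 | e2
        · rw [sub_eq_zero.mp e2, h.ring_commute hf hkW]
        · rw [eq_neg_of_add_eq_zero_left e2, mul_neg, neg_mul, h.ring_commute hf hkW]
      rw [hkρ] at hanti
      have e3 := h.eq_zero_of_add_self hp hanti
      have e4 : ρ * m = 0 := by rw [← hkk, ← mul_assoc, e3, zero_mul]
      rcases (h.mul_eq_zero_iff hρS).mp e4 with e5 | e5
      · exact hρ0 e5
      · exact hm0 e5
    obtain ⟨f, hf, e⟩ := h.two_nonsquares hp W (h.subset_ring hWS hWc (Or.inr hn))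
      (h.subset_ring hWS hWc (Or.inl rfl)) (fun ⟨f, hf, e⟩ => hns f (h.ring_le hf) e) hwn
    obtain ⟨ρi, hρi, hρρi, hρiρ, hρcomm⟩ := h.exists_inv hρS hρ0
    have hfρi : ρi * f = f * ρi := hρcomm f (h.ring_commute hf hρW).symm
    refine hns (f * ρi) (h.mul_mem (h.ring_le hf) hρi hfρi.symm) ?_
    calc f * ρi * (f * ρi) = f * f * (ρi * ρi) := by
          rw [mul_assoc f, ← mul_assoc ρi f, hfρi]; noncomm_ring
      _ = n := by
          rw [e, mul_assoc, mul_assoc ρ, ← mul_assoc ρ ρi, hρρi, one_mul, hρρi, mul_one]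
  have hkc : ∀ x : R, k * x = x * k := h.cen_central hp hgen hkcomm
  have hr0 : r ≠ 0 := by
    intro e
    rw [hk, e, zero_mul, zero_mul] at hkk
    exact hm0 hkk.symm
  obtain ⟨ri, hri, -, hrir, -⟩ := h.exists_inv hrS hr0
  have hck : c = ri * k := by rw [hk, ← mul_assoc, hrir, one_mul]
  rcases hmcase with rfl | rfl
  · left
    rcases hsign k hkc hkk with e | e
    · rw [hck, e, mul_one]; exact hri
    · rw [hck, e, mul_neg, mul_one]; exact S.neg_mem hri
  · exact Or.inr ⟨k, hkc, hkk, ri, hri, by rw [hck, hkc]⟩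

theorem eq_zero_of_square_one_ne (IH : ∀ (R' : Type u) [Ring R'] [Finite R'] (S' : AddSubgroup R'),
      Nat.card R' < Nat.card R → IsJDiv p S' → ∀ a ∈ S', ∀ b ∈ S', a * b = b * a)
    {z : R} (hz : ∀ r, z * r = r * z) (hzz : z * z = 1) (h1 : z ≠ 1) (h2 : z ≠ -1)
    {a b : R} (ha : a ∈ S) (hb : b ∈ S) : (1 + z) * (a * b - b * a) = 0 := by
  obtain ⟨m, hm⟩ := h.half_exists hp
  set e : R := (m : R) * (1 + z) with he
  have hm' : ∀ r : R, (m : R) * r = r * m := fun r => Nat.cast_comm m r
  have hec : ∀ r : R, e * r = r * e := fun r => by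
    rw [he, mul_assoc, add_mul, one_mul, hz, ← mul_assoc r, ← hm' r, mul_assoc (m : R) r, mul_add r,
      mul_one]
  have hee : e * e = e := by
    have : (1 + z) * (1 + z) = (1 + z) + (1 + z) := by
      rw [add_mul, one_mul, mul_add, mul_one, hzz]; abel
    rw [he]
    calc (m : R) * (1 + z) * ((m : R) * (1 + z))
        = (m : R) * ((1 + z) * (m : R)) * (1 + z) := by noncomm_ring
      _ = (m : R) * m * ((1 + z) * (1 + z)) := by rw [← hm' (1 + z)]; noncomm_ring
      _ = (m : R) * (((m : R) + m) * (1 + z)) := by rw [this]; noncomm_ring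
      _ = (m : R) * (1 + z) := by rw [hm, one_mul]
  have hdouble : e + e = 1 + z := by rw [he, ← add_mul, hm, one_mul]
  have he0 : e ≠ 0 := fun e0 => h2 (by
    rw [e0, add_zero] at hdouble
    exact eq_neg_of_add_eq_zero_right hdouble.symm)
  have he1 : e ≠ 1 := fun e1 => h1 (by
    rw [e1] at hdouble
    exact (add_left_cancel hdouble).symm)
  have idem : IsIdempotentElem e := hee
  let φ : R →+* idem.Corner :=
    { toFun := fun r => ⟨e * r * e, r, rfl⟩
      map_one' := Subtype.ext (by show e * 1 * e = e; rw [mul_one, hee])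
      map_mul' := fun x y => Subtype.ext (by
        show e * (x * y) * e = e * x * e * (e * y * e)
        calc e * (x * y) * e = e * e * x * y * e := by rw [hee]; noncomm_ring
          _ = e * (x * e) * y * e := by rw [← hec x]; noncomm_ring
          _ = e * (x * (e * e)) * y * e := by rw [hee]
          _ = e * x * e * (e * y * e) := by noncomm_ring)
      map_zero' := Subtype.ext (by show e * 0 * e = 0; simp)
      map_add' := fun x y => Subtype.ext (by
        show e * (x + y) * e = e * x * e + e * y * e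
        noncomm_ring) }
  haveI : Finite idem.Corner := Finite.of_injective (fun x : idem.Corner => x.1) Subtype.val_injective
  have hlt : Nat.card idem.Corner < Nat.card R := by
    refine lt_of_le_of_ne (Nat.card_le_card_of_injective (fun x : idem.Corner => x.1) Subtype.val_injective)
      fun heq => he1 ?_
    obtain ⟨x, hx⟩ := (Nat.bijective_iff_injective_and_card _).mpr
      ⟨(Subtype.val_injective : Function.Injective fun x : idem.Corner => x.1), heq⟩ |>.2 1
    have := ((Subsemigroup.mem_corner_iff idem).mp x.2).1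
    rw [hx, mul_one] at this
    exact this
  have hJ : IsJDiv p (S.map φ.toAddMonoidHom) := by
    refine ⟨h.prime, by rw [← map_natCast φ, h.char, map_zero],
      fun e' => he0 (congrArg Subtype.val e').symm, ⟨1, h.one_mem, map_one φ⟩, ?_, ?_⟩
    · rintro _ ⟨x, hx, rfl⟩ hne
      exact (h.isUnit x hx (fun e' => hne (by simp [e']))).map φ
    · rintro _ ⟨x, hx, rfl⟩ _ ⟨y, hy, rfl⟩
      exact ⟨x * y * x, h.quad x hx y hy, by simp⟩
  have key := IH idem.Corner _ hlt hJ _ ⟨a, ha, rfl⟩ _ ⟨b, hb, rfl⟩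
  have key' : φ (a * b - b * a) = 0 := by
    rw [map_sub, map_mul, map_mul, sub_eq_zero]
    exact key
  have e' : e * (a * b - b * a) * e = 0 := congrArg Subtype.val key'
  rw [mul_assoc, ← hec (a * b - b * a), ← mul_assoc, hee] at e'
  rw [← hdouble, add_mul, e', add_zero]

end odd

end CfsgLib.BlockElation.IsJDiv

namespace CfsgLib.BlockElation

universe u

theorem commute_of_odd_aux {p : ℕ} (hp : p ≠ 2) : ∀ (N : ℕ) (R : Type u) [Ring R] [Finite R]
    (S : AddSubgroup R), Nat.card R = N → IsJDiv p S → ∀ a ∈ S, ∀ b ∈ S, a * b = b * a := by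
  intro N
  induction N using Nat.strong_induction_on with
  | _ N ih =>
  intro R _ _ S hN h a ha b hb
  subst hN
  by_cases hgen : Subring.closure (S : Set R) = ⊤
  swap
  · set A := Subring.closure (S : Set R) with hA
    have hlt : Nat.card A < Nat.card R := by
      refine lt_of_le_of_ne (Nat.card_le_card_of_injective _ Subtype.val_injective) fun heq => hgen ?_
      refine eq_top_iff.mpr fun r _ => ?_
      obtain ⟨x, rfl⟩ := (Nat.bijective_iff_injective_and_card _).mpr
        ⟨(Subtype.val_injective : Function.Injective fun x : A => (x : R)), heq⟩ |>.2 r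
      exact x.2
    have hJ : IsJDiv p (S.comap A.subtype.toAddMonoidHom) := by
      refine ⟨h.prime, A.subtype_injective (by rw [map_natCast, map_zero]; exact h.char),
        fun e => h.nt (congrArg Subtype.val e), h.one_mem, ?_, fun x hx y hy => h.quad _ hx _ hy⟩
      intro x hx hx0
      obtain ⟨y, hy, e1, e2, -⟩ := h.exists_inv hx (fun e => hx0 (Subtype.ext e))
      exact IsUnit.of_mul_eq_one (⟨y, Subring.subset_closure hy⟩ : A) (Subtype.ext e1)
    have := ih _ hlt A _ rfl hJ ⟨a, Subring.subset_closure ha⟩ ha ⟨b, Subring.subset_closure hb⟩ hb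
    exact congrArg Subtype.val this
  have IH : ∀ (R' : Type u) [Ring R'] [Finite R'] (S' : AddSubgroup R'),
      Nat.card R' < Nat.card R → IsJDiv p S' → ∀ a ∈ S', ∀ b ∈ S', a * b = b * a :=
    fun R' _ _ S' hlt hJ => ih _ hlt R' S' rfl hJ
  by_contra hne
  have hsign : ∀ z : R, (∀ r, z * r = r * z) → z * z = 1 → z = 1 ∨ z = -1 := by
    intro z hz hzz
    by_contra hcon
    push Not at hcon
    apply hne
    have e1 := h.eq_zero_of_square_one_ne hp IH hz hzz hcon.1 hcon.2 ha hb
    have e2 := h.eq_zero_of_square_one_ne hp IH (z := -z) (fun r => by rw [neg_mul, mul_neg, hz])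
      (by rw [neg_mul_neg, hzz]) (fun e => hcon.2 (neg_eq_iff_eq_neg.mp e))
      (fun e => hcon.1 (neg_inj.mp e)) ha hb
    have e3 : (a * b - b * a) + (a * b - b * a) = 0 := by
      calc (a * b - b * a) + (a * b - b * a)
          = (1 + z) * (a * b - b * a) + (1 + -z) * (a * b - b * a) := by noncomm_ring
        _ = 0 := by rw [e1, e2, add_zero]
    exact sub_eq_zero.mp (h.eq_zero_of_add_self hp e3)
  obtain ⟨n, hn, hn0, hns⟩ := h.exists_nonsquare hp
  have hnc : ∀ r : R, n * r = r * n := h.cen_central hp hgen hn.2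
  have hshape := fun (x y : R) (hx : x ∈ S) (hy : y ∈ S) =>
    h.commutator_shape hp hgen hsign hn hn0 hns hx hy
  have hall : ¬ ∀ x ∈ S, ∀ y ∈ S, x * y - y * x ∈ S := by
    intro hS
    let A : Subring R :=
      { carrier := S
        mul_mem' := fun {x y} hx hy => h.mem_of_add_self hp (by
          have := S.add_mem (h.sym hx hy) (hS x hx y hy)
          convert this using 1
          abel)
        one_mem' := h.one_mem
        add_mem' := fun {x y} hx hy => S.add_mem hx hy
        zero_mem' := S.zero_mem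
        neg_mem' := fun {x} hx => S.neg_mem hx }
    haveI : Nontrivial A := ⟨⟨0, 1, fun e => h.nt (congrArg Subtype.val e)⟩⟩
    haveI : NoZeroDivisors A := ⟨fun {x y} hxy => by
      rcases (h.mul_eq_zero_iff (x.2 : (x : R) ∈ S)).mp (congrArg Subtype.val hxy) with e | e
      · exact Or.inl (Subtype.ext e)
      · exact Or.inr (Subtype.ext e)⟩
    haveI : IsDomain A := NoZeroDivisors.to_isDomain _
    exact hne (congrArg Subtype.val ((Finite.isDomain_to_isField A).mul_comm ⟨a, ha⟩ ⟨b, hb⟩))
  push Not at hall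
  obtain ⟨a₁, ha₁, b₁, hb₁, hnot⟩ := hall
  obtain ⟨k, hk, hkk, -⟩ := (hshape a₁ b₁ ha₁ hb₁).resolve_left hnot
  obtain ⟨ni, hni, hnni, hnin⟩ := h.cen_inv hp hn hn0
  have hnic : ∀ r : R, ni * r = r * ni := h.cen_central hp hgen hni.2
  let K : AddSubgroup R := S.map (AddMonoidHom.mulLeft k)
  have hor : ∀ x ∈ S, ∀ y ∈ S, x * y - y * x ∈ S ∨ x * y - y * x ∈ K := by
    intro x hx y hy
    rcases hshape x y hx hy with e | ⟨k', hk', hkk', s, hs, e⟩
    · exact Or.inl e
    · right
      rcases hsign (ni * (k * k')) (fun r => by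
          rw [mul_assoc, mul_assoc k, hk', ← mul_assoc k, hk, mul_assoc r, ← mul_assoc ni, hnic,
            mul_assoc r]) (by
          calc ni * (k * k') * (ni * (k * k')) = ni * ni * (k * (k' * k) * k') := by
                rw [mul_assoc ni, ← mul_assoc (k * k'), ← hnic (k * k')]; noncomm_ring
            _ = ni * ni * (k * k * (k' * k')) := by rw [hk' k]; noncomm_ring
            _ = 1 := by rw [hkk, hkk', mul_assoc, ← mul_assoc ni n, hnin, one_mul, hnin]) with e1 | e1
      · have e2 : k = k' := by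
          calc k = k * (ni * (k * k')) := by rw [e1, mul_one]
            _ = ni * (k * k) * k' := by rw [← mul_assoc k, ← hnic k]; noncomm_ring
            _ = k' := by rw [hkk, hnin, one_mul]
        exact ⟨s, hs, by rw [e, e2]; rfl⟩
      · have e2 : -k = k' := by
          calc -k = k * (ni * (k * k')) := by rw [e1, mul_neg, mul_one]
            _ = ni * (k * k) * k' := by rw [← mul_assoc k, ← hnic k]; noncomm_ring
            _ = k' := by rw [hkk, hnin, one_mul]
        exact ⟨-s, S.neg_mem hs, by rw [e, ← e2, neg_mul, ← mul_neg]; rfl⟩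
  have hbad : ∀ x y y' : R, x ∈ S → y ∈ S → y' ∈ S → x * y - y * x ∉ S → x * y' - y' * x ∈ K := by
    intro x y y' hx hy hy' hn1
    rcases hor x hx y' hy' with e1 | e1
    · have hy2 : x * y - y * x ∈ K := (hor x hx y hy).resolve_left hn1
      rcases hor x hx (y + y') (S.add_mem hy hy') with e2 | e2
      · refine absurd ?_ hn1
        have := S.sub_mem e2 e1
        convert this using 1
        noncomm_ring
      · have := K.sub_mem e2 hy2
        convert this using 1
        noncomm_ring
    · exact e1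
  have hcase : ∀ x ∈ S, ∀ y ∈ S, x * y - y * x ∈ K := by
    intro x hx y hy
    by_cases hx' : ∃ y' ∈ S, x * y' - y' * x ∉ S
    · obtain ⟨y', hy', e⟩ := hx'
      exact hbad x y' y hx hy' hy e
    push Not at hx'
    have hxa : (x + a₁) * b₁ - b₁ * (x + a₁) ∉ S := by
      intro e
      apply hnot
      have := S.sub_mem e (hx' b₁ hb₁)
      convert this using 1
      noncomm_ring
    have e1 := hbad (x + a₁) b₁ y (S.add_mem hx ha₁) hb₁ hy hxa
    have e2 := hbad a₁ b₁ y ha₁ hb₁ hy hnot
    have := K.sub_mem e1 e2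
    convert this using 1
    noncomm_ring
  let P : Set R := {w | ∃ x ∈ S, ∃ y ∈ S, w = x + k * y}
  have hmul : ∀ x ∈ S, ∀ y ∈ S, x * y ∈ P := by
    intro x hx y hy
    obtain ⟨s, hs, e⟩ := hcase x hx y hy
    obtain ⟨m, hm⟩ := h.half_exists hp
    refine ⟨(m : R) * (x * y + y * x), h.natCast_mul_mem m (h.sym hx hy), (m : R) * s,
      h.natCast_mul_mem m hs, ?_⟩
    rw [← mul_assoc k, hk, mul_assoc, show k * s = x * y - y * x from e, ← mul_add]
    calc x * y = ((m : R) + m) * (x * y) := by rw [hm, one_mul]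
      _ = (m : R) * (x * y + y * x + (x * y - y * x)) := by noncomm_ring
  have hadd : ∀ w ∈ P, ∀ w' ∈ P, w + w' ∈ P := by
    rintro _ ⟨x, hx, y, hy, rfl⟩ _ ⟨x', hx', y', hy', rfl⟩
    exact ⟨x + x', S.add_mem hx hx', y + y', S.add_mem hy hy', by noncomm_ring⟩
  have hkP : ∀ w ∈ P, k * w ∈ P := by
    rintro _ ⟨x, hx, y, hy, rfl⟩
    exact ⟨n * y, h.mul_mem hn.1 hy (hn.2 y hy), x, hx, by rw [mul_add, ← mul_assoc, hkk]; abel⟩
  let A : Subring R :=
    { carrier := P
      one_mem' := ⟨1, h.one_mem, 0, S.zero_mem, by simp⟩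
      zero_mem' := ⟨0, S.zero_mem, 0, S.zero_mem, by simp⟩
      add_mem' := fun {w w'} hw hw' => hadd w hw w' hw'
      neg_mem' := fun {w} ⟨x, hx, y, hy, e⟩ => ⟨-x, S.neg_mem hx, -y, S.neg_mem hy, by rw [e]; noncomm_ring⟩
      mul_mem' := fun {w w'} ⟨x, hx, y, hy, e⟩ ⟨x', hx', y', hy', e'⟩ => by
        have : w * w' = x * x' + k * (x * y') + (k * (y * x') + k * (k * (y * y'))) := by
          rw [e, e', add_mul, mul_add, mul_add, ← mul_assoc x k, ← hk x]
          rw [show k * y * (k * y') = k * (k * (y * y')) by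
            rw [mul_assoc k y, ← mul_assoc y k, ← hk y]; noncomm_ring]
          noncomm_ring
        rw [this]
        exact hadd _ (hadd _ (hmul x hx x' hx') _ (hkP _ (hmul x hx y' hy'))) _
          (hadd _ (hkP _ (hmul y hy x' hx')) _ (hkP _ (hkP _ (hmul y hy y' hy')))) }
  haveI : Nontrivial A := ⟨⟨0, 1, fun e => h.nt (congrArg Subtype.val e)⟩⟩
  haveI : NoZeroDivisors A := by
    refine ⟨fun {w w'} hww => or_iff_not_imp_left.mpr fun hw => ?_⟩
    obtain ⟨x, hx, y, hy, e⟩ := w.2
    have hw' : (x + k * y) * (w' : R) = 0 := e ▸ congrArg Subtype.val hww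
    by_contra hw0
    have hnu : ¬ IsUnit (x + k * y) := fun hu => hw0 (Subtype.ext (hu.mul_right_eq_zero.mp hw'))
    obtain ⟨s, hs, hs'⟩ := hcase x hx y hy
    have hP1 : (x + k * y) * (x - k * y) = x * x - n * (y * y) - n * s := by
      calc (x + k * y) * (x - k * y)
          = x * x - x * (k * y) + k * (y * x) - k * y * (k * y) := by noncomm_ring
        _ = x * x - k * (x * y) + k * (y * x) - k * k * (y * y) := by
            rw [← mul_assoc x k, ← hk x, mul_assoc k y (k * y), ← mul_assoc y k, ← hk y]; noncomm_ring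
        _ = x * x - k * k * (y * y) - k * (x * y - y * x) := by noncomm_ring
        _ = x * x - n * (y * y) - n * s := by
            rw [hkk, ← show k * s = x * y - y * x from hs', ← mul_assoc k k s, hkk]
    have hP2 : (x - k * y) * (x + k * y) = x * x - n * (y * y) + n * s := by
      calc (x - k * y) * (x + k * y)
          = x * x + x * (k * y) - k * (y * x) - k * y * (k * y) := by noncomm_ring
        _ = x * x + k * (x * y) - k * (y * x) - k * k * (y * y) := by
            rw [← mul_assoc x k, ← hk x, mul_assoc k y (k * y), ← mul_assoc y k, ← hk y]; noncomm_ring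
        _ = x * x - k * k * (y * y) + k * (x * y - y * x) := by noncomm_ring
        _ = x * x - n * (y * y) + n * s := by
            rw [hkk, ← show k * s = x * y - y * x from hs', ← mul_assoc k k s, hkk]
    have hnS : ∀ t ∈ S, n * t ∈ S := fun t ht => h.mul_mem hn.1 ht (hn.2 t ht)
    have hyy := hnS _ (h.mul_self_mem hy)
    have z1 : x * x - n * (y * y) - n * s = 0 := by
      by_contra hne0
      obtain ⟨u, hu⟩ := h.isUnit _ (S.sub_mem (S.sub_mem (h.mul_self_mem hx) hyy) (hnS s hs)) hne0
      exact hnu (IsUnit.of_mul_eq_one ((x - k * y) * ↑u⁻¹) (by rw [← mul_assoc, hP1, ← hu]; simp))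
    have z2 : x * x - n * (y * y) + n * s = 0 := by
      by_contra hne0
      obtain ⟨u, hu⟩ := h.isUnit _ (S.add_mem (S.sub_mem (h.mul_self_mem hx) hyy) (hnS s hs)) hne0
      refine hnu (IsUnit.of_mul_eq_one_right (↑u⁻¹ * (x - k * y)) ?_)
      rw [mul_assoc, hP2, ← hu]; simp
    have hns0 : n * s = 0 := h.eq_zero_of_add_self hp (by
      calc n * s + n * s = (x * x - n * (y * y) + n * s) - (x * x - n * (y * y) - n * s) := by abel
        _ = 0 := by rw [z1, z2, sub_zero])
    have hs0 : s = 0 := ((h.mul_eq_zero_iff hn.1).mp hns0).resolve_left hn0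
    have hxy : x * y = y * x := sub_eq_zero.mp (by
      rw [← show k * s = x * y - y * x from hs', hs0, mul_zero])
    have hxx : x * x = n * (y * y) := sub_eq_zero.mp (by rwa [hns0, sub_zero] at z1)
    by_cases hy0 : y = 0
    · have hx0 : x = 0 := by
        rw [hy0, mul_zero, mul_zero] at hxx
        rcases (h.mul_eq_zero_iff hx).mp hxx with e0 | e0 <;> exact e0
      exact hw (Subtype.ext (by rw [e, hx0, hy0, mul_zero, add_zero]; rfl))
    obtain ⟨yi, hyi, hyyi, hyiy, hycomm⟩ := h.exists_inv hy hy0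
    have hxyi : yi * x = x * yi := hycomm x hxy.symm
    refine hns (x * yi) (h.mul_mem hx hyi hxyi.symm) ?_
    calc x * yi * (x * yi) = x * x * (yi * yi) := by
          rw [mul_assoc x, ← mul_assoc yi x, hxyi]; noncomm_ring
      _ = n := by rw [hxx, mul_assoc, mul_assoc y, ← mul_assoc y yi, hyyi, one_mul, hyyi, mul_one]
  haveI : IsDomain A := NoZeroDivisors.to_isDomain _
  exact hne (congrArg Subtype.val ((Finite.isDomain_to_isField A).mul_comm
    ⟨a, a, ha, 0, S.zero_mem, by simp⟩ ⟨b, b, hb, 0, S.zero_mem, by simp⟩))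

theorem commute_of_odd {p : ℕ} (hp : p ≠ 2) {R : Type u} [Ring R] [Finite R] {S : AddSubgroup R}
    (h : IsJDiv p S) {a b : R} (ha : a ∈ S) (hb : b ∈ S) : a * b = b * a :=
  commute_of_odd_aux hp _ R S rfl h a ha b hb

end CfsgLib.BlockElation
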