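import Cfsg.Agent.Lib.BlockElation.JordanOdd
import Cfsg.Agent.Lib.NumberTheory.Zsigmondy
import Cfsg.Agent.Lib.ZStar.Main

/-!
In characteristic two the elements of such a set commute as well: the group of the maps
`z ↦ s * z * s` has odd order, so a primitive prime divisor of `|S| - 1` gives an element of `S`
generating a field as large as `S`.
-/

set_option autoImplicit false
set_option linter.unusedSectionVars false

namespace CfsgLib.BlockElation.IsJDiv

variable {p : ℕ} {R : Type*} [Ring R] [Finite R] {S : AddSubgroup R}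

/-- The nonzero elements of `S`. -/
abbrev NZ (S : AddSubgroup R) : Type _ := {x : R // x ∈ S ∧ x ≠ 0}

variable (h : IsJDiv p S)
include h

theorem inverse_spec {z : R} (hz : z ∈ S) (h0 : z ≠ 0) :
    Ring.inverse z ∈ S ∧ z * Ring.inverse z = 1 ∧ Ring.inverse z * z = 1 := by
  obtain ⟨b, hb, e1, e2, -⟩ := h.exists_inv hz h0
  have hu := h.isUnit z hz h0
  have : Ring.inverse z = b := by
    calc Ring.inverse z = Ring.inverse z * (z * b) := by rw [e1, mul_one]
      _ = b := by rw [← mul_assoc, Ring.inverse_mul_cancel z hu, one_mul]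
  rw [this]
  exact ⟨hb, e1, e2⟩

theorem ne_zero_of_mul_eq_one {x y : R} (e : x * y = 1) : x ≠ 0 ∧ y ≠ 0 :=
  ⟨fun e0 => h.nt (by rw [← e, e0, zero_mul]), fun e0 => h.nt (by rw [← e, e0, mul_zero])⟩

/-- The map `z ↦ s * z * s`. -/
noncomputable def U (s : NZ S) : Equiv.Perm (NZ S) where
  toFun z := ⟨s.1 * z.1 * s.1, h.quad _ s.2.1 _ z.2.1,
    haveI : Nontrivial R := ⟨⟨0, 1, h.nt⟩⟩
    ((h.isUnit _ s.2.1 s.2.2).mul (h.isUnit _ z.2.1 z.2.2) |>.mul (h.isUnit _ s.2.1 s.2.2)).ne_zero⟩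
  invFun z := ⟨Ring.inverse s.1 * z.1 * Ring.inverse s.1,
    h.quad _ (h.inverse_spec s.2.1 s.2.2).1 _ z.2.1, by
      obtain ⟨-, e1, e2⟩ := h.inverse_spec s.2.1 s.2.2
      intro e
      apply z.2.2
      calc z.1 = (s.1 * Ring.inverse s.1) * z.1 * (Ring.inverse s.1 * s.1) := by rw [e1, e2, one_mul, mul_one]
        _ = s.1 * (Ring.inverse s.1 * z.1 * Ring.inverse s.1) * s.1 := by noncomm_ring
        _ = 0 := by rw [e, mul_zero, zero_mul]⟩
  left_inv z := by
    obtain ⟨-, e1, e2⟩ := h.inverse_spec s.2.1 s.2.2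
    refine Subtype.ext ?_
    calc Ring.inverse s.1 * (s.1 * z.1 * s.1) * Ring.inverse s.1
        = (Ring.inverse s.1 * s.1) * z.1 * (s.1 * Ring.inverse s.1) := by noncomm_ring
      _ = z.1 := by rw [e1, e2, one_mul, mul_one]
  right_inv z := by
    obtain ⟨-, e1, e2⟩ := h.inverse_spec s.2.1 s.2.2
    refine Subtype.ext ?_
    calc s.1 * (Ring.inverse s.1 * z.1 * Ring.inverse s.1) * s.1
        = (s.1 * Ring.inverse s.1) * z.1 * (Ring.inverse s.1 * s.1) := by noncomm_ring
      _ = z.1 := by rw [e1, e2, one_mul, mul_one]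

/-- Inversion. -/
noncomputable def inv : Equiv.Perm (NZ S) :=
  Function.Involutive.toPerm
    (fun z => ⟨Ring.inverse z.1, (h.inverse_spec z.2.1 z.2.2).1,
      (h.ne_zero_of_mul_eq_one (h.inverse_spec z.2.1 z.2.2).2.1).2⟩)
    fun z => Subtype.ext (by
      obtain ⟨hm, e1, e2⟩ := h.inverse_spec z.2.1 z.2.2
      obtain ⟨-, f1, -⟩ := h.inverse_spec hm (h.ne_zero_of_mul_eq_one e1).2
      calc Ring.inverse (Ring.inverse z.1) = z.1 * Ring.inverse z.1 * Ring.inverse (Ring.inverse z.1) := by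
            rw [e1, one_mul]
        _ = z.1 := by rw [mul_assoc, f1, mul_one])

theorem U_apply (s z : NZ S) : (h.U s z).1 = s.1 * z.1 * s.1 := rfl

theorem inv_apply (z : NZ S) : (h.inv z).1 = Ring.inverse z.1 := rfl

theorem invPerm_sq : h.inv * h.inv = 1 := by
  refine Equiv.ext fun z => ?_
  show h.inv (h.inv z) = z
  exact Function.Involutive.toPerm_involutive _ z

theorem inv_U (s : NZ S) : h.inv * h.U s * h.inv = (h.U s)⁻¹ := by
  refine Equiv.ext fun z => Subtype.ext ?_
  obtain ⟨hs', e1, e2⟩ := h.inverse_spec s.2.1 s.2.2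
  obtain ⟨hz', f1, f2⟩ := h.inverse_spec z.2.1 z.2.2
  show Ring.inverse (s.1 * Ring.inverse z.1 * s.1) = Ring.inverse s.1 * z.1 * Ring.inverse s.1
  have hM : (s.1 * Ring.inverse z.1 * s.1) * (Ring.inverse s.1 * z.1 * Ring.inverse s.1) = 1 := by
    rw [← mul_assoc, ← mul_assoc, mul_assoc (s.1 * Ring.inverse z.1), e1, mul_one,
      mul_assoc s.1 (Ring.inverse z.1), f2, mul_one, e1]
  have hu : IsUnit (s.1 * Ring.inverse z.1 * s.1) := IsUnit.of_mul_eq_one _ hM
  calc Ring.inverse (s.1 * Ring.inverse z.1 * s.1) =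
      Ring.inverse (s.1 * Ring.inverse z.1 * s.1) *
        ((s.1 * Ring.inverse z.1 * s.1) * (Ring.inverse s.1 * z.1 * Ring.inverse s.1)) := by
        rw [hM, mul_one]
    _ = _ := by rw [← mul_assoc, Ring.inverse_mul_cancel _ hu, one_mul]

/-- The group generated by the maps `U s`. -/
noncomputable def DGroup : Subgroup (Equiv.Perm (NZ S)) := Subgroup.closure (Set.range h.U)

theorem shape {d : Equiv.Perm (NZ S)} (hd : d ∈ h.DGroup) :
    ∃ w w' : Rˣ, ∀ z, (d z).1 = w * z.1 * w' := by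
  induction hd using Subgroup.closure_induction with
  | mem x hx =>
    obtain ⟨s, rfl⟩ := hx
    exact ⟨(h.isUnit _ s.2.1 s.2.2).unit, (h.isUnit _ s.2.1 s.2.2).unit, fun z => rfl⟩
  | one => exact ⟨1, 1, fun z => by simp⟩
  | mul x y _ _ hx hy =>
    obtain ⟨w, w', e⟩ := hx
    obtain ⟨v, v', e'⟩ := hy
    exact ⟨w * v, v' * w', fun z => by
      rw [Equiv.Perm.mul_apply, e, e', Units.val_mul, Units.val_mul]; noncomm_ring⟩
  | inv x _ hx =>
    obtain ⟨w, w', e⟩ := hx
    refine ⟨w⁻¹, w'⁻¹, fun z => ?_⟩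
    have := e (x⁻¹ z)
    rw [show x (x⁻¹ z) = z by simp] at this
    rw [this]
    simp [mul_assoc]

theorem conj_mem {d : Equiv.Perm (NZ S)} (hd : d ∈ h.DGroup) : h.inv * d * h.inv ∈ h.DGroup := by
  induction hd using Subgroup.closure_induction with
  | mem x hx =>
    obtain ⟨s, rfl⟩ := hx
    rw [h.inv_U]
    exact Subgroup.inv_mem _ (Subgroup.subset_closure ⟨s, rfl⟩)
  | one => rw [mul_one, h.invPerm_sq]; exact Subgroup.one_mem _
  | mul x y _ _ hx hy =>
    rw [show h.inv * (x * y) * h.inv = (h.inv * x * h.inv) * (h.inv * y * h.inv) by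
      rw [show (h.inv * x * h.inv) * (h.inv * y * h.inv) = h.inv * x * (h.inv * h.inv) * y * h.inv by group,
        h.invPerm_sq]; group]
    exact Subgroup.mul_mem _ hx hy
  | inv x _ hx =>
    rw [show h.inv * x⁻¹ * h.inv = (h.inv⁻¹ * x * h.inv⁻¹)⁻¹ by group,
      inv_eq_of_mul_eq_one_right h.invPerm_sq]
    exact Subgroup.inv_mem _ hx

/-- `d * θ(d)⁻¹` is a map `U s`. -/
theorem twist_eq {d : Equiv.Perm (NZ S)} (hd : d ∈ h.DGroup) :
    d * (h.inv * d * h.inv)⁻¹ = h.U (d ⟨1, h.one_mem, h.nt.symm⟩) := by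
  obtain ⟨w, w', e⟩ := h.shape hd
  refine Equiv.ext fun z => Subtype.ext ?_
  have ha : ((d ⟨1, h.one_mem, h.nt.symm⟩).1) = (w : R) * w' := by rw [e]; simp
  have hdi : ∀ y, (d⁻¹ y).1 = ((w⁻¹ : Rˣ) : R) * y.1 * ((w'⁻¹ : Rˣ) : R) := fun y => by
    have := e (d⁻¹ y)
    rw [show d (d⁻¹ y) = y by simp] at this
    rw [this]
    simp [mul_assoc]
  have hi : h.inv⁻¹ = h.inv := inv_eq_of_mul_eq_one_right h.invPerm_sq
  rw [mul_inv_rev, mul_inv_rev, hi, Equiv.Perm.mul_apply, Equiv.Perm.mul_apply, Equiv.Perm.mul_apply,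
    e, h.U_apply, ha, h.inv_apply, hdi, h.inv_apply]
  obtain ⟨-, f1, f2⟩ := h.inverse_spec z.2.1 z.2.2
  set zi := Ring.inverse z.1
  set M := ((w⁻¹ : Rˣ) : R) * zi * ((w'⁻¹ : Rˣ) : R)
  have hM : M * ((w' : R) * z.1 * w) = 1 := by
    calc M * ((w' : R) * z.1 * w)
        = ((w⁻¹ : Rˣ) : R) * (zi * ((((w'⁻¹ : Rˣ) : R) * (w' : R)) * z.1)) * w := by
          simp only [M]; noncomm_ring
      _ = 1 := by rw [Units.inv_mul, one_mul, f2, mul_one, Units.inv_mul]
  have hu : IsUnit M := IsUnit.of_mul_eq_one _ hM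
  have hinv : Ring.inverse M = (w' : R) * z.1 * w := by
    calc Ring.inverse M = Ring.inverse M * (M * ((w' : R) * z.1 * w)) := by rw [hM, mul_one]
      _ = _ := by rw [← mul_assoc, Ring.inverse_mul_cancel _ hu, one_mul]
  rw [hinv]
  noncomm_ring

theorem eq_one_of_pow {x : R} (hp : p = 2) (hx : x ∈ S) (j : ℕ) (e : x ^ 2 ^ j = 1) : x = 1 := by
  haveI : Nontrivial R := ⟨⟨0, 1, h.nt⟩⟩
  haveI : CharP R 2 := CharTwo.of_one_ne_zero_of_two_eq_zero h.nt.symm
    (by have e := h.char; rw [hp] at e; simpa using e)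
  haveI : ExpChar R 2 := ExpChar.prime Nat.prime_two
  by_contra hne
  have : (x - 1) ^ 2 ^ j = 0 := by
    rw [sub_pow_expChar_pow_of_commute 2 j (Commute.one_right _), e, one_pow, sub_self]
  exact ((h.isUnit _ (S.sub_mem hx h.one_mem) (sub_ne_zero.mpr hne)).pow (2 ^ j)).ne_zero this

theorem U_eq_one (hp : p = 2) {s : NZ S} (e : h.U s = 1) : s.1 = 1 := by
  refine h.eq_one_of_pow hp s.2.1 1 ?_
  have := congrArg Subtype.val (Equiv.congr_fun e ⟨1, h.one_mem, h.nt.symm⟩)
  simpa [h.U_apply, sq] using this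

theorem U_pow (s : NZ S) (n : ℕ) (z : NZ S) : ((h.U s ^ n) z).1 = s.1 ^ n * z.1 * s.1 ^ n := by
  induction n generalizing z with
  | zero => simp
  | succ n ih =>
    rw [pow_succ, Equiv.Perm.mul_apply, ih, h.U_apply, pow_succ s.1 n]
    rw [show s.1 ^ n * s.1 = s.1 * s.1 ^ n from (Commute.pow_self s.1 n).eq]
    nth_rw 1 [show s.1 * s.1 ^ n = s.1 ^ n * s.1 from (Commute.pow_self s.1 n).eq.symm]
    noncomm_ring

theorem odd_card_DGroup (hp : p = 2) (hbig : ∃ s : NZ S, s.1 ≠ 1) : Odd (Nat.card h.DGroup) := by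
  classical
  haveI : Finite (NZ S) := Finite.of_injective Subtype.val Subtype.val_injective
  haveI : Finite (Equiv.Perm (NZ S)) := inferInstance
  set X := Subgroup.closure (Set.range h.U ∪ {h.inv}) with hX
  have hUX : ∀ s, h.U s ∈ X := fun s => Subgroup.subset_closure (Or.inl ⟨s, rfl⟩)
  have htX : h.inv ∈ X := Subgroup.subset_closure (Or.inr rfl)
  have hdec : ∀ x ∈ X, ∃ d ∈ h.DGroup, x = d ∨ x = d * h.inv := by
    intro x hx
    induction hx using Subgroup.closure_induction with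
    | mem x hx =>
      rcases hx with ⟨s, rfl⟩ | rfl
      · exact ⟨_, Subgroup.subset_closure ⟨s, rfl⟩, Or.inl rfl⟩
      · exact ⟨1, Subgroup.one_mem _, Or.inr (one_mul _).symm⟩
    | one => exact ⟨1, Subgroup.one_mem _, Or.inl rfl⟩
    | mul x y _ _ hx hy =>
      obtain ⟨d, hd, hx⟩ := hx
      obtain ⟨f, hf, hy⟩ := hy
      rcases hx with rfl | rfl <;> rcases hy with rfl | rfl
      · exact ⟨_, Subgroup.mul_mem _ hd hf, Or.inl rfl⟩
      · exact ⟨_, Subgroup.mul_mem _ hd hf, Or.inr (mul_assoc _ _ _).symm⟩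
      · refine ⟨_, Subgroup.mul_mem _ hd (h.conj_mem hf), Or.inr ?_⟩
        rw [mul_assoc d (h.inv * y * h.inv), mul_assoc (h.inv * y), h.invPerm_sq, mul_one, mul_assoc]
      · refine ⟨_, Subgroup.mul_mem _ hd (h.conj_mem hf), Or.inl ?_⟩
        group
    | inv x _ hx =>
      obtain ⟨d, hd, rfl | rfl⟩ := hx
      · exact ⟨_, Subgroup.inv_mem _ hd, Or.inl rfl⟩
      · refine ⟨_, h.conj_mem (Subgroup.inv_mem _ hd), Or.inr ?_⟩
        rw [mul_assoc (h.inv * d⁻¹), h.invPerm_sq, mul_one, mul_inv_rev, inv_eq_of_mul_eq_one_right h.invPerm_sq]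
  have hinv1 : h.inv ≠ 1 := by
    intro e
    obtain ⟨s, hs⟩ := hbig
    have := congrArg Subtype.val (Equiv.congr_fun e s)
    rw [h.inv_apply] at this
    have h2 := (h.inverse_spec s.2.1 s.2.2).2.1
    simp only [Equiv.Perm.coe_one, id_eq] at this
    rw [this] at h2
    exact hs (h.eq_one_of_pow hp s.2.1 1 (by rw [pow_one, sq, h2]))
  let t : X := ⟨h.inv, htX⟩
  have hiso : Cfsg.IsIsolatedInvolution t := by
    refine ⟨orderOf_eq_prime (Subtype.ext (by simp [t, sq, h.invPerm_sq])) (fun e => hinv1 (congrArg Subtype.val e)),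
      fun g hg => ?_⟩
    obtain ⟨d, hd, hgd⟩ := hdec g.1 g.2
    have hconj : g.1 * h.inv * g.1⁻¹ = h.U (d ⟨1, h.one_mem, h.nt.symm⟩) * h.inv := by
      rw [← h.twist_eq hd]
      have hi : h.inv⁻¹ = h.inv := inv_eq_of_mul_eq_one_right h.invPerm_sq
      rcases hgd with e | e <;> rw [e]
      · calc d * h.inv * d⁻¹ = d * h.inv * d⁻¹ * (h.inv * h.inv) := by rw [h.invPerm_sq, mul_one]
          _ = _ := by rw [mul_inv_rev, mul_inv_rev, hi]; group
      · calc d * h.inv * h.inv * (d * h.inv)⁻¹ = d * h.inv * d⁻¹ := by group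
          _ = d * h.inv * d⁻¹ * (h.inv * h.inv) := by rw [h.invPerm_sq, mul_one]
          _ = _ := by rw [mul_inv_rev, mul_inv_rev, hi]; group
    refine Subtype.ext ?_
    show g.1 * h.inv * g.1⁻¹ = h.inv
    rw [hconj]
    set s := d ⟨1, h.one_mem, h.nt.symm⟩
    have hc : h.inv * (h.U s * h.inv) = h.U s * h.inv * h.inv := hconj ▸ congrArg Subtype.val hg.eq
    rw [← mul_assoc, h.inv_U, mul_assoc, h.invPerm_sq, mul_one] at hc
    have h2 : h.U s ^ 2 = 1 := by
      rw [sq]
      nth_rw 1 [← hc]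
      exact inv_mul_cancel _
    have h4 : s.1 ^ 2 * 1 * s.1 ^ 2 = 1 := by
      have := congrArg Subtype.val (Equiv.congr_fun h2 ⟨1, h.one_mem, h.nt.symm⟩)
      rwa [h.U_pow] at this
    rw [mul_one, ← pow_add] at h4
    have hs1 : s.1 = 1 := h.eq_one_of_pow hp s.2.1 2 h4
    have : h.U s = 1 := Equiv.ext fun z => Subtype.ext (by simp [h.U_apply, hs1])
    rw [this, one_mul]
  obtain hN := ZStar.commutatorsInCore_of_isolated hiso
  set N := Cfsg.pPrimeCore 2 X with hN'
  have hle : h.DGroup ≤ N.map X.subtype := by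
    refine (Subgroup.closure_le _).mpr ?_
    rintro _ ⟨s, rfl⟩
    obtain ⟨r, hr, hrr, -⟩ := h.exists_sqrt hp s.2.1
    have hr0 : r ≠ 0 := fun e => s.2.2 (by rw [← hrr, e, zero_mul])
    set r' : NZ S := ⟨r, hr, hr0⟩
    have hm := hN (⟨h.U r', hUX r'⟩ : X)⁻¹
    refine ⟨_, hm, ?_⟩
    show h.inv * (h.U r')⁻¹ * h.inv⁻¹ * ((h.U r')⁻¹)⁻¹ = h.U s
    rw [inv_eq_of_mul_eq_one_right h.invPerm_sq, inv_inv]
    have : h.inv * (h.U r')⁻¹ * h.inv = h.U r' := by
      rw [← h.inv_U r', ← mul_assoc, ← mul_assoc, h.invPerm_sq, one_mul, mul_assoc, h.invPerm_sq, mul_one]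
    rw [this]
    refine Equiv.ext fun z => Subtype.ext ?_
    rw [Equiv.Perm.mul_apply, h.U_apply, h.U_apply, h.U_apply, ← hrr]
    noncomm_ring
  refine Odd.of_dvd_nat ?_ (Subgroup.card_dvd_of_le hle)
  rw [Subgroup.card_map_of_injective X.subtype_injective]
  exact ZStar.odd_card_core

theorem central_of_quadratic (hp : p = 2) {i : R} (hi : i ∈ S) (hq : i * i + i + 1 = 0) :
    ∀ z ∈ S, i * z = z * i := by
  intro z hz
  haveI : Nontrivial R := ⟨⟨0, 1, h.nt⟩⟩
  haveI : CharP R 2 := CharTwo.of_one_ne_zero_of_two_eq_zero h.nt.symm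
    (by have e := h.char; rw [hp] at e; simpa using e)
  obtain ⟨z', hz'⟩ : ∃ w, w = i * z + z * i := ⟨_, rfl⟩
  have hz'S : z' ∈ S := hz' ▸ h.sym hi hz
  have hii : i * i = i + 1 := by
    rw [← CharTwo.add_eq_zero (R := R), ← add_assoc]
    exact hq
  have hanti : i * z' = z' * i + z' := by
    rw [hz', mul_add, add_mul, ← mul_assoc, hii, mul_assoc z i i, hii, add_mul, one_mul, mul_add,
      mul_one, mul_assoc i z i]
    have := CharTwo.add_self_eq_zero (z * i)
    calc i * z + z + i * (z * i) = i * z + z + i * (z * i) + (z * i + z * i) := by rw [this, add_zero]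
      _ = _ := by
        have e2 := CharTwo.add_self_eq_zero z
        calc i * z + z + i * (z * i) + (z * i + z * i)
            = (i * (z * i) + (z * i + z) + (i * z + z * i)) := by abel
          _ = _ := by abel
  obtain ⟨r, hr, hrr, hrcomm⟩ := h.exists_sqrt hp (h.mul_self_mem hz'S)
  have hri : r * i = i * r := hrcomm i (by
    calc z' * z' * i = z' * z' * i + (z' * z' + z' * z') := by rw [CharTwo.add_self_eq_zero, add_zero]
      _ = z' * (z' * i + z') + z' * z' := by rw [mul_add, mul_assoc]; abel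
      _ = z' * (i * z') + z' * z' := by rw [hanti]
      _ = (z' * i + z') * z' := by rw [add_mul, mul_assoc]
      _ = i * (z' * z') := by rw [← hanti, mul_assoc])
  have hrz : r * z' = z' * r := hrcomm z' (mul_assoc _ _ _)
  have heq : z' = r := by
    have e : (z' + r) * (z' + r) = 0 := by
      rw [mul_add, add_mul, add_mul, hrr, ← hrz]
      rw [add_comm (r * z') (z' * z'), CharTwo.add_self_eq_zero]
    rcases (h.mul_eq_zero_iff (S.add_mem hz'S hr)).mp e with e0 | e0 <;>
      exact CharTwo.add_eq_zero.mp e0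
  rw [heq, ← hri] at hanti
  have hr0 : r = 0 := by simpa using hanti
  exact CharTwo.add_eq_zero.mp (hz'.symm.trans (heq.trans hr0))

theorem all_commute_of_two (hp : p = 2) {a b : R} (ha : a ∈ S) (hb : b ∈ S) : a * b = b * a := by
  classical
  haveI : Nontrivial R := ⟨⟨0, 1, h.nt⟩⟩
  haveI : CharP R 2 := CharTwo.of_one_ne_zero_of_two_eq_zero h.nt.symm
    (by have e := h.char; rw [hp] at e; simpa using e)
  haveI : Finite (NZ S) := Finite.of_injective Subtype.val Subtype.val_injective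
  by_contra hne
  have hbig : ∃ s : NZ S, s.1 ≠ 1 := by
    by_contra hall
    push Not at hall
    have h1 : ∀ x ∈ S, x = 0 ∨ x = 1 := fun x hx => or_iff_not_imp_left.mpr fun h0 => hall ⟨x, hx, h0⟩
    rcases h1 a ha with rfl | rfl <;> simp at hne
  have hpg : IsPGroup 2 (Multiplicative S) := fun x => ⟨1, by
    obtain ⟨v, rfl⟩ : ∃ v : S, Multiplicative.ofAdd v = x := ⟨_, rfl⟩
    rw [pow_one, sq, ← ofAdd_add]
    exact congrArg Multiplicative.ofAdd (Subtype.ext (CharTwo.add_self_eq_zero (v : R)))⟩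
  obtain ⟨e, he⟩ := IsPGroup.iff_card.mp hpg
  replace he : Nat.card S = 2 ^ e := he
  have hNZ : Nat.card (NZ S) + 1 = 2 ^ e := by
    rw [← he]
    have : Nat.card (NZ S) = ((S : Set R) \ {0}).ncard := rfl
    rw [this, Set.ncard_sdiff_singleton_add_one S.zero_mem]
    rfl
  have hcardD := h.odd_card_DGroup hp hbig
  set one : NZ S := ⟨1, h.one_mem, h.nt.symm⟩
  have htrans : MulAction.orbit h.DGroup one = Set.univ := Set.eq_univ_of_forall fun z => by
    obtain ⟨r, hr, hrr, -⟩ := h.exists_sqrt hp z.2.1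
    refine ⟨⟨h.U ⟨r, hr, fun e => z.2.2 (by rw [← hrr, e, zero_mul])⟩,
      Subgroup.subset_closure ⟨_, rfl⟩⟩, Subtype.ext ?_⟩
    show r * 1 * r = z.1
    rw [mul_one, hrr]
  -- the elements `d 1` for `d` in an inversion invariant Sylow subgroup
  have hsyl : ∀ l : ℕ, l.Prime → ∀ j : ℕ, l ^ j ∣ 2 ^ e - 1 →
      ∃ T : Set (NZ S), l ^ j ≤ T.ncard ∧ ∀ y ∈ T, ∃ n, y.1 ^ l ^ n = 1 := by
    intro l hl j hj
    haveI : Fact l.Prime := ⟨hl⟩
    let θ : h.DGroup ≃* h.DGroup :=
      { toFun := fun d => ⟨h.inv * d.1 * h.inv, h.conj_mem d.2⟩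
        invFun := fun d => ⟨h.inv * d.1 * h.inv, h.conj_mem d.2⟩
        left_inv := fun d => Subtype.ext (by
          show h.inv * (h.inv * d.1 * h.inv) * h.inv = d.1
          rw [mul_assoc, mul_assoc, h.invPerm_sq, mul_one, ← mul_assoc, h.invPerm_sq, one_mul])
        right_inv := fun d => Subtype.ext (by
          show h.inv * (h.inv * d.1 * h.inv) * h.inv = d.1
          rw [mul_assoc, mul_assoc, h.invPerm_sq, mul_one, ← mul_assoc, h.invPerm_sq, one_mul])
        map_mul' := fun d f => Subtype.ext (by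
          show h.inv * (d.1 * f.1) * h.inv = h.inv * d.1 * h.inv * (h.inv * f.1 * h.inv)
          rw [show h.inv * d.1 * h.inv * (h.inv * f.1 * h.inv)
            = h.inv * d.1 * (h.inv * h.inv) * f.1 * h.inv by group, h.invPerm_sq]
          group) }
    haveI : Finite (Sylow l h.DGroup) := inferInstance
    haveI := Fintype.ofFinite (Sylow l h.DGroup)
    have hodd : ¬ 2 ∣ Fintype.card (Sylow l h.DGroup) := by
      rw [← Nat.card_eq_fintype_card, ← even_iff_two_dvd, Nat.not_even_iff_odd]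
      obtain ⟨P⟩ : Nonempty (Sylow l h.DGroup) := inferInstance
      exact Odd.of_dvd_nat hcardD ((P.card_dvd_index).trans (Subgroup.index_dvd_card _))
    let σ : Equiv.Perm (Sylow l h.DGroup) := MulAction.toPerm (θ : MulAut h.DGroup)
    have hθ : (θ : MulAut h.DGroup) * θ = 1 := MulEquiv.ext fun d => Subtype.ext (by
      show h.inv * (h.inv * d.1 * h.inv) * h.inv = d.1
      rw [mul_assoc, mul_assoc, h.invPerm_sq, mul_one, ← mul_assoc, h.invPerm_sq, one_mul])
    obtain ⟨P, hP⟩ := Equiv.Perm.exists_fixed_point_of_prime (p := 2) (n := 1) hodd (σ := σ)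
      (Equiv.ext fun P => by
        show (θ : MulAut h.DGroup) • (θ : MulAut h.DGroup) • P = P
        rw [← mul_smul, hθ, one_smul])
    replace hP : (θ : MulAut h.DGroup) • P = P := hP
    refine ⟨MulAction.orbit (P : Subgroup h.DGroup) one, ?_, ?_⟩
    · have h1 : (MulAction.stabilizer h.DGroup one).index = Nat.card (NZ S) := by
        rw [MulAction.index_stabilizer, htrans, Set.ncard_univ]
      have h2 : (MulAction.orbit (P : Subgroup h.DGroup) one).ncard *
          Nat.card (MulAction.stabilizer (P : Subgroup h.DGroup) one) = Nat.card (P : Subgroup h.DGroup) := by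
        rw [← MulAction.index_stabilizer, Subgroup.index_mul_card]
      have h3 : Nat.card (MulAction.stabilizer (P : Subgroup h.DGroup) one) ∣
          Nat.card (MulAction.stabilizer h.DGroup one) := by
        refine Subgroup.card_dvd_of_injective (({
          toFun := fun x => ⟨x.1.1, x.2⟩
          map_one' := rfl
          map_mul' := fun _ _ => rfl } :
            MulAction.stabilizer (P : Subgroup h.DGroup) one →* MulAction.stabilizer h.DGroup one)) ?_
        intro x y hxy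
        exact Subtype.ext (Subtype.ext (congrArg Subtype.val hxy :))
      have hD : Nat.card (MulAction.stabilizer h.DGroup one) * (2 ^ e - 1) = Nat.card h.DGroup := by
        rw [← Subgroup.card_mul_index (MulAction.stabilizer h.DGroup one), h1, ← hNZ, Nat.add_sub_cancel]
      obtain ⟨i, hi⟩ := (P.isPGroup'.to_subgroup (MulAction.stabilizer (P : Subgroup h.DGroup) one)).exists_card_eq
      have hl1 : l ^ (i + j) ∣ Nat.card h.DGroup := by
        rw [pow_add, ← hD, ← hi]
        exact mul_dvd_mul h3 hj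
      have hl2 : l ^ (i + j) ∣ Nat.card (P : Subgroup h.DGroup) := P.pow_dvd_card_of_pow_dvd_card hl1
      rw [← h2, hi, add_comm, pow_add] at hl2
      exact Nat.le_of_dvd ((Set.ncard_pos (Set.toFinite _)).mpr ⟨one, MulAction.mem_orbit_self one⟩)
        (Nat.dvd_of_mul_dvd_mul_right (pow_pos hl.pos i) hl2)
    · rintro _ ⟨g, rfl⟩
      have hg : θ g.1 ∈ (P : Subgroup h.DGroup) := by
        have : θ g.1 ∈ ((θ : MulAut h.DGroup) • P : Sylow l h.DGroup) := ⟨g.1, g.2, rfl⟩
        rwa [hP] at this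
      have hw : g.1 * (θ g.1)⁻¹ ∈ (P : Subgroup h.DGroup) := Subgroup.mul_mem _ g.2 (Subgroup.inv_mem _ hg)
      obtain ⟨n, hn⟩ := P.isPGroup' ⟨_, hw⟩
      have h2 : (g.1.1 * (h.inv * g.1.1 * h.inv)⁻¹) ^ l ^ n = 1 :=
        congrArg (fun x : (P : Subgroup h.DGroup) => x.1.1) hn
      rw [h.twist_eq g.1.2] at h2
      refine ⟨n, ?_⟩
      set y := g.1.1 one with hy
      have h3 : y.1 ^ l ^ n * 1 * y.1 ^ l ^ n = 1 := by
        rw [← h.U_pow y (l ^ n) one, h2]
        rfl
      rw [mul_one, ← sq] at h3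
      exact h.eq_one_of_pow hp (h.pow_mem y.2.1 _) 1 h3
  -- an element whose field is all of `S` gives a contradiction
  have hfull : ∀ y : NZ S, ∀ m : ℕ, y.1 ^ m = 1 → (∀ k, 0 < k → k < e → ¬ orderOf y.1 ∣ 2 ^ k - 1) → False := by
    intro y m hm hk
    set T : Set R := {y.1}
    have hyT : y.1 ∈ h.ring T := h.subset_ring (fun s hs => by rw [Set.mem_singleton_iff.mp hs]; exact y.2.1)
      (fun s hs s' hs' => by rw [Set.mem_singleton_iff.mp hs, Set.mem_singleton_iff.mp hs']) rfl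
    letI := h.field T
    haveI := Fintype.ofFinite (h.ring T)
    haveI : CharP (h.ring T) 2 := ringChar.of_eq ((h.ringChar_ring T).trans hp)
    obtain ⟨f, -, hf⟩ := FiniteField.card (h.ring T) 2
    have hsub : ((h.ring T : Subring R) : Set R) ⊆ (S : Set R) := fun x hx => h.ring_le hx
    have hcardle : 2 ^ (f : ℕ) ≤ 2 ^ e := by
      rw [← he, ← hf, ← Nat.card_eq_fintype_card]
      exact Set.ncard_le_ncard hsub (Set.toFinite _)
    have hfe : (f : ℕ) ≤ e := (Nat.pow_le_pow_iff_right (by norm_num)).mp hcardle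
    have hd : orderOf y.1 ∣ 2 ^ (f : ℕ) - 1 := by
      rw [← hf]
      refine orderOf_dvd_of_pow_eq_one ?_
      have := congrArg Subtype.val (FiniteField.pow_card_sub_one_eq_one (⟨y.1, hyT⟩ : h.ring T)
        (fun e0 => y.2.2 (congrArg Subtype.val e0)))
      simpa using this
    have hfe' : (f : ℕ) = e := by
      rcases Nat.lt_or_ge (f : ℕ) e with hlt | hge
      · exact absurd hd (hk f f.pos hlt)
      · exact le_antisymm hfe hge
    have hall : ((h.ring T : Subring R) : Set R) = (S : Set R) :=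
      Set.eq_of_subset_of_ncard_le hsub (by
        show Nat.card S ≤ Nat.card (h.ring T)
        rw [he, ← hfe', ← hf, Nat.card_eq_fintype_card]) (Set.toFinite _)
    exact hne (h.ring_comm (show a ∈ ((h.ring T : Subring R) : Set R) by rw [hall]; exact ha)
      (show b ∈ ((h.ring T : Subring R) : Set R) by rw [hall]; exact hb))
  by_cases h6 : e = 6
  · obtain ⟨T, hT, hT'⟩ := hsyl 3 Nat.prime_three 2 (by rw [h6]; norm_num)
    have hcube : ∀ y ∈ T, y.1 ^ 3 = 1 := by
      intro y hy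
      obtain ⟨n, hn⟩ := hT' y hy
      obtain ⟨i, -, hi⟩ := (Nat.dvd_prime_pow Nat.prime_three).mp (orderOf_dvd_of_pow_eq_one hn)
      rcases Nat.lt_or_ge i 2 with hi2 | hi2
      · exact orderOf_dvd_iff_pow_eq_one.mp (by rw [hi]; exact pow_dvd_pow 3 (show i ≤ 1 by omega))
      · exfalso
        refine hfull y _ hn fun k hk0 hke hd => ?_
        have h9 : 9 ∣ 2 ^ k - 1 := by
          refine Dvd.dvd.trans ?_ (hi ▸ hd)
          exact pow_dvd_pow 3 hi2
        rw [h6] at hke
        interval_cases k <;> norm_num at h9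
    have hcen : ∀ y ∈ T, y.1 ∈ h.ring (cen S) := by
      intro y hy
      refine h.mem_ring_cen ⟨y.2.1, ?_⟩
      by_cases h1 : y.1 = 1
      · intro z _; rw [h1, one_mul, mul_one]
      · refine h.central_of_quadratic hp y.2.1 ?_
        have e1 : (y.1 - 1) * (y.1 * y.1 + y.1 + 1) = 0 := by
          calc (y.1 - 1) * (y.1 * y.1 + y.1 + 1) = y.1 ^ 3 - 1 := by rw [pow_succ, pow_two]; noncomm_ring
            _ = 0 := by rw [hcube y hy, sub_self]
        exact ((h.mul_eq_zero_iff (S.sub_mem y.2.1 h.one_mem)).mp e1).resolve_left (sub_ne_zero.mpr h1)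
    letI := h.field (cen S)
    have hle : T.ncard ≤ 3 := by
      have h1 : T.ncard ≤ ((Polynomial.nthRoots 3 (1 : h.ring (cen S))).toFinset : Set (h.ring (cen S))).ncard :=
        Set.ncard_le_ncard_of_injOn (fun y => if hy : y.1 ∈ h.ring (cen S) then ⟨y.1, hy⟩ else 0)
          (fun y hy => by
            rw [dif_pos (hcen y hy), Finset.mem_coe, Multiset.mem_toFinset,
              Polynomial.mem_nthRoots (by norm_num)]
            exact Subtype.ext (by simpa using hcube y hy))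
          (fun y hy y' hy' e => Subtype.ext (by
            simp only [dif_pos (hcen y hy), dif_pos (hcen y' hy')] at e
            exact congrArg (fun w : h.ring (cen S) => w.1) e))
      rw [Set.ncard_coe_finset] at h1
      exact h1.trans ((Multiset.toFinset_card_le _).trans (Polynomial.card_nthRoots 3 _))
    norm_num at hT
    omega
  · rcases Nat.lt_or_ge e 2 with he2 | he2
    · obtain ⟨s, hs⟩ := hbig
      have : 2 ≤ Nat.card (NZ S) := Finite.one_lt_card_iff_nontrivial.mpr
        ⟨⟨one, s, fun e' => hs (congrArg Subtype.val e').symm⟩⟩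
      have : 2 ^ e ≤ 2 ^ 1 := Nat.pow_le_pow_right (by norm_num) (by omega)
      omega
    obtain ⟨l, hl, hl1, hl2⟩ := NumberTheory.exists_primitive_prime (a := 2) (n := e) (by norm_num)
      (by omega) (fun hh => h6 hh.2) (fun hh => by
        obtain ⟨-, m, hm⟩ := hh
        rcases m with _ | m
        · simp at hm
        · rw [pow_succ] at hm; omega)
    obtain ⟨T, hT, hT'⟩ := hsyl l hl 1 (by rwa [pow_one])
    rw [pow_one] at hT
    obtain ⟨y, hy, hy1⟩ := Set.exists_ne_of_one_lt_ncard (lt_of_lt_of_le hl.one_lt hT) one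
    obtain ⟨n, hn⟩ := hT' y hy
    refine hfull y _ hn fun k hk0 hke hd => hl2 k hk0 hke ?_
    obtain ⟨i, -, hi⟩ := (Nat.dvd_prime_pow hl).mp (orderOf_dvd_of_pow_eq_one hn)
    have hi0 : i ≠ 0 := by
      rintro rfl
      rw [pow_zero, orderOf_eq_one_iff] at hi
      exact hy1 (Subtype.ext hi)
    exact (dvd_pow_self l hi0).trans (hi ▸ hd)

/-- The elements of such a set commute. -/
theorem commute {a b : R} (ha : a ∈ S) (hb : b ∈ S) : a * b = b * a := by
  by_cases hp : p = 2
  · exact h.all_commute_of_two hp ha hb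
  · exact commute_of_odd hp h ha hb

end CfsgLib.BlockElation.IsJDiv
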