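import Cfsg.Agent.Lib.BlockElation.Points
import Cfsg.Agent.Lib.Classical.Transvection

/-!
The elementary transvections are induced by elations.
-/

set_option autoImplicit false
set_option linter.unusedSectionVars false

namespace CfsgLib.BlockElation

open MulAction
open scoped LinearAlgebra.Projectivization

variable {G X Ω : Type*} [Group G] [MulAction G X] [MulAction G Ω] [Finite G] [Finite X] [Finite Ω]

/-- A collineation fixing a point set meeting all lines, all lines through one of its points and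
one more point is the identity. -/
theorem Geo.eq_self_of_fix (d : Geo G X Ω) {σ : X → X}
    (hσ : ∀ x y z, x ≠ y → z ∈ d.line x y → σ z ∈ d.line (σ x) (σ y)) {P : Set X}
    (hP : ∀ x ∈ P, σ x = x) (hmeet : ∀ x y, x ≠ y → ∃ z ∈ d.line x y, z ∈ P) {o : X} (ho : o ∈ P)
    (hlines : ∀ Q, σ Q ∈ d.line o Q) {P₀ P₁ : X} (h0 : P₀ ∉ P) (h0fix : σ P₀ = P₀) (h1 : P₁ ∉ P)
    (h1' : P₁ ∉ d.line o P₀) (Q : X) : σ Q = Q := by
  have step : ∀ A, A ∉ P → σ A = A → ∀ Q, Q ∉ d.line o A → σ Q = Q := by
    intro A hA hAfix Q hQ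
    by_cases hQP : Q ∈ P
    · exact hP Q hQP
    have hAQ : A ≠ Q := fun h => hQ (h ▸ d.right_mem_line o A)
    obtain ⟨R, hR, hRP⟩ := hmeet A Q hAQ
    have hRA : R ≠ A := fun h => hA (h ▸ hRP)
    have hQ' : Q ∈ d.line A R := by
      rw [d.line_eq_left hAQ hR hRA]
      exact d.right_mem_line A Q
    have h2 := hσ A R Q hRA.symm hQ'
    rw [hAfix, hP R hRP, d.line_eq_left hAQ hR hRA] at h2
    by_contra hne
    have hoQ : o ≠ Q := fun h => hQP (h ▸ ho)
    have e1 : d.line Q (σ Q) = d.line A Q := d.line_eq hAQ (d.right_mem_line A Q) h2 (Ne.symm hne)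
    have e2 : d.line Q (σ Q) = d.line o Q := d.line_eq hoQ (d.right_mem_line o Q) (hlines Q) (Ne.symm hne)
    have hAo : A ∈ d.line o Q := by rw [← e2, e1]; exact d.left_mem_line A Q
    have hoA : A ≠ o := fun h => hA (h ▸ ho)
    exact hQ (by rw [d.line_eq_left hoQ hAo hoA]; exact d.right_mem_line o Q)
  have h1fix : σ P₁ = P₁ := step P₀ h0 h0fix P₁ h1'
  by_cases hQ0 : Q ∈ d.line o P₀
  · by_cases hQP : Q ∈ P
    · exact hP Q hQP
    refine step P₁ h1 h1fix Q fun hQ1 => h1' ?_
    have hQo : Q ≠ o := fun h => hQP (h ▸ ho)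
    have ho0 : o ≠ P₀ := fun h => h0 (h ▸ ho)
    have ho1 : o ≠ P₁ := fun h => h1 (h ▸ ho)
    rw [← d.line_eq_left ho0 hQ0 hQo, d.line_eq_left ho1 hQ1 hQo]
    exact d.right_mem_line o P₁
  · exact step P₀ h0 h0fix Q hQ0

namespace Frame.Coord

variable {d : Geo G X Ω} {fr : Frame d} (c : fr.Coord)

/-- The special linear group in the coordinates. -/
abbrev SL := Matrix.SpecialLinearGroup (Fin (fr.M + 1)) c.F

/-- The projective special linear group in the coordinates. -/
abbrev PSL := Matrix.ProjectiveSpecialLinearGroup (Fin (fr.M + 1)) c.F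

/-- The points as points of projective space. -/
noncomputable def projEquiv : X ≃ ℙ c.F c.Vec := Equiv.ofBijective c.toProj c.toProj_bijective

/-- The action of the projective special linear group on the points. -/
noncomputable def phi : c.PSL →* Equiv.Perm X :=
  c.projEquiv.symm.permCongrHom.toMonoidHom.comp (MulAction.toPermHom c.PSL (ℙ c.F c.Vec))

theorem phi_injective : Function.Injective c.phi :=
  c.projEquiv.symm.permCongrHom.injective.comp MulAction.toPerm_injective

/-- The action of a matrix on the points. -/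
noncomputable def act (L : c.SL) : Equiv.Perm X := c.phi (QuotientGroup.mk L)

theorem proj_act (L : c.SL) (x : X) : c.toProj (c.act L x) = L • c.toProj x :=
  c.projEquiv.apply_symm_apply (L • c.toProj x)

theorem vec_act (L : c.SL) (x : X) : ∃ a : c.F, a • (L • c.vec x) = c.vec (c.act L x) := by
  have h := c.proj_act L x
  rw [toProj, toProj, Projectivization.smul_mk, Projectivization.mk_eq_mk_iff'] at h
  exact h

theorem act_eq {L : c.SL} {x y : X} {a : c.F} (h : L • c.vec x = a • c.vec y) : c.act L x = y := by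
  obtain ⟨b, hb⟩ := c.vec_act L x
  exact c.eq_of_vec (a := b * a) (by rw [← hb, h, smul_smul])

theorem act_line (L : c.SL) {x y z : X} (hxy : x ≠ y) (hz : z ∈ d.line x y) :
    c.act L z ∈ d.line (c.act L x) (c.act L y) := by
  obtain ⟨a, b, h⟩ := (c.mem_line_iff hxy).mp hz
  refine (c.mem_line_iff fun e => hxy ((c.act L).injective e)).mpr ?_
  obtain ⟨p, hp⟩ := c.vec_act L x
  obtain ⟨q, hq⟩ := c.vec_act L y
  obtain ⟨r, hr⟩ := c.vec_act L z
  have hp0 : p ≠ 0 := fun h0 => c.vec_ne_zero _ (by rw [← hp, h0, zero_smul])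
  have hq0 : q ≠ 0 := fun h0 => c.vec_ne_zero _ (by rw [← hq, h0, zero_smul])
  refine ⟨r * a * p⁻¹, r * b * q⁻¹, ?_⟩
  rw [← hr, ← hp, ← hq, h, smul_add, smul_comm L a, smul_comm L b, smul_add, smul_smul, smul_smul,
    smul_smul, smul_smul, inv_mul_cancel_right₀ hp0, inv_mul_cancel_right₀ hq0]

theorem transvection_smul {a b : Fin (fr.M + 1)} (h : a ≠ b) (κ : c.F) (v : c.Vec) :
    Matrix.SpecialLinearGroup.transvection h κ • v = Function.update v a (v a + κ * v b) := by
  funext k
  rw [CfsgLib.Classical.transvection_smul_apply]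
  rcases eq_or_ne k a with rfl | hk
  · rw [if_pos rfl, Function.update_self]
  · rw [if_neg hk, add_zero, Function.update_of_ne hk]

theorem update_pair (v : Fin fr.M → c.F) (z : c.F) (i : Fin fr.M) (r : c.F) :
    Function.update (c.pair v z) i.castSucc r = c.pair (Function.update v i r) z := by
  simp [pair, Fin.snoc_update]

theorem exists_translation_act (i : Fin fr.M) (κ : c.F) :
    ∃ g : G, (∃ x, g ∈ d.El x) ∧ MulAction.toPerm g =
      c.act (Matrix.SpecialLinearGroup.transvection (Fin.castSucc_lt_last i).ne κ) := by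
  classical
  set v := c.e.symm (Pi.single i κ) with hv
  obtain ⟨y, hy, hgy⟩ := (Additive.toMul v).2
  refine ⟨(Additive.toMul v).1, ⟨y, (d.mem_hypEl.mp hgy).1⟩, Equiv.ext fun x => (c.act_eq (a := 1) ?_).symm⟩
  rw [one_smul, transvection_smul, MulAction.toPerm_apply]
  by_cases hx : x ∈ fr.H
  · rw [d.hypGroup_fix fr.hH (Additive.toMul v).2 hx]
    conv_rhs => rw [← Function.update_eq_self i.castSucc (c.vec x)]
    rw [c.vec_on hx, pair_last, mul_zero, add_zero]
  · have hgx : (Additive.toMul v).1 • x = (Additive.toMul (v + fr.rep x)).1 • fr.o := by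
      show _ = ((Additive.toMul v).1 * (Additive.toMul (fr.rep x)).1) • fr.o
      rw [mul_smul, fr.rep_off hx]
    rw [hgx, c.vec_off fr.smul_off, fr.rep_smul, c.vec_off hx, pair_last, mul_one, pair_castSucc,
      update_pair, map_add, hv, c.e.apply_symm_apply]
    congr 1
    funext l
    rcases eq_or_ne l i with rfl | hl
    · simp [add_comm]
    · simp [hl]

theorem exists_frame_act {i j : Fin fr.M} (hij : i ≠ j) (κ : c.F) :
    ∃ g : G, (∃ x, g ∈ d.El x) ∧ MulAction.toPerm g =
      c.act (Matrix.SpecialLinearGroup.transvection ((Fin.castSucc_injective _).ne hij) κ) := by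
  classical
  obtain ⟨g, hg⟩ := c.trans i j hij κ
  refine ⟨g.1.1, ⟨fr.f i, g.1.2.1⟩, Equiv.ext fun x => ?_⟩
  rw [MulAction.toPerm_apply]
  by_cases hx : x ∈ fr.H
  · have hgx : g.1.1 • x ∈ fr.H := d.el_smul_hyp fr.hH (fr.f_mem i) g.1.2.1 hx
    obtain ⟨a, ha⟩ := c.vec_comp hgx (fr.psi_comp g.1 (fr.rep_on hx).1)
    refine (c.act_eq (a := a) ?_).symm
    rw [transvection_smul, c.vec_on hx, pair_castSucc, pair_castSucc, update_pair, ← hg, ha]
  · refine (c.act_eq (a := 1) ?_).symm
    have hgx : g.1.1 • x = (Additive.toMul (fr.psi g.1 (fr.rep x))).1 • fr.o := by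
      rw [fr.psi_smul, fr.rep_off hx]
    rw [one_smul, transvection_smul, hgx, c.vec_off fr.smul_off, fr.rep_smul, c.vec_off hx,
      pair_castSucc, pair_castSucc, update_pair, ← hg]

theorem vec_o : c.vec fr.o = Pi.single (Fin.last fr.M) 1 := by
  classical
  have h : fr.rep fr.o = 0 := fr.translation_inj (by
    rw [fr.rep_off fr.ho]
    exact (one_smul G fr.o).symm)
  rw [c.vec_off fr.ho, h, map_zero]
  funext k
  refine Fin.lastCases ?_ (fun l => ?_) k <;> simp

theorem vec_f (i : Fin fr.M) : ∃ a : c.F, c.vec (fr.f i) = Pi.single i.castSucc a := by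
  classical
  refine ⟨c.e (fr.rep (fr.f i)) i, ?_⟩
  have h := (c.C_iff i _).mp (fr.rep_on (fr.f_mem i)).1
  rw [c.vec_on (fr.f_mem i)]
  funext k
  refine Fin.lastCases ?_ (fun l => ?_) k
  · simp
  · rcases eq_or_ne l i with rfl | hl
    · simp
    · simp [hl, h l hl]

/-- The coordinate hyperplane of a frame point. -/
def plane (j : Fin fr.M) : Set X := {x | c.vec x j.castSucc = 0}

theorem fixed_plane {j : Fin fr.M} {e : G} (he : e ∈ d.El fr.o) (h1 : e ≠ 1)
    (hfix : ∀ l, l ≠ j → e • fr.f l = fr.f l) : ∀ x ∈ c.plane j, e • x = x := by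
  classical
  suffices ∀ n : ℕ, ∀ x ∈ c.plane j, {k | c.vec x k ≠ 0}.ncard ≤ n → e • x = x from
    fun x hx => this _ x hx le_rfl
  intro n
  induction n with
  | zero =>
    intro x _ hn
    refine absurd (funext fun k => ?_) (c.vec_ne_zero x)
    by_contra hk
    have h0 : {k | c.vec x k ≠ 0} = ∅ := (Set.ncard_eq_zero (Set.toFinite _)).mp (by omega)
    exact (Set.eq_empty_iff_forall_notMem.mp h0 k) hk
  | succ n ih =>
    intro x hx hn
    obtain ⟨m, hm⟩ := Function.ne_iff.mp (c.vec_ne_zero x)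
    obtain ⟨p, b, hp, hpe, hpp⟩ : ∃ (p : X) (b : c.F), c.vec p = Pi.single m b ∧ e • p = p ∧ b ≠ 0 := by
      have key : ∃ (p : X) (b : c.F), c.vec p = Pi.single m b ∧ e • p = p := by
        revert hm
        refine Fin.lastCases (fun _ => ⟨fr.o, 1, c.vec_o, d.el_stab _ e he⟩) (fun l hm => ?_) m
        obtain ⟨a, ha⟩ := c.vec_f l
        exact ⟨fr.f l, a, ha, hfix l fun h => hm (h ▸ hx)⟩
      obtain ⟨p, b, hp, hpe⟩ := key
      exact ⟨p, b, hp, hpe, fun hb => c.vec_ne_zero p (by rw [hp, hb, Pi.single_zero])⟩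
    set w := c.vec x - (c.vec x m / b) • c.vec p with hw
    by_cases hw0 : w = 0
    · rw [c.eq_of_vec (sub_eq_zero.mp hw0)]
      exact hpe
    obtain ⟨z, a, hz⟩ := c.exists_vec hw0
    have ha0 : a ≠ 0 := fun h => hw0 (by rw [hz, h, zero_smul])
    have hwm : w m = 0 := by
      simp [hw, hp, div_mul_cancel₀ _ hpp]
    have hwk : ∀ k, k ≠ m → w k = c.vec x k := fun k hk => by simp [hw, hp, hk]
    have hzk : ∀ k, c.vec z k = 0 ↔ w k = 0 := fun k => by
      rw [hz, Pi.smul_apply, smul_eq_mul, mul_eq_zero, or_iff_right ha0]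
    have hmj : j.castSucc ≠ m := fun h => hm (h ▸ hx)
    have hzP : z ∈ c.plane j := (hzk _).mpr (by rw [hwk _ hmj]; exact hx)
    have hlt : {k | c.vec z k ≠ 0}.ncard < {k | c.vec x k ≠ 0}.ncard := by
      refine Set.ncard_lt_ncard ⟨fun k hk => ?_, fun h => h hm ((hzk m).mpr hwm)⟩ (Set.toFinite _)
      have hkm : k ≠ m := fun e' => hk ((hzk k).mpr (e' ▸ hwm))
      intro hxk
      exact hk ((hzk k).mpr (by rw [hwk k hkm]; exact hxk))
    have hzp : z ≠ p := fun h => hpp (by
      have := (hzk m).mpr hwm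
      rwa [h, hp, Pi.single_eq_same] at this)
    refine d.fixed_line he h1 hzp (ih z hzP (by omega)) hpe ((c.mem_line_iff hzp).mpr ⟨a, c.vec x m / b, ?_⟩)
    rw [← hz, hw, sub_add_cancel]

theorem meet_plane (j : Fin fr.M) {x y : X} (hxy : x ≠ y) : ∃ z ∈ d.line x y, z ∈ c.plane j := by
  by_cases hx : c.vec x j.castSucc = 0
  · exact ⟨x, d.left_mem_line x y, hx⟩
  set w := c.vec y j.castSucc • c.vec x - c.vec x j.castSucc • c.vec y with hw
  have hw0 : w ≠ 0 := fun h => by
    have h2 := sub_eq_zero.mp h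
    refine hxy (c.eq_of_vec (a := c.vec y j.castSucc / c.vec x j.castSucc) ?_).symm
    rw [div_eq_inv_mul, ← smul_smul, h2, smul_smul, inv_mul_cancel₀ hx, one_smul]
  obtain ⟨z, a, hz⟩ := c.exists_vec hw0
  have ha : a ≠ 0 := fun h => hw0 (by rw [hz, h, zero_smul])
  refine ⟨z, (c.mem_line_iff hxy).mpr ⟨a⁻¹ * c.vec y j.castSucc, -(a⁻¹ * c.vec x j.castSucc), ?_⟩, ?_⟩
  · rw [← smul_smul, neg_smul, ← smul_smul, ← sub_eq_add_neg, ← smul_sub, ← hw, hz, smul_smul,
      inv_mul_cancel₀ ha, one_smul]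
  · have : w j.castSucc = 0 := by simp [hw, mul_comm]
    rw [hz, Pi.smul_apply, smul_eq_mul, mul_eq_zero] at this
    exact this.resolve_left ha

/-- The elations at the origin fixing the frame points other than `f j`. -/
def S₀ (_ : fr.Coord) (j : Fin fr.M) : Subgroup G :=
  d.El fr.o ⊓ fixingSubgroup G (fr.f '' {l | l ≠ j})

theorem mem_S₀ {j : Fin fr.M} {e : G} :
    e ∈ c.S₀ j ↔ e ∈ d.El fr.o ∧ ∀ l, l ≠ j → e • fr.f l = fr.f l := by
  simp [S₀, mem_fixingSubgroup_iff]

theorem le_card_S₀ (j : Fin fr.M) : d.t ≤ Nat.card (c.S₀ j) := by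
  classical
  set Y := (Finset.univ.erase j).image fr.f with hY
  have hYc : Y.card ≤ fr.M - 1 := by
    refine Finset.card_image_le.trans ?_
    rw [Finset.card_erase_of_mem (Finset.mem_univ j), Finset.card_univ, Fintype.card_fin]
  have h := d.card_el_fixing fr.hH fr.o Y
  have heq : (d.El fr.o ⊓ fixingSubgroup G (Y : Set X) : Subgroup G) = c.S₀ j := by
    rw [S₀, hY, Finset.coe_image, Finset.coe_erase, Finset.coe_univ, show
      (Set.univ : Set (Fin fr.M)) \ {j} = {l | l ≠ j} from Set.ext fun l => by simp]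
  rw [heq, d.s_eq_card fr.hH, fr.card_W] at h
  have ht := d.two_le_t
  have h2 : d.t * d.t ^ Y.card ≤ Nat.card (c.S₀ j) * d.t ^ Y.card := by
    refine le_trans ?_ h
    rw [← pow_succ']
    exact Nat.pow_le_pow_right (by omega) (by have := fr.two_le_M; omega)
  exact Nat.le_of_mul_le_mul_right h2 (pow_pos (by omega) _)

variable [FaithfulSMul G X]

theorem S₀_act {j : Fin fr.M} {e₀ : G} (he₀ : e₀ ∈ c.S₀ j) :
    ∃ κ : c.F, MulAction.toPerm e₀ =
      c.act (Matrix.SpecialLinearGroup.transvection (Fin.castSucc_lt_last j).ne' κ) := by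
  classical
  have hM := fr.two_le_M
  obtain ⟨i, hij⟩ : ∃ i, i ≠ j := by
    haveI : Nontrivial (Fin fr.M) := Fin.nontrivial_iff_two_le.mpr hM
    exact exists_ne j
  obtain ⟨a, ha⟩ := c.vec_f j
  have ha0 : a ≠ 0 := fun h => c.vec_ne_zero (fr.f j) (by rw [ha, h, Pi.single_zero])
  have hjP : fr.f j ∉ c.plane j := fun h => ha0 (by
    have h' : c.vec (fr.f j) j.castSucc = 0 := h
    rwa [ha, Pi.single_eq_same] at h')
  have hof : fr.o ≠ fr.f j := fun h => fr.ho (h ▸ fr.f_mem j)
  have hoP : fr.o ∈ c.plane j := by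
    show c.vec fr.o j.castSucc = 0
    rw [c.vec_o, Pi.single_eq_of_ne (Fin.castSucc_lt_last j).ne]
  obtain ⟨P₁, b, hb⟩ := c.exists_vec (w := Pi.single j.castSucc 1 + Pi.single i.castSucc 1) (fun h => by
    simpa [(Fin.castSucc_injective _).ne hij] using congrFun h i.castSucc)
  have hb0 : b ≠ 0 := fun h => by
    simpa [h, (Fin.castSucc_injective _).ne hij] using congrFun hb i.castSucc
  have hb' : ∀ k, b * c.vec P₁ k = (Pi.single j.castSucc 1 + Pi.single i.castSucc 1 : c.Vec) k :=
    fun k => (congrFun hb k).symm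
  have h1P : P₁ ∉ c.plane j := fun h => by
    have := hb' j.castSucc
    rw [show c.vec P₁ j.castSucc = 0 from h] at this
    simp [((Fin.castSucc_injective _).ne hij).symm] at this
  have h1l : P₁ ∉ d.line fr.o (fr.f j) := fun h => by
    obtain ⟨p, q, hpq⟩ := (c.mem_line_iff hof).mp h
    have := hb' i.castSucc
    rw [hpq, c.vec_o, ha] at this
    simp [(Fin.castSucc_injective _).ne hij, (Fin.castSucc_lt_last i).ne] at this
  have hclass : ∀ e ∈ c.S₀ j, ∃ κ, MulAction.toPerm e =
      c.act (Matrix.SpecialLinearGroup.transvection (Fin.castSucc_lt_last j).ne' κ) := by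
    intro e he
    obtain ⟨heE, hefix⟩ := c.mem_S₀.mp he
    obtain ⟨p, q, hpq⟩ := (c.mem_line_iff hof).mp (d.smul_el_mem_line heE (fr.f j))
    rw [c.vec_o, ha] at hpq
    have hq : q ≠ 0 := fun h => hof (by
      rw [h, zero_smul, add_zero, ← c.vec_o] at hpq
      have := c.eq_of_vec hpq
      rw [← d.el_stab fr.o e heE] at this
      exact (MulAction.injective e this).symm)
    refine ⟨p / (q * a), ?_⟩
    set t := Matrix.SpecialLinearGroup.transvection (Fin.castSucc_lt_last j).ne' (p / (q * a)) with ht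
    have hline : ∀ x y z, x ≠ y → z ∈ d.line x y →
        (c.act t⁻¹) (e • z) ∈ d.line ((c.act t⁻¹) (e • x)) ((c.act t⁻¹) (e • y)) := fun x y z hxy hz =>
      c.act_line _ (fun h => hxy (MulAction.injective e h)) (d.smul_mem_line e hz)
    have htinv : ∀ v : c.Vec, t⁻¹ • v = v - (p / (q * a) * v j.castSucc) • c.vec fr.o := fun v => by
      rw [ht, Matrix.SpecialLinearGroup.transvection_inv, transvection_smul, c.vec_o]
      funext k
      rcases eq_or_ne k (Fin.last fr.M) with rfl | hk
      · simp [Function.update_self]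
        ring
      · simp [Function.update_of_ne hk, hk]
    have hfixP : ∀ x ∈ c.plane j, (c.act t⁻¹) (e • x) = x := fun x hx => by
      have hex : e • x = x := by
        by_cases h1 : e = 1
        · rw [h1, one_smul]
        · exact c.fixed_plane heE h1 hefix x hx
      rw [hex]
      refine c.act_eq (a := 1) ?_
      rw [htinv, show c.vec x j.castSucc = 0 from hx, mul_zero, zero_smul, sub_zero, one_smul]
    have hlines : ∀ Q, (c.act t⁻¹) (e • Q) ∈ d.line fr.o Q := fun Q => by
      rcases eq_or_ne fr.o Q with rfl | hQ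
      · rw [hfixP _ hoP]
        exact d.left_mem_line _ _
      obtain ⟨u, v, huv⟩ := (c.mem_line_iff hQ).mp (d.smul_el_mem_line heE Q)
      obtain ⟨r, hr⟩ := c.vec_act t⁻¹ (e • Q)
      refine (c.mem_line_iff hQ).mpr
        ⟨r * (u - p / (q * a) * c.vec (e • Q) j.castSucc), r * v, ?_⟩
      rw [← hr, htinv, huv, sub_eq_add_neg, ← neg_smul, mul_sub, sub_smul]
      module
    have hfixf : (c.act t⁻¹) (e • fr.f j) = fr.f j := by
      refine c.act_eq (a := q) ?_
      rw [htinv, hpq, ha, c.vec_o]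
      funext k
      rcases eq_or_ne k (Fin.last fr.M) with rfl | hk
      · simp [(Fin.castSucc_lt_last j).ne, (Fin.castSucc_lt_last j).ne']
        field_simp
        ring
      · simp [hk, (Fin.castSucc_lt_last j).ne]
    refine Equiv.ext fun Q => ?_
    have := d.eq_self_of_fix hline hfixP (fun x y h => c.meet_plane j h) hoP hlines hjP hfixf h1P h1l Q
    rw [MulAction.toPerm_apply]
    rwa [act, QuotientGroup.mk_inv, map_inv, Equiv.Perm.inv_eq_iff_eq] at this
  exact hclass e₀ he₀

theorem exists_origin_act (j : Fin fr.M) (κ : c.F) :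
    ∃ g : G, g ∈ c.S₀ j ∧ MulAction.toPerm g =
      c.act (Matrix.SpecialLinearGroup.transvection (Fin.castSucc_lt_last j).ne' κ) := by
  let m : c.S₀ j → c.F := fun e => (c.S₀_act e.2).choose
  have hm : Function.Bijective m := by
    refine Function.Injective.bijective_of_nat_card_le (fun e e' h => Subtype.ext ?_) ?_
    · have h1 := (c.S₀_act e.2).choose_spec
      have h2 := (c.S₀_act e'.2).choose_spec
      rw [show (c.S₀_act e.2).choose = (c.S₀_act e'.2).choose from h, ← h2] at h1
      exact MulAction.toPerm_injective h1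
    · rw [c.card]
      exact c.le_card_S₀ j
  obtain ⟨e, he⟩ := hm.2 κ
  exact ⟨e.1, e.2, he ▸ (c.S₀_act e.2).choose_spec⟩

theorem exists_act_transvection {a b : Fin (fr.M + 1)} (hab : a ≠ b) (κ : c.F) :
    ∃ g : G, (∃ x, g ∈ d.El x) ∧
      MulAction.toPerm g = c.act (Matrix.SpecialLinearGroup.transvection hab κ) := by
  revert hab
  refine Fin.lastCases ?_ (fun i => ?_) a
  · refine Fin.lastCases (fun h => absurd rfl h) (fun j _ => ?_) b
    obtain ⟨g, hg, h⟩ := c.exists_origin_act j κ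
    exact ⟨g, ⟨fr.o, (c.mem_S₀.mp hg).1⟩, h⟩
  · refine Fin.lastCases (fun _ => c.exists_translation_act i κ) (fun j hij => ?_) b
    exact c.exists_frame_act (fun h => hij (congrArg Fin.castSucc h)) κ

end Frame.Coord

end CfsgLib.BlockElation
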