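import Cfsg.Agent.Lib.BlockElation.Coords

/-!
The points of the design as the points of a projective space, with lines going to lines.
-/

set_option autoImplicit false
set_option linter.unusedSectionVars false

namespace CfsgLib.BlockElation.Frame

open MulAction

variable {G X Ω : Type*} [Group G] [MulAction G X] [MulAction G Ω] [Finite G] [Finite X] [Finite Ω]
  {d : Geo G X Ω} (fr : Frame d)

/-- The translation attached to a point. -/
noncomputable def rep (x : X) : fr.W := by
  classical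
  exact if h : x ∈ fr.H then (d.exists_ne_zero fr.hH h).choose
    else Additive.ofMul ⟨(d.exists_translation fr.hH fr.ho h).choose,
      (d.exists_translation fr.hH fr.ho h).choose_spec.1⟩

theorem rep_on {y : X} (hy : y ∈ fr.H) : fr.rep y ∈ d.comp fr.hH y ∧ fr.rep y ≠ 0 := by
  rw [rep, dif_pos hy]
  exact (d.exists_ne_zero fr.hH hy).choose_spec

theorem rep_off {x : X} (hx : x ∉ fr.H) : (Additive.toMul (fr.rep x)).1 • fr.o = x := by
  rw [rep, dif_neg hx]
  exact (d.exists_translation fr.hH fr.ho hx).choose_spec.2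

theorem translation_inj {v w : fr.W} (h : (Additive.toMul v).1 • fr.o = (Additive.toMul w).1 • fr.o) :
    v = w := by
  have h2 := d.hypGroup_semi fr.hH (mul_mem (inv_mem (Additive.toMul v).2) (Additive.toMul w).2) fr.ho
    (by rw [mul_smul, ← h, inv_smul_smul])
  exact Additive.toMul.injective (Subtype.ext (inv_mul_eq_one.mp h2))

theorem rep_smul (v : fr.W) : fr.rep ((Additive.toMul v).1 • fr.o) = v :=
  fr.translation_inj (fr.rep_off fr.smul_off)

end CfsgLib.BlockElation.Frame

namespace CfsgLib.BlockElation.Frame.Coord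

open MulAction
open scoped LinearAlgebra.Projectivization

variable {G X Ω : Type*} [Group G] [MulAction G X] [MulAction G Ω] [Finite G] [Finite X] [Finite Ω]
  {d : Geo G X Ω} {fr : Frame d} (c : fr.Coord)

/-- The coordinate vectors. -/
abbrev Vec := Fin (fr.M + 1) → c.F

/-- A vector with prescribed last coordinate. -/
def pair (v : Fin fr.M → c.F) (z : c.F) : c.Vec := Fin.snoc (α := fun _ => c.F) v z

@[simp] theorem pair_last (v : Fin fr.M → c.F) (z : c.F) : c.pair v z (Fin.last _) = z := by simp [pair]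

@[simp] theorem pair_castSucc (v : Fin fr.M → c.F) (z : c.F) (i : Fin fr.M) :
    c.pair v z i.castSucc = v i := by simp [pair]

theorem smul_pair (a : c.F) (v : Fin fr.M → c.F) (z : c.F) : a • c.pair v z = c.pair (a • v) (a * z) := by
  funext i
  refine Fin.lastCases ?_ (fun j => ?_) i <;> simp

theorem pair_add (v v' : Fin fr.M → c.F) (z z' : c.F) :
    c.pair v z + c.pair v' z' = c.pair (v + v') (z + z') := by
  funext i
  refine Fin.lastCases ?_ (fun j => ?_) i <;> simp

theorem pair_inj {v v' : Fin fr.M → c.F} {z z' : c.F} (h : c.pair v z = c.pair v' z') : v = v' ∧ z = z' :=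
  ⟨funext fun i => by simpa using congrFun h i.castSucc, by simpa using congrFun h (Fin.last _)⟩

/-- The coordinate vector of a point. -/
noncomputable def vec (x : X) : c.Vec := by
  classical
  exact c.pair (c.e (fr.rep x)) (if x ∈ fr.H then 0 else 1)

theorem vec_on {y : X} (hy : y ∈ fr.H) : c.vec y = c.pair (c.e (fr.rep y)) 0 := by rw [vec, if_pos hy]

theorem vec_off {x : X} (hx : x ∉ fr.H) : c.vec x = c.pair (c.e (fr.rep x)) 1 := by rw [vec, if_neg hx]

theorem vec_ne_zero (x : X) : c.vec x ≠ 0 := by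
  intro h
  by_cases hx : x ∈ fr.H
  · have h1 : c.pair (c.e (fr.rep x)) 0 = c.pair 0 0 := by
      rw [← c.vec_on hx, h]
      funext i
      refine Fin.lastCases ?_ (fun j => ?_) i <;> simp
    exact (fr.rep_on hx).2 (c.e.injective (by rw [(c.pair_inj h1).1, map_zero]))
  · have := congrFun h (Fin.last _)
    rw [c.vec_off hx, pair_last] at this
    exact one_ne_zero this

theorem on_of_last {x : X} (h : c.vec x (Fin.last _) = 0) : x ∈ fr.H := by
  by_contra hx
  rw [c.vec_off hx, pair_last] at h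
  exact one_ne_zero h

theorem vec_comp {y : X} (hy : y ∈ fr.H) {v : fr.W} (hv : v ∈ d.comp fr.hH y) :
    ∃ a : c.F, c.pair (c.e v) 0 = a • c.vec y := by
  obtain ⟨a, ha⟩ := (c.comp_iff y hy _ (fr.rep_on hy).1 (fr.rep_on hy).2 v).mp hv
  exact ⟨a, by rw [c.vec_on hy, smul_pair, mul_zero, ha]⟩

theorem eq_of_vec {x y : X} {a : c.F} (h : c.vec x = a • c.vec y) : x = y := by
  by_cases hx : x ∈ fr.H
  · rw [c.vec_on hx] at h
    by_cases hy : y ∈ fr.H
    · rw [c.vec_on hy, smul_pair, mul_zero] at h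
      exact d.comp_eq fr.hH (fr.rep_on hx).2 (fr.rep_on hx).1
        ((c.comp_iff y hy _ (fr.rep_on hy).1 (fr.rep_on hy).2 _).mpr ⟨a, (c.pair_inj h).1⟩)
    · rw [c.vec_off hy, smul_pair, mul_one] at h
      obtain ⟨h1, h2⟩ := c.pair_inj h
      rw [← h2, zero_smul] at h1
      exact absurd (c.e.injective (h1.trans (map_zero c.e).symm)) (fr.rep_on hx).2
  · rw [c.vec_off hx] at h
    by_cases hy : y ∈ fr.H
    · rw [c.vec_on hy, smul_pair, mul_zero] at h
      exact absurd (c.pair_inj h).2 one_ne_zero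
    · rw [c.vec_off hy, smul_pair, mul_one] at h
      obtain ⟨h1, h2⟩ := c.pair_inj h
      rw [← h2, one_smul] at h1
      rw [← fr.rep_off hx, ← fr.rep_off hy, c.e.injective h1]

theorem exists_vec {w : c.Vec} (hw : w ≠ 0) : ∃ (x : X) (a : c.F), w = a • c.vec x := by
  have hw' : w = c.pair (fun i => w i.castSucc) (w (Fin.last _)) := by
    funext i
    refine Fin.lastCases ?_ (fun j => ?_) i <;> simp
  by_cases h : w (Fin.last _) = 0
  · set v := c.e.symm (fun i => w i.castSucc)
    have hv : c.e v = fun i => w i.castSucc := c.e.apply_symm_apply _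
    obtain ⟨y, hy, hvy⟩ := d.exists_comp fr.hH v
    obtain ⟨a, ha⟩ := c.vec_comp hy hvy
    exact ⟨y, a, by rw [← ha, hv, ← h]; exact hw'⟩
  · set v := c.e.symm ((w (Fin.last _))⁻¹ • fun i => w i.castSucc)
    refine ⟨(Additive.toMul v).1 • fr.o, w (Fin.last _), ?_⟩
    rw [c.vec_off fr.smul_off, fr.rep_smul, smul_pair, mul_one, c.e.apply_symm_apply, smul_smul,
      mul_inv_cancel₀ h, one_smul]
    exact hw'

/-- The point of projective space of a point. -/
noncomputable def toProj (x : X) : ℙ c.F c.Vec := Projectivization.mk c.F (c.vec x) (c.vec_ne_zero x)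

theorem toProj_bijective : Function.Bijective c.toProj := by
  refine ⟨fun x y h => ?_, fun p => ?_⟩
  · obtain ⟨a, ha⟩ := (Projectivization.mk_eq_mk_iff' c.F _ _ _ _).mp h
    exact c.eq_of_vec ha.symm
  · induction p using Projectivization.ind with
    | h w hw =>
      obtain ⟨x, a, ha⟩ := c.exists_vec hw
      exact ⟨x, ((Projectivization.mk_eq_mk_iff' c.F _ _ hw (c.vec_ne_zero x)).mpr ⟨a, ha.symm⟩).symm⟩

theorem mem_line_on {x y z : X} (hx : x ∈ fr.H) (hy : y ∈ fr.H) (hxy : x ≠ y) :
    z ∈ d.line x y ↔ ∃ a b : c.F, c.vec z = a • c.vec x + b • c.vec y := by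
  constructor
  · intro hz
    have hzH := d.hyp_line fr.hH hx hy hxy hz
    obtain ⟨p, hp, q, hq, hpq⟩ := AddSubgroup.mem_sup.mp
      (d.comp_le_sup fr.hH hx hy hxy hz (fr.rep_on hzH).1)
    obtain ⟨a, ha⟩ := c.vec_comp hx hp
    obtain ⟨b, hb⟩ := c.vec_comp hy hq
    exact ⟨a, b, by rw [← ha, ← hb, pair_add, add_zero, ← map_add, hpq, c.vec_on hzH]⟩
  · rintro ⟨a, b, h⟩
    have hzH : z ∈ fr.H := c.on_of_last (by
      rw [h, c.vec_on hx, c.vec_on hy]
      simp)
    by_cases ha : a = 0
    · rw [ha, zero_smul, zero_add] at h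
      rw [c.eq_of_vec h]
      exact d.right_mem_line x y
    by_cases hb : b = 0
    · rw [hb, zero_smul, add_zero] at h
      rw [c.eq_of_vec h]
      exact d.left_mem_line x y
    rw [c.vec_on hx, c.vec_on hy, c.vec_on hzH, smul_pair, smul_pair, pair_add] at h
    have h1 := (c.pair_inj h).1
    set p := c.e.symm (a • c.e (fr.rep x)) with hp
    set q := c.e.symm (b • c.e (fr.rep y)) with hq
    have hrep : fr.rep z = p + q := by
      rw [hp, hq, ← map_add, ← h1, c.e.symm_apply_apply]
    have hpx : p ∈ d.comp fr.hH x := (c.comp_iff x hx _ (fr.rep_on hx).1 (fr.rep_on hx).2 p).mpr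
      ⟨a, c.e.apply_symm_apply _⟩
    have hqy : q ∈ d.comp fr.hH y := (c.comp_iff y hy _ (fr.rep_on hy).1 (fr.rep_on hy).2 q).mpr
      ⟨b, c.e.apply_symm_apply _⟩
    have hp0 : p ≠ 0 := fun h0 => by
      have := c.e.apply_symm_apply (a • c.e (fr.rep x))
      rw [← hp, h0, map_zero, eq_comm, smul_eq_zero] at this
      exact (fr.rep_on hx).2 (c.e.injective ((this.resolve_left ha).trans (map_zero c.e).symm))
    have hq0 : q ≠ 0 := fun h0 => by
      have := c.e.apply_symm_apply (b • c.e (fr.rep y))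
      rw [← hq, h0, map_zero, eq_comm, smul_eq_zero] at this
      exact (fr.rep_on hy).2 (c.e.injective ((this.resolve_left hb).trans (map_zero c.e).symm))
    exact d.comp_of_add fr.hH hx hy hxy hpx hp0 hqy hq0 (hrep ▸ (fr.rep_on hzH).1)

theorem mem_line_off {x y z : X} (hx : x ∉ fr.H) (hy : y ∈ fr.H) :
    z ∈ d.line x y ↔ ∃ a b : c.F, c.vec z = a • c.vec x + b • c.vec y := by
  constructor
  · intro hz
    rcases eq_or_ne z y with rfl | hzy
    · exact ⟨0, 1, by rw [zero_smul, zero_add, one_smul]⟩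
    rw [d.line_comm] at hz
    obtain ⟨g, hg, rfl⟩ := d.line_off fr.hH hy hx hz hzy
    let p : fr.W := Additive.ofMul ⟨g, y, hy, hg⟩
    obtain ⟨b, hb⟩ := c.vec_comp hy (show p ∈ d.comp fr.hH y from hg)
    have hgx : g • x = (Additive.toMul (p + fr.rep x)).1 • fr.o := by
      show g • x = (g * (Additive.toMul (fr.rep x)).1) • fr.o
      rw [mul_smul, fr.rep_off hx]
    refine ⟨1, b, ?_⟩
    rw [one_smul, ← hb, hgx, c.vec_off fr.smul_off, fr.rep_smul, c.vec_off hx, pair_add, map_add,
      add_zero, add_comm]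
  · rintro ⟨a, b, h⟩
    by_cases ha : a = 0
    · rw [ha, zero_smul, zero_add] at h
      rw [c.eq_of_vec h]
      exact d.right_mem_line x y
    rw [c.vec_off hx, c.vec_on hy, smul_pair, smul_pair, pair_add, mul_one, mul_zero, add_zero] at h
    have hz : z ∉ fr.H := fun hz => by
      rw [c.vec_on hz] at h
      exact ha (c.pair_inj h).2.symm
    rw [c.vec_off hz] at h
    obtain ⟨h1, h2⟩ := c.pair_inj h
    rw [← h2, one_smul] at h1
    set p := c.e.symm (b • c.e (fr.rep y)) with hp
    have hpy : p ∈ d.comp fr.hH y := (c.comp_iff y hy _ (fr.rep_on hy).1 (fr.rep_on hy).2 p).mpr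
      ⟨b, c.e.apply_symm_apply _⟩
    have hrep : fr.rep z = p + fr.rep x := c.e.injective (by
      rw [h1, map_add, hp, c.e.apply_symm_apply, add_comm])
    rw [← fr.rep_off hz, hrep, d.line_comm]
    show ((Additive.toMul p).1 * (Additive.toMul (fr.rep x)).1) • fr.o ∈ d.line y x
    rw [mul_smul, fr.rep_off hx]
    exact d.smul_el_mem_line (d.mem_hypEl.mp hpy).1 x

theorem mem_line_iff {x y z : X} (hxy : x ≠ y) :
    z ∈ d.line x y ↔ ∃ a b : c.F, c.vec z = a • c.vec x + b • c.vec y := by
  by_cases hx : x ∈ fr.H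
  · by_cases hy : y ∈ fr.H
    · exact c.mem_line_on hx hy hxy
    · rw [d.line_comm, c.mem_line_off hy hx]
      exact ⟨fun ⟨a, b, h⟩ => ⟨b, a, h.trans (add_comm _ _)⟩, fun ⟨a, b, h⟩ => ⟨b, a, h.trans (add_comm _ _)⟩⟩
  by_cases hy : y ∈ fr.H
  · exact c.mem_line_off hx hy
  obtain ⟨w, hw, hwH⟩ := d.line_meets_hyp fr.hH hxy
  have hwx : w ≠ x := fun h => hx (h ▸ hwH)
  rw [← d.line_eq_left hxy hw hwx, c.mem_line_off hx hwH]
  have hy' : y ∈ d.line x w := by rw [d.line_eq_left hxy hw hwx]; exact d.right_mem_line x y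
  obtain ⟨a, b, h⟩ := (c.mem_line_off hx hwH).mp hy'
  have hb : b ≠ 0 := fun hb => by
    rw [hb, zero_smul, add_zero] at h
    exact hxy (c.eq_of_vec h).symm
  constructor
  · rintro ⟨p, q, hz⟩
    refine ⟨p - q * b⁻¹ * a, q * b⁻¹, ?_⟩
    rw [hz, h, smul_add, smul_smul, smul_smul, sub_smul, inv_mul_cancel_right₀ hb]
    abel
  · rintro ⟨p, q, hz⟩
    exact ⟨p + q * a, q * b, by rw [hz, h, smul_add, smul_smul, smul_smul, add_smul, add_assoc]⟩

end CfsgLib.BlockElation.Frame.Coord
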