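import Cfsg.Agent.Lib.BlockElation.Frame
import Cfsg.Agent.Lib.BlockElation.JordanTwo

/-!
The endomorphisms of the first component of a frame coming from its transvection groups all form
one and the same field.
-/

set_option autoImplicit false
set_option linter.unusedSectionVars false

namespace CfsgLib.BlockElation.Frame

open MulAction

variable {G X Ω : Type*} [Group G] [MulAction G X] [MulAction G Ω] [Finite G] [Finite X] [Finite Ω]
  {d : Geo G X Ω} (fr : Frame d)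

theorem psi_eq_add {i : Fin fr.M} (g : fr.S i) (v : fr.W) : fr.psi g v = v + fr.tau g v := by
  rw [tau_apply]
  abel

theorem tau_one {i : Fin fr.M} : fr.tau (1 : fr.S i) = 0 := by
  refine AddMonoidHom.ext fun v => ?_
  show fr.psi (1 : fr.S i) v - v = 0
  rw [sub_eq_zero]
  exact Additive.toMul.injective (Subtype.ext (by
    show (1 : G) * (Additive.toMul v).1 * (1 : G)⁻¹ = (Additive.toMul v).1
    group))

theorem C_disjoint {i j : Fin fr.M} (hij : i ≠ j) {v : fr.W} (hi : v ∈ fr.C i) (hj : v ∈ fr.C j) :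
    v = 0 := by
  by_contra hv
  exact hij (fr.frame_inj (d.comp_eq fr.hH hv hi hj))

theorem add_unique {i j : Fin fr.M} (hij : i ≠ j) {a b a' b' : fr.W} (ha : a ∈ fr.C i) (hb : b ∈ fr.C j)
    (ha' : a' ∈ fr.C i) (hb' : b' ∈ fr.C j) (h : a + b = a' + b') : a = a' ∧ b = b' := by
  have h0 : a - a' = b' - b := by
    rw [sub_eq_sub_iff_add_eq_add, h, add_comm]
  have h1 : a - a' = 0 := fr.C_disjoint hij (sub_mem ha ha') (h0 ▸ sub_mem hb' hb)
  rw [sub_eq_zero] at h1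
  subst h1
  exact ⟨rfl, add_left_cancel h⟩

/-- A component with an element off two frame components, in their sum, is a graph. -/
theorem exists_graph {i j : Fin fr.M} (hij : i ≠ j) {y : X} {a b : fr.W} (ha : a ∈ fr.C i) (ha0 : a ≠ 0)
    (hb : b ∈ fr.C j) (hab : a + b ∈ d.comp fr.hH y) :
    ∃ g : fr.T' j i, ∀ w ∈ d.comp fr.hH y, ∃ z ∈ fr.C i, w = z + fr.tau g.1 z := by
  obtain ⟨g, hg⟩ := fr.exists_tau hij.symm ha ha0 hb
  refine ⟨g, ?_⟩
  have h1 : fr.psi g.1 a ∈ d.comp fr.hH (g.1.1 • fr.f i) := fr.psi_comp g.1 ha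
  rw [fr.psi_eq_add, hg] at h1
  have hne : a + b ≠ 0 := fun h => ha0 (fr.add_unique hij ha hb (zero_mem _) (zero_mem _) (by rw [h, add_zero])).1
  have hy : y = g.1.1 • fr.f i := d.comp_eq fr.hH hne hab h1
  intro w hw
  refine ⟨fr.psi g.1⁻¹ w, ?_, ?_⟩
  · have := fr.psi_comp g.1⁻¹ hw
    rwa [hy, show ((g.1⁻¹ : fr.S j) : G) = g.1.1⁻¹ from rfl, inv_smul_smul] at this
  · rw [← fr.psi_eq_add]
    exact Additive.toMul.injective (Subtype.ext (by
      show (Additive.toMul w).1 = g.1.1 * (g.1.1⁻¹ * (Additive.toMul w).1 * g.1.1⁻¹⁻¹) * g.1.1⁻¹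
      group))

/-- The first index. -/
abbrev i₀ : Fin fr.M := ⟨0, lt_of_lt_of_le (by norm_num) fr.two_le_M⟩

/-- The first component. -/
noncomputable abbrev A := fr.C fr.i₀

instance instFiniteW : Finite fr.W := Finite.of_equiv _ Additive.ofMul

instance instFiniteEnd : Finite (AddMonoid.End fr.A) :=
  Finite.of_injective (fun σ : AddMonoid.End fr.A => (⇑σ : fr.A → fr.A)) DFunLike.coe_injective

theorem card_C (i : Fin fr.M) : Nat.card (fr.C i) = d.t := d.card_comp fr.hH (fr.f_mem i)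

/-- The map between two components induced by an element of a transvection group. -/
noncomputable def tauHom {i j : Fin fr.M} (g : fr.T' i j) : fr.C j →+ fr.C i :=
  ((fr.tau g.1 : fr.W →+ fr.W).comp (fr.C j).subtype).codRestrict (fr.C i) fun x => fr.tau_mem g.1 x.1

theorem tauHom_apply {i j : Fin fr.M} (g : fr.T' i j) (x : fr.C j) :
    (fr.tauHom g x : fr.W) = fr.tau g.1 x := rfl

theorem tauHom_bijective {i j : Fin fr.M} (g : fr.T' i j) (hg : g ≠ 1) :
    Function.Bijective (fr.tauHom g) := by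
  refine ((injective_iff_map_eq_zero _).mpr fun x hx => ?_).bijective_of_nat_card_le ?_
  · by_contra hx0
    exact hg (fr.eq_one_of_kill g x.2 (fun h => hx0 (Subtype.ext h)) (congrArg Subtype.val hx))
  · rw [fr.card_C, fr.card_C]

theorem exists_phi (i : Fin fr.M) : ∃ φ : fr.A ≃+ fr.C i, if h : i = fr.i₀ then ∀ x : fr.A, (φ x : fr.W) = x
    else ∃ g : fr.T' i fr.i₀, ∀ x : fr.A, fr.tau g.1 (x : fr.W) = φ x := by
  by_cases h : i = fr.i₀
  · subst h
    exact ⟨AddEquiv.refl _, by rw [dif_pos rfl]; exact fun x => rfl⟩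
  · obtain ⟨c, hc, hc0⟩ := d.exists_ne_zero fr.hH (fr.f_mem fr.i₀)
    obtain ⟨b, hb, hb0⟩ := d.exists_ne_zero fr.hH (fr.f_mem i)
    obtain ⟨g, hg⟩ := fr.exists_tau h hc hc0 hb
    have hg1 : g ≠ 1 := by
      rintro rfl
      exact hb0 (by rw [← hg]; exact DFunLike.congr_fun fr.tau_one c)
    refine ⟨AddEquiv.ofBijective (fr.tauHom g) (fr.tauHom_bijective g hg1), ?_⟩
    rw [dif_neg h]
    exact ⟨g, fun x => rfl⟩

/-- The identifications of the frame components with the first one. -/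
noncomputable def phi (i : Fin fr.M) : fr.A ≃+ fr.C i := (fr.exists_phi i).choose

theorem phi_zero (x : fr.A) : (fr.phi fr.i₀ x : fr.W) = x := by
  have h := (fr.exists_phi fr.i₀).choose_spec
  rw [dif_pos rfl] at h
  exact h x

theorem exists_phi_tau {i : Fin fr.M} (hi : i ≠ fr.i₀) :
    ∃ g : fr.T' i fr.i₀, ∀ x : fr.A, fr.tau g.1 (x : fr.W) = fr.phi i x := by
  have h := (fr.exists_phi i).choose_spec
  rwa [dif_neg hi] at h

theorem phi_ne_zero {i : Fin fr.M} {x : fr.A} (hx : x ≠ 0) : (fr.phi i x : fr.W) ≠ 0 :=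
  fun h => hx ((fr.phi i).injective (by rw [map_zero]; exact Subtype.ext h))

theorem phi_neg (i : Fin fr.M) (x : fr.A) : (fr.phi i (-x) : fr.W) = -(fr.phi i x : fr.W) := by
  rw [map_neg]
  rfl

/-- The endomorphisms of the first component induced by a transvection group. -/
def sig {i j : Fin fr.M} (hij : i ≠ j) : AddSubgroup (AddMonoid.End fr.A) where
  carrier := {σ | ∃ g : fr.T' i j, ∀ x : fr.A, fr.tau g.1 (fr.phi j x) = fr.phi i (σ x)}
  zero_mem' := ⟨1, fun x => by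
    show fr.tau (1 : fr.S i) _ = (fr.phi i 0 : fr.W)
    rw [fr.tau_one, map_zero]
    rfl⟩
  add_mem' := by
    rintro σ σ' ⟨g, hg⟩ ⟨g', hg'⟩
    refine ⟨g * g', fun x => ?_⟩
    rw [show (g * g').1 = g.1 * g'.1 from rfl, fr.tau_mul_T hij g g']
    show fr.tau g.1 _ + fr.tau g'.1 _ = (fr.phi i (σ x + σ' x) : fr.W)
    rw [map_add, hg, hg']
    rfl
  neg_mem' := by
    rintro σ ⟨g, hg⟩
    refine ⟨g⁻¹, fun x => ?_⟩
    show _ = (fr.phi i (-(σ x)) : fr.W)
    have h := fr.tau_mul_T hij g g⁻¹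
    rw [show g.1 * (g⁻¹ : fr.T' i j).1 = (1 : fr.S i) from mul_inv_cancel g.1, fr.tau_one] at h
    rw [fr.phi_neg, ← hg x]
    exact eq_neg_of_add_eq_zero_right (DFunLike.congr_fun h.symm _)

theorem sig_exists {i j : Fin fr.M} (hij : i ≠ j) (g : fr.T' i j) :
    ∃ σ ∈ fr.sig hij, ∀ x : fr.A, fr.tau g.1 (fr.phi j x) = fr.phi i (σ x) := by
  refine ⟨((fr.phi i).symm.toAddMonoidHom.comp ((fr.tauHom g).comp (fr.phi j).toAddMonoidHom) : fr.A →+ fr.A),
    ⟨g, fun x => ?_⟩, fun x => ?_⟩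
  all_goals
    show _ = (fr.phi i ((fr.phi i).symm (fr.tauHom g (fr.phi j x))) : fr.W)
    rw [AddEquiv.apply_symm_apply]
    rfl

theorem sig_surj {i j : Fin fr.M} (hij : i ≠ j) {x : fr.A} (hx : x ≠ 0) (b : fr.A) :
    ∃ σ ∈ fr.sig hij, σ x = b := by
  obtain ⟨g, hg⟩ := fr.exists_tau hij (fr.phi j x).2 (fr.phi_ne_zero hx) (fr.phi i b).2
  obtain ⟨σ, hσ, hσg⟩ := fr.sig_exists hij g
  exact ⟨σ, hσ, (fr.phi i).injective (Subtype.ext ((hσg x).symm.trans hg))⟩

theorem sig_zero_of {i j : Fin fr.M} {hij : i ≠ j} {σ : AddMonoid.End fr.A} (hσ : σ ∈ fr.sig hij)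
    {x : fr.A} (hx : x ≠ 0) (h : σ x = 0) : σ = 0 := by
  obtain ⟨g, hg⟩ := hσ
  have h1 : fr.tau g.1 (fr.phi j x) = 0 := by
    rw [hg x, h, map_zero]
    rfl
  have := fr.eq_one_of_kill g (fr.phi j x).2 (fr.phi_ne_zero hx) h1
  subst this
  refine AddMonoidHom.ext fun z => (fr.phi i).injective (Subtype.ext ?_)
  refine (hg z).symm.trans ?_
  show fr.tau (1 : fr.S i) _ = (fr.phi i 0 : fr.W)
  rw [fr.tau_one, map_zero]
  rfl

theorem sig_ext {i j : Fin fr.M} {hij : i ≠ j} {σ σ' : AddMonoid.End fr.A} (hσ : σ ∈ fr.sig hij)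
    (hσ' : σ' ∈ fr.sig hij) {x : fr.A} (hx : x ≠ 0) (h : σ x = σ' x) : σ = σ' :=
  sub_eq_zero.mp (fr.sig_zero_of (sub_mem hσ hσ') hx (sub_eq_zero.mpr h))

theorem sig_isUnit {i j : Fin fr.M} {hij : i ≠ j} {σ : AddMonoid.End fr.A} (hσ : σ ∈ fr.sig hij)
    (h0 : σ ≠ 0) : IsUnit σ := by
  have hinj : Function.Injective σ := (injective_iff_map_eq_zero _).mpr fun x hx => by
    by_contra hx0
    exact h0 (fr.sig_zero_of hσ hx0 hx)
  let e := AddEquiv.ofBijective (σ : fr.A →+ fr.A) ⟨hinj, Finite.injective_iff_surjective.mp hinj⟩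
  exact ⟨⟨σ, e.symm.toAddMonoidHom, AddMonoidHom.ext fun x => e.apply_symm_apply x,
    AddMonoidHom.ext fun x => e.symm_apply_apply x⟩, rfl⟩

theorem exists_base : ∃ x : fr.A, x ≠ 0 := by
  obtain ⟨c, hc, hc0⟩ := d.exists_ne_zero fr.hH (fr.f_mem fr.i₀)
  exact ⟨⟨c, hc⟩, fun h => hc0 (congrArg Subtype.val h)⟩

theorem one_mem_sig {i : Fin fr.M} (hi : i ≠ fr.i₀) : (1 : AddMonoid.End fr.A) ∈ fr.sig hi := by
  obtain ⟨g, hg⟩ := fr.exists_phi_tau hi
  refine ⟨g, fun x => ?_⟩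
  rw [fr.phi_zero]
  exact hg x

theorem sig_eq_of_le {i j i' j' : Fin fr.M} {hij : i ≠ j} {hij' : i' ≠ j'}
    (h : fr.sig hij ≤ fr.sig hij') : fr.sig hij = fr.sig hij' := by
  refine le_antisymm h fun σ hσ => ?_
  obtain ⟨x, hx⟩ := fr.exists_base
  obtain ⟨τ, hτ, hτx⟩ := fr.sig_surj hij hx (σ x)
  rwa [← fr.sig_ext (h hτ) hσ hx hτx]

theorem sig_mul {i j l : Fin fr.M} {hij : i ≠ j} {hjl : j ≠ l} (hil : i ≠ l) {σ τ : AddMonoid.End fr.A}
    (hσ : σ ∈ fr.sig hij) (hτ : τ ∈ fr.sig hjl) : σ * τ ∈ fr.sig hil := by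
  obtain ⟨g, hg⟩ := hσ
  obtain ⟨g', hg'⟩ := hτ
  obtain ⟨g'', hg''⟩ := fr.exists_product hij hjl hil g g'
  refine ⟨g'', fun x => ?_⟩
  rw [hg'']
  show fr.tau g.1 (fr.tau g'.1 _) = (fr.phi i (σ (τ x)) : fr.W)
  rw [hg' x, hg]

theorem sig_left_inv {i j : Fin fr.M} (hij : i ≠ j) {ρ : AddMonoid.End fr.A} (hρ : ρ ∈ fr.sig hij)
    (h0 : ρ ≠ 0) : ∃ σ ∈ fr.sig hij.symm, σ * ρ = 1 := by
  obtain ⟨f, hf⟩ := hρ
  obtain ⟨x, hx⟩ := fr.exists_base
  have hρx : ρ x ≠ 0 := fun h => h0 (fr.sig_zero_of (hij := hij) ⟨f, hf⟩ hx h)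
  have hmem : ∀ z : fr.A, (fr.phi i (ρ z) : fr.W) + fr.phi j z ∈ d.comp fr.hH (f.1.1 • fr.f j) := fun z => by
    rw [← hf z, add_comm, ← fr.psi_eq_add]
    exact fr.psi_comp f.1 (fr.phi j z).2
  obtain ⟨g, hg⟩ := fr.exists_graph hij (fr.phi i (ρ x)).2 (fr.phi_ne_zero hρx) (fr.phi j x).2 (hmem x)
  obtain ⟨σ, hσ, hσg⟩ := fr.sig_exists hij.symm g
  refine ⟨σ, hσ, AddMonoidHom.ext fun z => ?_⟩
  obtain ⟨w, hw, hwe⟩ := hg _ (hmem z)
  obtain ⟨h1, h2⟩ := fr.add_unique hij (fr.phi i (ρ z)).2 (fr.phi j z).2 hw (fr.tau_mem g.1 w) hwe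
  rw [← h1, hσg] at h2
  exact (fr.phi j).injective (Subtype.ext h2.symm)

theorem sig_two_inv {i j : Fin fr.M} (hij : i ≠ j) (h1 : (1 : AddMonoid.End fr.A) ∈ fr.sig hij)
    {σ : AddMonoid.End fr.A} (hσ : σ ∈ fr.sig hij) (h0 : σ ≠ 0) :
    ∃ σ' ∈ fr.sig hij, σ' * σ = 1 := by
  obtain ⟨x, hx⟩ := fr.exists_base
  have hm1 : (-1 : AddMonoid.End fr.A) ≠ 0 := fun h => hx (by
    have := DFunLike.congr_fun h x
    exact neg_eq_zero.mp this)
  obtain ⟨τ, hτ, hτe⟩ := fr.sig_left_inv hij (neg_mem h1) hm1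
  have hτ' : τ = -1 := by
    refine AddMonoidHom.ext fun z => ?_
    have h := DFunLike.congr_fun hτe z
    change τ (-z) = z at h
    rw [map_neg] at h
    exact neg_eq_iff_eq_neg.mp h
  subst hτ'
  obtain ⟨a, ha⟩ := h1
  obtain ⟨b, hb⟩ := hτ
  obtain ⟨g, hg⟩ := hσ
  have hσx : σ x ≠ 0 := fun h => h0 (fr.sig_zero_of (hij := hij) ⟨g, hg⟩ hx h)
  have hga : ∀ z : fr.A, fr.psi a.1 (fr.phi j z) = fr.phi j z + fr.phi i z := fun z => by
    rw [fr.psi_eq_add, ha]
    rfl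
  have hgb : ∀ z : fr.A, fr.psi b.1 (fr.phi i z) = fr.phi i z + -(fr.phi j z : fr.W) := fun z => by
    rw [fr.psi_eq_add, hb]
    exact congrArg _ (fr.phi_neg j z)
  have haa : ∀ z : fr.A, fr.psi a.1 (fr.phi i z) = fr.phi i z := fun z => by
    rw [fr.psi_eq_add, fr.tau_kills a.1 a.2 hij (fr.phi i z).2, add_zero]
  have hbb : ∀ z : fr.A, fr.psi b.1 (fr.phi j z) = fr.phi j z := fun z => by
    rw [fr.psi_eq_add, fr.tau_kills b.1 b.2 hij.symm (fr.phi j z).2, add_zero]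
  have hmem : ∀ z : fr.A, (fr.phi j (-(σ z)) : fr.W) + fr.phi i z ∈
      d.comp fr.hH (a.1.1 • b.1.1 • a.1.1 • g.1.1 • fr.f j) := fun z => by
    have h := fr.psi_comp a.1 (fr.psi_comp b.1 (fr.psi_comp a.1 (fr.psi_comp g.1 (fr.phi j z).2)))
    rw [fr.psi_eq_add g.1, hg z] at h
    simp only [map_add, map_neg, hga, hgb, haa, hbb, ← smul_smul] at h
    convert h using 1
    rw [fr.phi_neg]
    abel
  obtain ⟨g', hg'⟩ := fr.exists_graph hij.symm (fr.phi j (-(σ x))).2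
    (fr.phi_ne_zero (neg_ne_zero.mpr hσx)) (fr.phi i x).2 (hmem x)
  obtain ⟨σ', hσ', hσ'g⟩ := fr.sig_exists hij g'
  refine ⟨-σ', neg_mem hσ', AddMonoidHom.ext fun z => ?_⟩
  obtain ⟨w, hw, hwe⟩ := hg' _ (hmem z)
  obtain ⟨e1, e2⟩ := fr.add_unique hij.symm (fr.phi j (-(σ z))).2 (fr.phi i z).2 hw (fr.tau_mem g'.1 w) hwe
  rw [← e1, hσ'g] at e2
  have e3 : σ' (-(σ z)) = z := (fr.phi i).injective (Subtype.ext e2.symm)
  show -(σ' (σ z)) = z
  rw [← map_neg]
  exact e3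

/-- The common value of the sets of endomorphisms, closed under multiplication. -/
theorem exists_field : ∃ K : Subring (AddMonoid.End fr.A),
    ∀ i j, ∀ hij : i ≠ j, ∀ σ, σ ∈ fr.sig hij ↔ σ ∈ K := by
  suffices ∃ S : AddSubgroup (AddMonoid.End fr.A), (∀ i j, ∀ hij : i ≠ j, fr.sig hij = S) ∧
      ∀ a ∈ S, ∀ b ∈ S, a * b ∈ S by
    obtain ⟨S, hS, hmul⟩ := this
    have hM := fr.two_le_M
    have h10 : (⟨1, by omega⟩ : Fin fr.M) ≠ fr.i₀ := fun h => by simp [Fin.ext_iff] at h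
    refine ⟨
      { carrier := S
        zero_mem' := S.zero_mem
        one_mem' := (hS _ _ h10).le (fr.one_mem_sig h10)
        add_mem' := S.add_mem
        neg_mem' := S.neg_mem
        mul_mem' := fun ha hb => hmul _ ha _ hb },
      fun i j hij σ => by rw [hS i j hij]; rfl⟩
  rcases eq_or_lt_of_le fr.two_le_M with hM | hM
  · set i₁ : Fin fr.M := ⟨1, by omega⟩ with hi₁
    have h10 : i₁ ≠ fr.i₀ := fun h => by simp [hi₁, Fin.ext_iff] at h
    have hone := fr.one_mem_sig h10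
    have hle : fr.sig h10.symm ≤ fr.sig h10 := by
      intro ρ hρ
      by_cases hρ0 : ρ = 0
      · rw [hρ0]; exact zero_mem _
      obtain ⟨σ, hσ, hσρ⟩ := fr.sig_left_inv h10.symm hρ hρ0
      have hσ0 : σ ≠ 0 := fun h => hρ0 (by
        have := congrArg (ρ * ·) hσρ
        simp only [h, zero_mul, mul_zero, mul_one] at this
        exact this.symm)
      obtain ⟨σ', hσ', hσ'σ⟩ := fr.sig_two_inv h10 hone hσ hσ0
      rwa [← left_inv_eq_right_inv hσ'σ hσρ]
    have heq := fr.sig_eq_of_le hle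
    refine ⟨fr.sig h10, fun i j hij => ?_, ?_⟩
    · have hi : i.1 < 2 := lt_of_lt_of_eq i.2 hM.symm
      have hj : j.1 < 2 := lt_of_lt_of_eq j.2 hM.symm
      rcases Nat.lt_or_ge i.1 1 with h | h
      · obtain rfl : i = fr.i₀ := Fin.ext (show i.1 = 0 by omega)
        obtain rfl : j = i₁ := Fin.ext (show j.1 = 1 by
          have : j.1 ≠ 0 := fun h' => hij (Fin.ext h'.symm)
          omega)
        exact heq
      · obtain rfl : i = i₁ := Fin.ext (show i.1 = 1 by omega)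
        obtain rfl : j = fr.i₀ := Fin.ext (show j.1 = 0 by
          have : j.1 ≠ 1 := fun h' => hij (Fin.ext h'.symm)
          omega)
        rfl
    have hinv : ∀ a ∈ fr.sig h10, a ≠ 0 → ∃ a' ∈ fr.sig h10, a' * a = 1 ∧ a * a' = 1 := by
      intro a ha ha0
      obtain ⟨a', ha', he⟩ := fr.sig_two_inv h10 hone ha ha0
      refine ⟨a', ha', he, ?_⟩
      obtain ⟨u, hu⟩ := fr.sig_isUnit ha ha0
      subst hu
      rw [show a' = ↑u⁻¹ from left_inv_eq_right_inv he u.mul_inv, Units.mul_inv]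
    obtain ⟨p, hp, hexp⟩ := d.exists_prime_exponent fr.hH
    obtain ⟨x, hx⟩ := fr.exists_base
    have hJ : IsJDiv p (fr.sig h10) := by
      refine ⟨hp, ?_, fun h => hx (DFunLike.congr_fun h x).symm, hone,
        fun a ha ha0 => fr.sig_isUnit ha ha0, ?_⟩
      · refine AddMonoidHom.ext fun z => ?_
        refine (AddMonoid.End.natCast_apply p z).trans (Subtype.ext ?_)
        exact Additive.toMul.injective (Subtype.ext (hexp _ (Additive.toMul z.1).2))
      · intro a ha b hb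
        by_cases ha0 : a = 0
        · simp [ha0]
        by_cases hb0 : b = 0
        · simp [hb0]
        by_cases hab : a * b = 1
        · rwa [hab, one_mul]
        obtain ⟨u, hu, hua, hau⟩ := hinv a ha ha0
        obtain ⟨w, hw, hwb, hbw⟩ := hinv b hb hb0
        have hwa : w - a ≠ 0 := fun h => hab (by rw [← sub_eq_zero.mp h]; exact hwb)
        obtain ⟨z, hz, hzl, hzr⟩ := hinv _ (sub_mem hw ha) hwa
        have key : (u + z) * (a - a * b * a) = 1 := by
          have e1 : a - a * b * a = (w - a) * b * a := by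
            rw [sub_mul, sub_mul, hwb, one_mul]
          calc (u + z) * (a - a * b * a) = u * a - u * a * b * a + z * (a - a * b * a) := by
                rw [add_mul, mul_sub u, ← mul_assoc u (a * b) a, ← mul_assoc u a b]
            _ = 1 - b * a + z * ((w - a) * b * a) := by rw [hua, one_mul, e1]
            _ = 1 - b * a + b * a := by
                rw [← mul_assoc, ← mul_assoc, hzl, one_mul]
            _ = 1 := by rw [sub_add_cancel]
        have hne : u + z ≠ 0 := fun h => by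
          rw [h, zero_mul] at key
          exact hx (DFunLike.congr_fun key x).symm
        obtain ⟨m, hm, hml, -⟩ := hinv _ (add_mem hu hz) hne
        rw [show a * b * a = a - m by rw [left_inv_eq_right_inv hml key, sub_sub_cancel]]
        exact sub_mem ha hm
    exact fun a ha b hb => hJ.mul_mem ha hb (hJ.commute ha hb)
  · have hex : ∀ i j : Fin fr.M, ∃ l, l ≠ i ∧ l ≠ j := fun i j => by
      by_contra h
      simp only [not_exists, not_and, not_not] at h
      have : (Finset.univ : Finset (Fin fr.M)).card ≤ ({i, j} : Finset (Fin fr.M)).card :=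
        Finset.card_le_card fun l _ => by
          simp only [Finset.mem_insert, Finset.mem_singleton]
          exact or_iff_not_imp_left.mpr (h l)
      rw [Finset.card_univ, Fintype.card_fin] at this
      have := this.trans (Finset.card_le_two)
      omega
    have hA : ∀ i j (hij : i ≠ j) (hi : i ≠ fr.i₀), j ≠ fr.i₀ → fr.sig hij = fr.sig hi :=
      fun i j hij hi hj => fr.sig_eq_of_le fun σ hσ => by
        simpa using fr.sig_mul hi hσ (fr.one_mem_sig hj)
    have hB : ∀ i j (hi : i ≠ fr.i₀) (hj : j ≠ fr.i₀), fr.sig hi = fr.sig hj := by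
      intro i j hi hj
      rcases eq_or_ne i j with rfl | hij
      · rfl
      refine (fr.sig_eq_of_le fun σ hσ => ?_).symm
      have h1 : (1 : AddMonoid.End fr.A) ∈ fr.sig hij := hA i j hij hi hj ▸ fr.one_mem_sig hi
      simpa using fr.sig_mul hi h1 hσ
    set i₁ : Fin fr.M := ⟨1, by omega⟩ with hi₁
    have h10 : i₁ ≠ fr.i₀ := fun h => by simp [hi₁, Fin.ext_iff] at h
    refine ⟨fr.sig h10, fun i j hij => ?_, fun a ha b hb => ?_⟩
    · by_cases hi : i = fr.i₀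
      · subst hi
        obtain ⟨l, hl0, hlj⟩ := hex fr.i₀ j
        refine fr.sig_eq_of_le fun σ hσ => ?_
        have h2 := fr.sig_mul hlj (fr.one_mem_sig hl0) hσ
        rw [one_mul, hA l j hlj hl0 hij.symm, hB l i₁ hl0 h10] at h2
        exact h2
      · by_cases hj : j = fr.i₀
        · subst hj
          exact hB i i₁ hij h10
        · rw [hA i j hij hi hj]
          exact hB i i₁ hi h10
    · obtain ⟨l, hl0, hl1⟩ := hex fr.i₀ i₁
      have ha' : a ∈ fr.sig hl1.symm := (hA i₁ l hl1.symm h10 hl0).symm ▸ ha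
      exact fr.sig_mul h10 ha' ((hB l i₁ hl0 h10).symm ▸ hb : b ∈ fr.sig hl0)

end CfsgLib.BlockElation.Frame
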