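import Cfsg.Agent.Lib.BlockElation.Elations

/-!
The elations of a hyperplane as an additive group with its components, frames of components, and
the transvections induced on it by the elations fixing a point off the hyperplane.
-/

set_option autoImplicit false
set_option linter.unusedSectionVars false

namespace CfsgLib.BlockElation.Geo

open MulAction

variable {G X Ω : Type*} [Group G] [MulAction G X] [MulAction G Ω] [Finite G] [Finite X] [Finite Ω]
  (d : Geo G X Ω) {H : Set X} (hH : d.IsHyp H)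
include hH

theorem comp_comm {y : X} (hy : y ∈ H) {a b : G} (ha : a ∈ d.hypEl H y) (hb : b ∈ d.hypEl H y) :
    a * b = b * a := by
  by_cases ha1 : a = 1
  · simp [ha1]
  obtain ⟨x, hx, hxy⟩ := d.hyp_exists_ne hH y
  obtain ⟨c, hc, hc1⟩ := d.hypEl_ne hH hx
  obtain ⟨z, hz, -, hzy, hm⟩ := d.product_mem hH hx hy hxy hc hc1 ha ha1
  have h1 : c * b = b * c := d.hypEl_commute hH hx hy hxy hc hb
  have h2 : (c * a) * b = b * (c * a) := d.hypEl_commute hH (d.hyp_line hH hx hy hxy hz) hy hzy hm hb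
  have h3 : c⁻¹ * b = b * c⁻¹ := (Commute.inv_left h1).eq
  calc a * b = c⁻¹ * ((c * a) * b) := by group
    _ = (c⁻¹ * b) * (c * a) := by rw [h2, mul_assoc]
    _ = b * a := by rw [h3]; group

theorem hypGroup_comm (a b : d.hypGroup hH) : a * b = b * a := by
  obtain ⟨x, hx, ha⟩ := a.2
  obtain ⟨y, hy, hb⟩ := b.2
  rcases eq_or_ne x y with rfl | hxy
  · exact Subtype.ext (d.comp_comm hH hx ha hb)
  · exact Subtype.ext (d.hypEl_commute hH hx hy hxy ha hb)

/-- The translations, written additively. -/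
abbrev V := Additive (d.hypGroup hH)

noncomputable instance instV : AddCommGroup (d.V hH) :=
  { (inferInstance : AddGroup (Additive (d.hypGroup hH))) with
    add_comm := fun a b => d.hypGroup_comm hH (Additive.toMul a) (Additive.toMul b) }

theorem exists_prime_exponent : ∃ p : ℕ, p.Prime ∧ ∀ g ∈ d.hypGroup hH, g ^ p = 1 := by
  obtain ⟨y, hy, -⟩ := d.hyp_exists_ne hH d.x₀
  obtain ⟨g, hg, hg1⟩ := d.hypEl_ne hH hy
  obtain ⟨p, hp, hdvd⟩ := Nat.exists_prime_and_dvd (mt orderOf_eq_one_iff.mp hg1)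
  haveI : Fact p.Prime := ⟨hp⟩
  set a := g ^ (orderOf g / p) with ha'
  have ha : a ∈ d.hypEl H y := pow_mem hg _
  have hord : orderOf a = p := orderOf_pow_orderOf_div (orderOf_pos g).ne' hdvd
  have ha1 : a ≠ 1 := fun e => by rw [e, orderOf_one] at hord; exact hp.one_lt.ne hord
  have hap : a ^ p = 1 := hord ▸ pow_orderOf_eq_one a
  refine ⟨p, hp, ?_⟩
  have key : ∀ {x}, x ∈ H → x ≠ y → ∀ b ∈ d.hypEl H x, b ^ p = 1 := by
    intro x hx hxy b hb
    by_cases hb1 : b = 1
    · rw [hb1, one_pow]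
    obtain ⟨z, hz, -, hzx, hm⟩ := d.product_mem hH hy hx (Ne.symm hxy) ha ha1 hb hb1
    have h1 : (a * b) ^ p = b ^ p := by
      rw [Commute.mul_pow (d.hypEl_commute hH hy hx (Ne.symm hxy) ha hb), hap, one_mul]
    exact d.el_inf hzx (h1 ▸ (d.mem_hypEl.mp (pow_mem hm p)).1) (d.mem_hypEl.mp (pow_mem hb p)).1
  rintro c ⟨x, hx, hc⟩
  rcases eq_or_ne x y with rfl | hxy
  · by_cases hc1 : c = 1
    · rw [hc1, one_pow]
    obtain ⟨w, hw, hwy⟩ := d.hyp_exists_ne hH x
    obtain ⟨b, hb, hb1⟩ := d.hypEl_ne hH hw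
    obtain ⟨z, hz, -, hzy, hm⟩ := d.product_mem hH hw hx hwy hb hb1 hc hc1
    have := key (d.hyp_line hH hw hx hwy hz) hzy _ hm
    rwa [Commute.mul_pow (d.hypEl_commute hH hw hx hwy hb hc), key hw hwy b hb, one_mul] at this
  · exact key hx hxy c hc

/-- The component of a point of the hyperplane. -/
noncomputable def comp (y : X) : AddSubgroup (d.V hH) :=
  ((d.hypEl H y).subgroupOf (d.hypGroup hH)).toAddSubgroup

theorem mem_comp {y : X} {v : d.V hH} :
    v ∈ d.comp hH y ↔ (Additive.toMul v).1 ∈ d.hypEl H y := Iff.rfl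

theorem card_comp {y : X} (hy : y ∈ H) : Nat.card (d.comp hH y) = d.t := by
  rw [← d.card_hypEl hH hy]
  exact Nat.card_congr ⟨fun v => ⟨(Additive.toMul v.1).1, v.2⟩,
    fun g => ⟨Additive.ofMul ⟨g.1, y, hy, g.2⟩, g.2⟩, fun v => rfl, fun g => rfl⟩

theorem exists_comp (v : d.V hH) : ∃ y ∈ H, v ∈ d.comp hH y := (Additive.toMul v).2

theorem comp_eq {x y : X} {v : d.V hH} (hv : v ≠ 0) (hx : v ∈ d.comp hH x) (hy : v ∈ d.comp hH y) :
    x = y := by
  by_contra hxy
  exact hv (Additive.toMul.injective (Subtype.ext (d.el_inf hxy (d.mem_hypEl.mp hx).1 (d.mem_hypEl.mp hy).1)))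

theorem exists_ne_zero {y : X} (hy : y ∈ H) : ∃ v ∈ d.comp hH y, v ≠ 0 := by
  obtain ⟨g, hg, hg1⟩ := d.hypEl_ne hH hy
  exact ⟨Additive.ofMul ⟨g, y, hy, hg⟩, hg,
    fun e => hg1 (congrArg (fun w : d.V hH => (Additive.toMul w).1) e)⟩

theorem comp_le_sup {x y z : X} (hx : x ∈ H) (hy : y ∈ H) (hxy : x ≠ y) (hz : z ∈ d.line x y) :
    d.comp hH z ≤ d.comp hH x ⊔ d.comp hH y := by
  rcases eq_or_ne z x with rfl | hzx
  · exact le_sup_left
  rcases eq_or_ne z y with rfl | hzy
  · exact le_sup_right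
  intro v hv
  by_cases hv0 : v = 0
  · rw [hv0]; exact zero_mem _
  have hzH := d.hyp_line hH hx hy hxy hz
  have hxl : x ∈ d.line z y := by
    rw [d.line_eq hxy hz (d.right_mem_line x y) hzy]
    exact d.left_mem_line x y
  obtain ⟨b, hb, -, hab⟩ := d.hypEl_step hH hzH hy hzy hxl hxy hzx.symm hv
    (fun e => hv0 (Additive.toMul.injective (Subtype.ext e)))
  have h1 : Additive.ofMul (⟨_, x, hx, hab⟩ : d.hypGroup hH) ∈ d.comp hH x := hab
  have h2 : Additive.ofMul (⟨b, y, hy, hb⟩ : d.hypGroup hH) ∈ d.comp hH y := hb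
  have : v = Additive.ofMul (⟨_, x, hx, hab⟩ : d.hypGroup hH) - Additive.ofMul ⟨b, y, hy, hb⟩ := by
    rw [eq_sub_iff_add_eq]
    exact Additive.toMul.injective (Subtype.ext rfl)
  rw [this]
  exact sub_mem (AddSubgroup.mem_sup_left h1) (AddSubgroup.mem_sup_right h2)

theorem comp_of_add {x y w : X} (hx : x ∈ H) (hy : y ∈ H) (hxy : x ≠ y) {u v : d.V hH}
    (hu : u ∈ d.comp hH x) (hu0 : u ≠ 0) (hv : v ∈ d.comp hH y) (hv0 : v ≠ 0)
    (hw : u + v ∈ d.comp hH w) : w ∈ d.line x y := by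
  obtain ⟨z, hz, hzx, hzy, hm⟩ := d.product_mem hH hx hy hxy hu
    (fun e => hu0 (Additive.toMul.injective (Subtype.ext e))) hv
    (fun e => hv0 (Additive.toMul.injective (Subtype.ext e)))
  have hne : u + v ≠ 0 := fun e => hxy (d.comp_eq hH hv0 (by
    rw [eq_neg_of_add_eq_zero_right e]; exact neg_mem hu) hv)
  rw [d.comp_eq hH hne hw (show u + v ∈ d.comp hH z from hm)]
  exact hz

/-- The sum map of a family of components. -/
noncomputable def frameSum {M : ℕ} (f : Fin M → X) : (∀ i, d.comp hH (f i)) →+ d.V hH where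
  toFun c := ∑ i, (c i : d.V hH)
  map_zero' := by simp
  map_add' a b := by simp [Finset.sum_add_distrib]

theorem exists_frame : ∃ (M : ℕ) (f : Fin M → X), (∀ i, f i ∈ H) ∧
    Function.Bijective (d.frameSum hH f) := by
  classical
  haveI : Finite (d.V hH) := Finite.of_equiv _ Additive.ofMul
  have key : ∀ n : ℕ, ∀ (M : ℕ) (f : Fin M → X), (∀ i, f i ∈ H) → Function.Injective (d.frameSum hH f) →
      (∀ v ∈ (d.frameSum hH f).range, ∀ y, v ≠ 0 → v ∈ d.comp hH y → d.comp hH y ≤ (d.frameSum hH f).range) →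
      Nat.card (d.V hH) - Nat.card (d.frameSum hH f).range = n →
      ∃ (M : ℕ) (f : Fin M → X), (∀ i, f i ∈ H) ∧ Function.Bijective (d.frameSum hH f) := by
    intro n
    induction n using Nat.strong_induction_on with
    | _ n ih =>
    intro M f hf hinj hclosed hn
    by_cases hsurj : Function.Surjective (d.frameSum hH f)
    · exact ⟨M, f, hf, hinj, hsurj⟩
    simp only [Function.Surjective, not_forall, not_exists] at hsurj
    obtain ⟨v, hv⟩ := hsurj
    set U := (d.frameSum hH f).range with hU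
    have hvU : v ∉ U := fun ⟨c, hc⟩ => hv c hc
    obtain ⟨z, hz, hvz⟩ := d.exists_comp hH v
    have hsum : ∀ c : ∀ i, d.comp hH ((Fin.snoc f z : Fin (M + 1) → X) i),
        d.frameSum hH (Fin.snoc f z) c =
          d.frameSum hH f (fun i => ⟨c i.castSucc, by simpa using (c i.castSucc).2⟩) + c (Fin.last M) := by
      intro c
      show ∑ i, (c i : d.V hH) = _
      rw [Fin.sum_univ_castSucc]
      rfl
    have hrange : ∀ w, w ∈ (d.frameSum hH (Fin.snoc f z)).range ↔ ∃ u ∈ U, ∃ c ∈ d.comp hH z, u + c = w := by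
      intro w
      constructor
      · rintro ⟨c, rfl⟩
        exact ⟨_, ⟨_, rfl⟩, _, by simpa using (c (Fin.last M)).2, (hsum c).symm⟩
      · rintro ⟨_, ⟨u, rfl⟩, c, hc, rfl⟩
        refine ⟨fun i => Fin.lastCases (motive := fun i => d.comp hH ((Fin.snoc f z : Fin (M + 1) → X) i))
          ⟨c, by simpa using hc⟩ (fun j => ⟨u j, by simpa using (u j).2⟩) i, ?_⟩
        rw [hsum]
        simp
    have hUz : ∀ c ∈ d.comp hH z, c ∈ U → c = 0 := by
      intro c hc hcU
      by_contra hc0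
      exact hvU (hclosed c hcU z hc0 hc hvz)
    refine ih _ ?_ (M + 1) (Fin.snoc f z)
      (fun i => Fin.lastCases (motive := fun i => (Fin.snoc f z : Fin (M + 1) → X) i ∈ H)
        (by simpa using hz) (fun j => by simpa using hf j) i) ?_ ?_ rfl
    · rw [← hn]
      have hlt : Nat.card U < Nat.card (d.frameSum hH (Fin.snoc f z)).range := by
        refine Set.ncard_lt_ncard (s := (U : Set (d.V hH))) (t := ((d.frameSum hH (Fin.snoc f z)).range : Set (d.V hH)))
          ⟨fun u hu => (hrange u).mpr ⟨u, hu, 0, zero_mem _, add_zero u⟩, fun h => hvU (h ?_)⟩ (Set.toFinite _)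
        exact (hrange v).mpr ⟨0, zero_mem _, v, hvz, zero_add v⟩
      have hle : Nat.card (d.frameSum hH (Fin.snoc f z)).range ≤ Nat.card (d.V hH) :=
        Nat.card_le_card_of_injective _ Subtype.val_injective
      omega
    · refine (injective_iff_map_eq_zero _).mpr fun c hc => ?_
      rw [hsum] at hc
      have hcl : (c (Fin.last M) : d.V hH) ∈ U := by
        rw [eq_neg_of_add_eq_zero_right hc]
        exact neg_mem ⟨_, rfl⟩
      have h0 : (c (Fin.last M) : d.V hH) = 0 := hUz _ (by simpa using (c (Fin.last M)).2) hcl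
      rw [h0, add_zero] at hc
      have h1 := (injective_iff_map_eq_zero _).mp hinj _ hc
      funext i
      refine Fin.lastCases ?_ (fun j => ?_) i
      · exact Subtype.ext h0
      · have := congrFun h1 j
        exact Subtype.ext (congrArg Subtype.val this :)
    · intro w hw y hw0 hwy
      obtain ⟨u, hu, c, hc, rfl⟩ := (hrange w).mp hw
      have hUle : ∀ x ∈ U, x ∈ (d.frameSum hH (Fin.snoc f z)).range := fun x hx =>
        (hrange x).mpr ⟨x, hx, 0, zero_mem _, add_zero x⟩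
      have hzle : d.comp hH z ≤ (d.frameSum hH (Fin.snoc f z)).range := fun x hx =>
        (hrange x).mpr ⟨0, zero_mem _, x, hx, zero_add x⟩
      by_cases hu0 : u = 0
      · rw [hu0, zero_add] at hw0 hwy
        rw [d.comp_eq hH hw0 hwy hc]
        exact hzle
      by_cases hc0 : c = 0
      · rw [hc0, add_zero] at hw0 hwy
        exact fun x hx => hUle x (hclosed u hu y hw0 hwy hx)
      obtain ⟨a, ha, hua⟩ := d.exists_comp hH u
      have haz : a ≠ z := fun e => hu0 (hUz u (e ▸ hua) hu)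
      refine (d.comp_le_sup hH ha hz haz (d.comp_of_add hH ha hz haz hua hu0 hc hc0 hwy)).trans ?_
      exact sup_le (fun x hx => hUle x (hclosed u hu a hu0 hua hx)) hzle
  refine key _ 0 (fun i => i.elim0) (fun i => i.elim0) (fun a b _ => funext fun i => i.elim0) ?_ rfl
  rintro _ ⟨c, rfl⟩ y h0
  exact absurd (show (∑ i : Fin 0, (c i : d.V hH)) = 0 from Finset.sum_eq_zero fun i _ => i.elim0) h0

theorem card_V : Nat.card (d.V hH) = 1 + d.k * (d.t - 1) := by
  rw [← d.card_hypGroup hH]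
  exact Nat.card_congr Additive.toMul

theorem card_V' : Nat.card (d.V hH) = d.t * (d.k - d.l) := by
  rw [d.card_V hH, d.k_eq hH]
  obtain ⟨w, hw⟩ : ∃ w, d.t = w + 1 := ⟨d.t - 1, by have := d.t_pos; omega⟩
  rw [hw, show w + 1 - 1 = w by omega,
    show d.l * (w + 1) + 1 - d.l = d.l * w + 1 by rw [mul_add, mul_one]; omega]
  ring

theorem a_eq : d.a = d.k - d.l := by
  have h1 := d.key_eq
  rw [d.s_eq, d.k_eq hH] at h1
  rw [d.k_eq hH]
  obtain ⟨b, hb⟩ : ∃ b, d.a = b + 1 := ⟨d.a - 1, by have := d.a_pos; omega⟩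
  obtain ⟨w, hw⟩ : ∃ w, d.t = w + 1 := ⟨d.t - 1, by have := d.t_pos; omega⟩
  rw [hb, hw, show b + 1 - 1 = b by omega,
    show (w + 1) * (b + 1) - 1 = w * b + w + b by rw [add_mul, mul_add, mul_one, one_mul]; omega] at h1
  rw [hb, hw, show d.l * (w + 1) + 1 - d.l = d.l * w + 1 by rw [mul_add, mul_one]; omega]
  have h2 : b = d.l * w := by linarith
  rw [h2]

theorem s_eq_card : d.s = Nat.card (d.V hH) := by
  rw [d.card_V' hH, d.s_eq, d.a_eq hH]

theorem card_el_fixing (x : X) (Y : Finset X) :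
    d.s ≤ Nat.card (d.El x ⊓ fixingSubgroup G (Y : Set X) : Subgroup G) * d.t ^ Y.card := by
  classical
  induction Y using Finset.induction_on with
  | empty =>
    rw [Finset.card_empty, pow_zero, mul_one]
    refine ((d.card_el x).symm.trans ?_).le
    rw [show (d.El x ⊓ fixingSubgroup G ((∅ : Finset X) : Set X)) = d.El x from
      inf_eq_left.mpr fun g _ => by simp [mem_fixingSubgroup_iff]]
  | @insert y Y hy ih =>
    rw [Finset.card_insert_of_notMem hy, pow_succ]
    set S := d.El x ⊓ fixingSubgroup G (Y : Set X)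
    have horb : (orbit S y).ncard ≤ d.t := by
      rcases eq_or_ne x y with rfl | hxy
      · have hsub : orbit S x ⊆ {x} := by
          rintro _ ⟨g, rfl⟩
          exact d.el_stab x g.1 g.2.1
        refine (Set.ncard_le_ncard hsub).trans ?_
        rw [Set.ncard_singleton]
        exact d.t_pos
      · rw [← d.card_orbit hxy]
        refine Set.ncard_le_ncard ?_
        rintro _ ⟨g, rfl⟩
        exact ⟨⟨g.1, g.2.1⟩, rfl⟩
    have h2 : Nat.card (stabilizer S y) =
        Nat.card (d.El x ⊓ fixingSubgroup G ((insert y Y : Finset X) : Set X) : Subgroup G) := by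
      refine Nat.card_congr ⟨fun g => ⟨g.1.1, g.1.2.1, ?_⟩, fun g => ⟨⟨g.1, g.2.1, ?_⟩, ?_⟩,
        fun g => rfl, fun g => rfl⟩
      · refine (mem_fixingSubgroup_iff G).mpr fun z hz => ?_
        rw [Finset.coe_insert] at hz
        rcases hz with rfl | hz
        · exact g.2
        · exact (mem_fixingSubgroup_iff G).mp g.1.2.2 z hz
      · exact (mem_fixingSubgroup_iff G).mpr fun z hz =>
          (mem_fixingSubgroup_iff G).mp g.2.2 z (Finset.mem_insert_of_mem hz)
      · exact (mem_fixingSubgroup_iff G).mp g.2.2 y (Finset.mem_insert_self y Y)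
    calc d.s ≤ Nat.card S * d.t ^ Y.card := ih
      _ = (orbit S y).ncard * Nat.card (stabilizer S y) * d.t ^ Y.card := by
          rw [← index_stabilizer, Subgroup.index_mul_card]
      _ ≤ d.t * Nat.card (stabilizer S y) * d.t ^ Y.card :=
          Nat.mul_le_mul_right _ (Nat.mul_le_mul_right _ horb)
      _ = _ := by rw [h2]; ring

theorem line_off {y : X} (hy : y ∈ H) {u : X} (hu : u ∉ H) {z : X} (hz : z ∈ d.line y u) (hzy : z ≠ y) :
    ∃ g ∈ d.hypEl H y, g • u = z := by
  have hyu : y ≠ u := fun h => hu (h ▸ hy)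
  have h : orbit (d.hypEl H y) u = d.line y u \ {y} := by
    refine Set.eq_of_subset_of_ncard_le ?_ ?_ (Set.toFinite _)
    · rintro _ ⟨g, rfl⟩
      exact (d.line_bound hyu).1 ⟨⟨g.1, (d.mem_hypEl.mp g.2).1⟩, rfl⟩
    · rw [d.line_sdiff hyu, d.card_orbit hyu, ← d.card_hypEl hH hy, ← index_stabilizer,
        (Subgroup.eq_bot_iff_forall (stabilizer (d.hypEl H y) u)).mpr fun g hg =>
          Subtype.ext (d.hypGroup_semi hH ⟨y, hy, g.2⟩ hu hg), Subgroup.index_bot]
  obtain ⟨g, hg⟩ : z ∈ orbit (d.hypEl H y) u := h ▸ ⟨hz, hzy⟩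
  exact ⟨g.1, g.2, hg⟩

theorem el_smul_hyp {x : X} (hx : x ∈ H) {e : G} (he : e ∈ d.El x) {u : X} (hu : u ∈ H) : e • u ∈ H := by
  rcases eq_or_ne x u with rfl | hxu
  · rwa [d.el_stab _ e he]
  · exact d.hyp_line hH hx hu hxu (d.smul_el_mem_line he u)

theorem conj_hypEl {g : G} (hg : ∀ u ∈ H, g⁻¹ • u ∈ H) {y : X} {c : G} (hc : c ∈ d.hypEl H y) :
    g * c * g⁻¹ ∈ d.hypEl H (g • y) := by
  obtain ⟨hc1, hc2⟩ := d.mem_hypEl.mp hc
  refine d.mem_hypEl.mpr ⟨d.el_conj g y c hc1, fun u hu => ?_⟩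
  rw [mul_smul, mul_smul, hc2 _ (hg u hu), smul_inv_smul]

end CfsgLib.BlockElation.Geo
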